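import Mathlib
import Cfsg.Agent.H2.FT
import Cfsg.Agent.H1.Cop2
import Cfsg.Agent.H1.Fitting
import Cfsg.Agent.H3.Burnside
import Cfsg.Agent.S0028

set_option autoImplicit false

namespace CfsgH1
open Cfsg Subgroup CfsgH2
open scoped commutatorElement

variable {G : Type*} [Group G]

theorem m1 {x y : G} : x ∈ C1[y] ↔ Commute x y := mem_centralizer_singleton_iff

theorem zle {z x : G} (h : z ∈ center G) : Commute x z := mem_center_iff.1 h x

theorem comm_of_pow {g x : G} {n : ℕ} (hn : n.Coprime (orderOf x)) (h : Commute g (x ^ n)) : Commute g x := by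
  obtain ⟨k, hk⟩ := mem_zpowers_iff.1 (mem_zpowers_pow_iff.2 hn)
  rw [← hk]; exact h.zpow_right k

theorem c1_mul_cop {x y : G} (h : Commute x y) (c : (orderOf x).Coprime (orderOf y)) :
    C1[x * y] = C1[x] ⊓ C1[y] := by
  ext g; simp only [mem_inf, m1]
  refine ⟨fun k => ⟨comm_of_pow c.symm ?_, comm_of_pow c ?_⟩, fun k => k.1.mul_right k.2⟩
  · have := k.pow_right (orderOf y); rwa [h.mul_pow, pow_orderOf_eq_one, mul_one] at this
  · have := k.pow_right (orderOf x); rwa [h.mul_pow, pow_orderOf_eq_one, one_mul] at this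

/-- `g` has order a power of `s`. -/
def Pe (s : ℕ) (g : G) : Prop := ∃ k, g ^ s ^ k = 1

theorem Pe.cop {s n : ℕ} {g : G} (e : Pe s g) (c : s.Coprime n) : (orderOf g).Coprime n := by
  obtain ⟨k, hk⟩ := e
  exact (c.pow_left k).coprime_dvd_left (orderOf_dvd_of_pow_eq_one hk)

theorem Pe.cop2 {s u : ℕ} {g k : G} (e : Pe s g) (f : Pe u k) (c : s.Coprime u) : (orderOf g).Coprime (orderOf k) :=
  e.cop (f.cop c.symm).symm

theorem pe_of {s : ℕ} {g : G} (e : orderOf g = s) : Pe s g := ⟨1, by rw [pow_one, ← e, pow_orderOf_eq_one]⟩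

variable [Finite G]

theorem le_of_pe {D E : Subgroup G} (h : ∀ s : ℕ, s.Prime → ∀ x ∈ D, Pe s x → x ∈ E) : D ≤ E :=
  le_of_syl fun p _ _ => by
    obtain ⟨P, hP⟩ := exists_syl (p := p) D
    exact ⟨P, hP, fun x hx => h p Fact.out x (hP.le hx) (pgroup_pow_eq_one hP.pg hx)⟩

theorem pz {p : ℕ} [hp : Fact p.Prime] {P : Subgroup G} (h : PG[p, P]) (h0 : P ≠ ⊥) :
    ∃ z ∈ P, orderOf z = p ∧ P ≤ C1[z] := by
  haveI := (nontrivial_iff_ne_bot P).2 h0
  haveI := h.center_nontrivial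
  obtain ⟨n, n0, hn⟩ := (h.to_subgroup (center P)).nontrivial_iff_card.1 inferInstance
  obtain ⟨z, hz⟩ := exists_prime_orderOf_dvd_card' (G := center P) p (hn ▸ dvd_pow_self p n0.ne')
  exact ⟨z.1.1, z.1.2, by rw [orderOf_coe, orderOf_coe]; exact hz, fun x hx =>
    m1.2 (congrArg Subtype.val (mem_center_iff.1 z.2 ⟨x, hx⟩))⟩

theorem ts_syl {p c : ℕ} [Fact p.Prime] (dp : p * c ∣ Nat.card G) {P D : Subgroup G} (hP : Syl p P ⊤) (l : P ≤ D)
    (e : o[D] = c) : False := by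
  refine hP.not_dvd_of_le l ?_
  rw [relIndex_top_right]
  rw [← D.index_mul_card, e] at dp
  exact Nat.dvd_of_mul_dvd_mul_right (e ▸ Nat.card_pos) dp

theorem syl_max {p : ℕ} [Fact p.Prime] {T D D' U : Subgroup G} (hT : Syl p T D) (e : o[D] = o[D']) (hU : PG[p, U])
    (l : U ≤ D') (TU : T ≤ U) : U ≤ T := by
  obtain ⟨T', t⟩ := exists_syl (p := p) D'
  have := t.card_le hU l
  rw [t.card_eq, ← e, ← hT.card_eq] at this
  exact (eq_of_le_of_card_ge TU this).ge

theorem fpf_cyc {P T J : Subgroup G} {s : ℕ} (n : P ≤ N[T]) (cop : o[P].Coprime o[T])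
    (hc : ∀ a ∈ P, ∀ b ∈ P, a * b * (b * a)⁻¹ ∈ C[T]) (hf : ∀ a ∈ P, a ∉ C[T] → T ⊓ C1[a] ≤ J) (nJ : ¬ T ≤ J)
    (he : ∀ a ∈ P, a ^ s ∈ C[T]) : C[T].relIndex P ∣ s := by
  let ρ : P →* MulAut T := T.normalizerMonoidHom.comp (inclusion n)
  have hρ : ∀ (a : P) (x : T), (ρ a x : G) = a * x * (a : G)⁻¹ := fun a x => rfl
  have k : ∀ a : P, ρ a = 1 ↔ (a : G) ∈ C[T] := fun a => by
    rw [MulEquiv.ext_iff, mem_centralizer_iff]
    refine ⟨fun h x hx => ?_, fun h x => Subtype.ext ?_⟩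
    · have := congrArg Subtype.val (h ⟨x, hx⟩)
      rw [hρ] at this
      exact (mul_inv_eq_iff_eq_mul.1 this).symm
    · rw [hρ, ← h x x.2]; simp
  have ker : ρ.ker = C[T].subgroupOf P := by ext a; rw [MonoidHom.mem_ker, k, mem_subgroupOf]
  have cd : Nat.card ρ.range = C[T].relIndex P := by rw [relIndex, ← ker, index_ker]
  have cy : IsCyclic ρ.range := by
    by_contra nc
    let Γ := T ⋊[MonoidHom.id _] MulAut T
    haveI : Finite Γ := Finite.of_equiv _ SemidirectProduct.equivProd.symm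
    let i : MulAut T →* Γ := SemidirectProduct.inr
    let j : T →* Γ := SemidirectProduct.inl
    have hi : Function.Injective i := SemidirectProduct.inr_injective
    have hj : Function.Injective j := SemidirectProduct.inl_injective
    have e := ρ.range.equivMapOfInjective i hi
    haveI : j.range.Normal := by
      rw [show j.range = _ from SemidirectProduct.range_inl_eq_ker_rightHom]; infer_instance
    have := le_of_cent1_noncyclic (A := ρ.range.map i) (K := j.range) (J := (J.subgroupOf T).map j) ⟨⟨?_⟩⟩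
      (fun h => nc (isCyclic_of_surjective e.symm e.symm.surjective)) (le_top.trans (normalizer_eq_top_iff.2 ‹j.range.Normal›).ge) ?_ ?_
    · refine nJ fun x hx => ?_
      obtain ⟨y, hy, e⟩ := this ⟨⟨x, hx⟩, rfl⟩
      rw [hj e] at hy; exact hy
    · rintro ⟨_, _, ⟨a, rfl⟩, rfl⟩ ⟨_, _, ⟨b, rfl⟩, rfl⟩
      refine Subtype.ext ?_
      show i (ρ a) * i (ρ b) = i (ρ b) * i (ρ a)
      rw [← map_mul, ← map_mul, ← map_mul, ← map_mul, ← mul_inv_eq_one, ← map_inv, ← map_mul, ← map_inv, ← map_mul,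
        (k _).2 (hc a a.2 b b.2), map_one]
    · rw [← Nat.card_congr e.toEquiv, ← Nat.card_congr (MonoidHom.ofInjective hj).toEquiv]
      exact cop.coprime_dvd_left (card_range_dvd ρ)
    · rintro _ ⟨_, ⟨a, rfl⟩, rfl⟩ a1 _ ⟨⟨x, rfl⟩, hx⟩
      refine ⟨x, hf a a.2 (fun h => a1 (by rw [(k a).2 h, map_one])) ⟨x.2, m1.2 ?_⟩, rfl⟩
      have h1 : j (ρ a x) = i (ρ a) * j x * i (ρ a)⁻¹ := SemidirectProduct.inl_aut (ρ a) x
      rw [← (m1.1 hx).eq, map_inv, mul_inv_cancel_right] at h1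
      have h2 := congrArg Subtype.val (hj h1)
      rw [hρ] at h2
      exact (mul_inv_eq_iff_eq_mul.1 h2).symm
  rw [← cd, ← cy.exponent_eq_card]
  refine Monoid.exponent_dvd_of_forall_pow_eq_one ?_
  rintro ⟨_, a, rfl⟩
  exact Subtype.ext (by rw [coe_pow, ← map_pow]; exact (k _).2 (he a a.2))

/-- Two class sizes outside each prime dividing the order of the centre. -/
structure TSz (G : Type*) [Group G] (c p r : ℕ) : Prop where
  hp : p.Prime
  hr : r.Prime
  ne : p ≠ r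
  dp : p * c ∣ Nat.card G
  dr : r * c ∣ Nat.card G
  zp : ∃ z ∈ center G, orderOf z = p
  zr : ∃ z ∈ center G, orderOf z = r
  H : ∀ z ∈ center G, (orderOf z).Prime → ∀ g : G, (orderOf g).Coprime (orderOf z) → g ∈ center G ∨ o[C1[g]] = c

/-- The centralizer of `g` is abelian. -/
def AbC (g : G) : Prop := ∀ x ∈ C1[g], C1[g] ≤ C1[x]

/-- A third prime divides the order of the centre. -/
def Gd (G : Type*) [Group G] (s u : ℕ) : Prop := ∃ z ∈ center G, (orderOf z).Prime ∧ s ≠ orderOf z ∧ u ≠ orderOf z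

namespace TSz
variable {c p r s : ℕ} {g : G}

omit [Finite G] in
theorem symm (h : TSz G c p r) : TSz G c r p := ⟨h.hr, h.hp, h.ne.symm, h.dr, h.dp, h.zr, h.zp, h.H⟩

omit [Finite G] in
theorem prim (h : TSz G c p r) (hs : s.Prime) (e : Pe s g) (n : g ∉ center G) : o[C1[g]] = c := by
  by_cases k : s = p
  · obtain ⟨z, hz, o⟩ := h.zr
    exact (h.H z hz (o ▸ h.hr) g (e.cop (o ▸ (Nat.coprime_primes hs h.hr).2 (k ▸ h.ne)))).resolve_left n
  · obtain ⟨z, hz, o⟩ := h.zp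
    exact (h.H z hz (o ▸ h.hp) g (e.cop (o ▸ (Nat.coprime_primes hs h.hp).2 k))).resolve_left n

theorem has_p (h : TSz G c p r) (e : o[C1[g]] = c) : ∃ k ∈ C1[g], k ∉ center G ∧ Pe p k := by
  haveI := Fact.mk h.hp
  obtain ⟨P, hP⟩ := exists_syl (p := p) (⊤ : Subgroup G)
  obtain ⟨a, ha, an⟩ : ∃ a ∈ P, a ∉ center G := by
    by_contra! k
    exact ts_syl h.dp hP (fun x hx => m1.2 (zle (k x hx)).symm) e
  obtain ⟨T, hT⟩ := exists_syl (p := p) C1[g]
  by_contra! k
  have tz : T ≤ center G := fun x hx => by_contra fun n => k x (hT.le hx) n (pgroup_pow_eq_one hT.pg hx)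
  obtain ⟨j, hj⟩ := pgroup_pow_eq_one hP.pg ha
  refine an (tz (syl_max hT (e.trans (h.prim h.hp ⟨j, hj⟩ an).symm) (U := T ⊔ zpowers a)
    (isPGroup_sup hT.pg (CfsgH2.isPGroup_zpowers hj) (Or.inl (tz.trans (center_le_normalizer _))))
    (sup_le (fun x hx => m1.2 (zle (tz hx)).symm) (zpowers_le.2 (m1.2 rfl))) le_sup_left
    (mem_sup_right (mem_zpowers a))))

theorem core' (h : TSz G c p r) (hs : s.Prime) (ne : s ≠ p) (U : Subgroup G) [U.Normal] (hU : PG[s, U]) :
    U ≤ center G := by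
  haveI := Fact.mk h.hp
  haveI := Fact.mk hs
  intro a ha
  by_contra an
  obtain ⟨P, hP⟩ := exists_syl (p := p) (⊤ : Subgroup G)
  obtain ⟨b, hb, bn⟩ : ∃ b ∈ P, b ∉ C1[a] := by
    by_contra! k
    exact ts_syl h.dp hP k (h.prim hs (pgroup_pow_eq_one hU ha) an)
  have pb : Pe p b := pgroup_pow_eq_one hP.pg hb
  have bz : b ∉ center G := fun k => bn (m1.2 (zle k).symm)
  obtain ⟨T, hT⟩ := exists_syl (p := s) C1[b]
  have nU : ∀ X : Subgroup G, X ≤ N[U] := fun X => le_top.trans (normalizer_eq_top_iff.2 ‹U.Normal›).ge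
  have cz : C[zpowers b] = C1[b] := by rw [zpowers_eq_closure, centralizer_closure]
  refine bn (m1.2 (Cfsg.Agent.S0028.result s T (zpowers b) U hT.pg ?_ hU (cz ▸ hT.le) (nU _) (nU _) ?_
    (mem_zpowers b) a ha).symm)
  · rw [Nat.card_zpowers]; exact pb.cop ((Nat.coprime_primes h.hp hs).2 ne.symm)
  · rw [cz]
    rintro x ⟨xU, xT⟩
    by_contra xn
    have xz : x ∉ center G := fun k => xn (m1.2 (zle k).symm)
    refine xn (hT.le (syl_max hT ((h.prim h.hp pb bz).trans (h.prim hs (pgroup_pow_eq_one hU xU) xz).symm)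
      (U := (T ⊔ U) ⊓ C1[x]) ((isPGroup_sup hT.pg hU (Or.inl (nU _))).to_le inf_le_left) inf_le_right
      (le_inf le_sup_left fun y hy => m1.2 (xT y hy)) ⟨mem_sup_right xU, m1.2 rfl⟩))

theorem core (h : TSz G c p r) (hs : s.Prime) (U : Subgroup G) [U.Normal] (hU : PG[s, U]) : U ≤ center G := by
  by_cases k : s = p
  · exact h.symm.core' hs (k ▸ h.ne) U hU
  · exact h.core' hs k U hU

theorem eqc (h : TSz G c p r) {u : ℕ} {k : G} (hs : s.Prime) (hu : u.Prime) (ne : s ≠ u) (d : Gd G s u) (e : Pe s g)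
    (f : Pe u k) (gn : g ∉ center G) (kn : k ∉ center G) (cm : Commute g k) : C1[g] = C1[k] := by
  obtain ⟨z, hz, o, n1, n2⟩ := d
  have q := c1_mul_cop cm (e.cop2 f ((Nat.coprime_primes hs hu).2 ne))
  rcases h.H z hz o (g * k) ((Nat.Coprime.mul_left (e.cop ((Nat.coprime_primes hs o).2 n1))
    (f.cop ((Nat.coprime_primes hu o).2 n2))).coprime_dvd_left cm.orderOf_mul_dvd_mul_orderOf) with w | w
  · exact absurd (mem_center_iff.2 fun x => m1.1 (q.le (m1.2 (zle w))).1) gn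
  · rw [q] at w
    exact (eq_of_le_of_card_ge inf_le_left (w.trans (h.prim hs e gn).symm).ge).symm.trans
      (eq_of_le_of_card_ge inf_le_right (w.trans (h.prim hu f kn).symm).ge)

theorem ab' (h : TSz G c p r) (hs : s.Prime) (ne : s ≠ p) (d : ∀ v, Gd G s v) (e : Pe s g) (gn : g ∉ center G) :
    AbC g := by
  obtain ⟨k, hk, kn, pk⟩ := h.has_p (h.prim hs e gn)
  have q := h.eqc hs h.hp ne (d p) e pk gn kn (m1.1 hk).symm
  have : C1[g] ≤ C[C1[g]] := le_of_pe fun v hv x hx px => by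
    by_cases xn : x ∈ center G
    · exact fun y _ => zle xn
    by_cases w : s = v
    · subst w
      rw [q, ← h.eqc hs h.hp ne (d p) px pk xn kn (m1.1 (q ▸ hx))]
      exact fun y hy => m1.1 hy
    · rw [h.eqc hs hv w (d v) e px gn xn (m1.1 hx).symm]
      exact fun y hy => m1.1 hy
  exact fun x hx y hy => m1.2 (this hx y hy)

theorem ab (h : TSz G c p r) (hs : s.Prime) (d : ∀ v, Gd G s v) (e : Pe s g) (gn : g ∉ center G) : AbC g := by
  by_cases k : s = p
  · exact h.symm.ab' hs (k ▸ h.ne) d e gn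
  · exact h.ab' hs k d e gn

theorem all_ab (h : TSz G c p r) {q : ℕ} (hq : q.Prime) (n1 : q ≠ p) (n2 : q ≠ r) (d : q ∣ Nat.card G) (hs : s.Prime)
    (e : Pe s g) (gn : g ∉ center G) : AbC g := by
  haveI := Fact.mk hq
  obtain ⟨z, hz, o⟩ := h.zp
  obtain ⟨w, hw, o'⟩ := h.zr
  have gp : ∀ {a b}, a ≠ p → b ≠ p → Gd G a b := fun k l => ⟨z, hz, o ▸ h.hp, o ▸ k, o ▸ l⟩
  have gr : ∀ {a b}, a ≠ r → b ≠ r → Gd G a b := fun k l => ⟨w, hw, o' ▸ h.hr, o' ▸ k, o' ▸ l⟩
  have ne := h.ne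
  by_cases k : ∃ y ∈ center G, orderOf y = q
  · obtain ⟨y, hy, o''⟩ := k
    refine h.ab hs (fun v => ?_) e gn
    by_cases k1 : s ≠ p ∧ v ≠ p
    · exact gp k1.1 k1.2
    by_cases k2 : s ≠ r ∧ v ≠ r
    · exact gr k2.1 k2.2
    exact ⟨y, hy, o'' ▸ hq, by omega, by omega⟩
  push Not at k
  obtain ⟨y, hy⟩ := exists_prime_orderOf_dvd_card' q d
  have dc : q ∣ o[C1[g]] := by
    rw [h.prim hs e gn, ← h.prim hq (pe_of hy) fun l => k y l hy, ← hy]
    exact orderOf_dvd_natCard _ (m1.2 rfl)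
  obtain ⟨x, hx⟩ := exists_prime_orderOf_dvd_card' q dc
  rw [← orderOf_coe] at hx
  have xn : (x : G) ∉ center G := fun l => k x l hx
  have a := h.ab hq (fun v => by
    by_cases k1 : v = p
    · exact gr n2 (k1 ▸ ne)
    · exact gp n1 k1) (pe_of hx) xn
  have : C1[(x : G)] = C1[g] := eq_of_le_of_card_ge (a g (m1.2 (m1.1 x.2).symm))
    ((h.prim hs e gn).trans (h.prim hq (pe_of hx) xn).symm).le
  unfold AbC at a ⊢
  rwa [this] at a

/-- All centralizers of non-central elements are abelian of order `c`. -/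
def CAc (G : Type*) [Group G] (c : ℕ) : Prop := ∀ x, x ∉ center G → o[C1[x]] = c ∧ AbC x

theorem cac (h : TSz G c p r) (a : ∀ s : ℕ, s.Prime → ∀ g, g ∉ center G → Pe s g → AbC g) : CAc G c := fun x xn => by
  obtain ⟨s, hs, y, hy, py, yn⟩ : ∃ s : ℕ, s.Prime ∧ ∃ y ∈ zpowers x, Pe s y ∧ y ∉ center G := by
    by_contra! k
    exact xn (le_of_pe k (mem_zpowers x))
  obtain ⟨j, rfl⟩ := mem_zpowers_iff.1 hy
  have l : C1[x] ≤ C1[x ^ j] := fun w hw => m1.2 ((m1.1 hw).zpow_right j)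
  have := le_antisymm l (a s hs _ yn py x (l (m1.2 rfl)))
  unfold AbC
  rw [this]
  exact ⟨h.prim hs py yn, a s hs _ yn py⟩

theorem CAc.eq (a : CAc G c) {x y : G} (xn : x ∉ center G) (yn : y ∉ center G) (k : x ∈ C1[y]) : C1[y] = C1[x] :=
  eq_of_le_of_card_ge ((a y yn).2 x k) ((a x xn).1.trans (a y yn).1.symm).le

theorem CAc.cent (a : CAc G c) {x k : G} {T : Subgroup G} (xn : x ∉ center G) (l : T ≤ C1[x]) (hk : k ∈ T)
    (kn : k ∉ center G) : C[T] = C1[x] :=
  le_antisymm (fun y hy => (a.eq kn xn (l hk)).ge (m1.2 (hy k hk).symm))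
    fun y hy w hw => m1.1 ((a x xn).2 y hy (l hw))

theorem ex_syl (h : TSz G c p r) [Fact p.Prime] (e : o[C1[g]] = c) :
    ∃ T, Syl p T C1[g] ∧ ∃ k ∈ T, k ∉ center G := by
  obtain ⟨k, hk, kn, j, pk⟩ := h.has_p e
  obtain ⟨T, hT, l⟩ := exists_syl_ge (CfsgH2.isPGroup_zpowers pk) (zpowers_le.2 hk)
  exact ⟨T, hT, k, l (mem_zpowers k), kn⟩

theorem idx (h : TSz G c p r) (a : CAc G c) [hs : Fact s.Prime] (ne : s ≠ p) (ds : s * c ∣ Nat.card G)
    (gn : g ∉ center G) {P : Subgroup G} (hP : Syl s P ⊤) : o[P] ∣ s * s ^ c.factorization s := by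
  haveI := Fact.mk h.hp
  let f := QuotientGroup.mk' (center G)
  have hf : ∀ x, f x = 1 ↔ x ∈ center G := fun x => QuotientGroup.eq_one_iff x
  obtain ⟨_, ⟨x, hx, rfl⟩, o, l⟩ := pz (hP.pg.map f) (fun e => ts_syl ds hP (fun y hy =>
    m1.2 (zle ((hf y).1 (mem_bot.1 (e ▸ mem_map_of_mem f hy)))).symm) (a g gn).1)
  have xn : x ∉ center G := fun k => hs.out.one_lt.ne (by rw [← o, (hf x).2 k, orderOf_one])
  have xs : x ^ s ∈ center G := (hf _).1 (by rw [map_pow, ← o, pow_orderOf_eq_one])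
  have cz : ∀ y ∈ P, ∃ z ∈ center G, y * x * y⁻¹ = z * x := fun y hy =>
    ⟨y * x * y⁻¹ * x⁻¹, (hf _).1 (by
      simp only [map_mul, map_inv]
      rw [(m1.1 (l (mem_map_of_mem f hy))).eq]; group), by group⟩
  have nH : P ≤ N[C1[x]] := fun y hy => by
    obtain ⟨z, hz, e⟩ := cz y hy
    refine mem_norm_of_map_le ?_
    rintro _ ⟨w, hw, rfl⟩
    have h1 : Commute (y * w * y⁻¹) (y * x * y⁻¹) := (m1.1 hw).conj y
    rw [e] at h1
    have h2 := (zle (x := y * w * y⁻¹) (inv_mem hz)).mul_right h1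
    rw [inv_mul_cancel_left] at h2
    exact m1.2 h2
  obtain ⟨T, hT, k, hk, kn⟩ := h.ex_syl (a x xn).1
  have cT := a.cent xn hT.le hk kn
  have nT : P ≤ N[T] := nH.trans (hT.norm_le_of_norm (cT.ge.trans (centralizer_le_normalizer _)))
  have key := fpf_cyc (J := center G) (s := s) nT (by
    rw [hP.card_eq, hT.card_eq]; exact Nat.coprime_pow_primes _ _ hs.out h.hp ne) (fun u hu v hv => ?_)
    (fun u hu un y hy => ?_) (fun w => kn (w hk)) (fun u hu => ?_)
  · rw [cT] at key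
    obtain ⟨S, hS⟩ := exists_syl (p := s) C1[x]
    rw [← card_inf_mul_relIndex C1[x] P, mul_comm s, ← (a x xn).1, ← hS.card_eq]
    exact mul_dvd_mul (hS.card_dvd (hP.pg.to_le inf_le_right) inf_le_left) key
  · obtain ⟨z, hz, e⟩ := cz u hu
    obtain ⟨w, hw, e'⟩ := cz v hv
    have e1 : u * v * x * (u * v)⁻¹ = z * w * x := by
      calc _ = u * (v * x * v⁻¹) * u⁻¹ := by group
        _ = w * (u * x * u⁻¹) := by rw [e', ← mul_assoc, (zle (x := u) hw).eq]; group
        _ = _ := by rw [e, ← mul_assoc, (zle (x := z) hw).eq]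
    have e2 : v * u * x * (v * u)⁻¹ = z * w * x := by
      calc _ = v * (u * x * u⁻¹) * v⁻¹ := by group
        _ = z * (v * x * v⁻¹) := by rw [e, ← mul_assoc, (zle (x := v) hz).eq]; group
        _ = _ := by rw [e', ← mul_assoc]
    rw [cT, m1]
    have e3 : Commute (u * v * (v * u)⁻¹) (z * w * x) := by
      have : u * v * (v * u)⁻¹ * (z * w * x) * (u * v * (v * u)⁻¹)⁻¹ = z * w * x := by
        conv_lhs => rw [← e2]
        rw [← e1]; group
      exact mul_inv_eq_iff_eq_mul.1 this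
    have h2 := (zle (x := u * v * (v * u)⁻¹) (inv_mem (mul_mem hz hw))).mul_right e3
    rwa [inv_mul_cancel_left] at h2
  · by_contra yn
    exact un (cT.ge ((a.eq yn xn (hT.le hy.1)).ge (m1.2 (m1.1 hy.2).symm)))
  · obtain ⟨z, hz, e⟩ := cz u hu
    have e1 : ∀ n : ℕ, u ^ n * x * (u ^ n)⁻¹ = z ^ n * x := fun n => by
      induction n with
      | zero => simp
      | succ n ih =>
        calc _ = u * (u ^ n * x * (u ^ n)⁻¹) * u⁻¹ := by group
          _ = z ^ n * (u * x * u⁻¹) := by rw [ih, ← mul_assoc, (zle (x := u) (pow_mem hz n)).eq]; group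
          _ = _ := by rw [e, pow_succ, mul_assoc]
    have e2 : z ^ s = 1 := by
      have := congrArg (· ^ s) e
      simp only [conj_pow, (zle (x := x) hz).symm.mul_pow] at this
      rw [(zle (x := u) xs).eq, mul_inv_cancel_right] at this
      exact (mul_eq_right.1 this.symm)
    rw [cT, m1]
    have := e1 s
    rw [e2, one_mul] at this
    exact mul_inv_eq_iff_eq_mul.1 this

theorem nrm (h : TSz G c p r) (a : CAc G c) [hs : Fact s.Prime] (ne : s ≠ p) (ds : s * c ∣ Nat.card G)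
    (gn : g ∉ center G) : ∃ P, Syl s P ⊤ ∧ P ≤ N[C1[g]] := by
  obtain ⟨T, hT⟩ := exists_syl (p := s) C1[g]
  obtain ⟨P, hP, l⟩ := exists_syl_ge hT.pg le_top
  refine ⟨P, hP, ?_⟩
  by_cases tz : T ≤ center G
  · have d := h.idx a ne ds gn hP
    rw [← (a g gn).1, ← hT.card_eq] at d
    exfalso
    obtain ⟨x, hx, xn⟩ : ∃ x ∈ P, x ∉ center G := by
      by_contra! k
      exact ts_syl ds hP (fun y hy => m1.2 (zle (k y hy)).symm) (a g gn).1
    have := syl_max hT ((a g gn).1.trans (a x xn).1.symm) (U := P ⊓ C1[x]) (hP.pg.to_le inf_le_left) inf_le_right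
      (le_inf l fun y hy => m1.2 (zle (tz hy)).symm)
    exact xn (tz (this ⟨hx, m1.2 rfl⟩))
  obtain ⟨k, hk, kn⟩ := SetLike.not_le_iff_exists.1 tz
  rw [← a.cent gn hT.le hk kn]
  have : P ≤ N[T] := by
    have d := h.idx a ne ds gn hP
    rw [← (a g gn).1, ← hT.card_eq] at d
    have lt : T < P := lt_of_le_of_ne l fun e => ts_syl ds hP (e ▸ hT.le) (a g gn).1
    have lt2 := lt_inf_norm hP.pg.isNilpotent lt
    obtain ⟨i, hi⟩ := hT.pg.exists_card_eq
    obtain ⟨j, hj⟩ := (hP.pg.to_le (inf_le_left : P ⊓ N[T] ≤ P)).exists_card_eq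
    have c1 : o[T] < o[P ⊓ N[T]] := lt_of_le_of_ne (card_le_of_le lt2.le) fun e =>
      lt2.ne (eq_of_le_of_card_ge lt2.le e.ge)
    rw [hi, hj, Nat.pow_lt_pow_iff_right hs.out.one_lt] at c1
    have c2 : o[P] ≤ o[P ⊓ N[T]] := by
      rw [hj]
      refine (Nat.le_of_dvd (Nat.mul_pos hs.out.pos Nat.card_pos) d).trans ?_
      rw [hi, ← pow_succ']
      exact Nat.pow_le_pow_right hs.out.pos c1
    exact (eq_of_le_of_card_ge inf_le_left c2).ge.trans inf_le_right
  exact fun y hy => mem_norm_of_map_le (by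
    rintro _ ⟨w, hw, rfl⟩ v hv
    have := hw (y⁻¹ * v * y) (by simpa using (mem_normalizer_iff.1 (inv_mem (this hy)) v).1 hv)
    show v * (y * w * y⁻¹) = y * w * y⁻¹ * v
    calc _ = y * (y⁻¹ * v * y * w) * y⁻¹ := by group
      _ = _ := by rw [this]; group)

theorem fin (h : TSz G c p r) (a : CAc G c) : g ∈ center G := by
  by_contra gn
  haveI := Fact.mk h.hp
  have n : ⊤ ≤ N[C1[g]] := le_of_syl fun s _ _ => by
    by_cases ds : s * c ∣ Nat.card G
    · by_cases k : s = p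
      · exact h.symm.nrm a (k ▸ h.ne) ds gn
      · exact h.nrm a k ds gn
    obtain ⟨T, hT⟩ := exists_syl (p := s) C1[g]
    refine ⟨T, hT.trans le_top fun d => ds ?_, hT.le.trans le_normalizer⟩
    rw [relIndex_top_right] at d
    rw [← C1[g].index_mul_card, (a g gn).1]
    exact Nat.mul_dvd_mul_right d c
  obtain ⟨T, hT, k, hk, kn⟩ := h.ex_syl (a g gn).1
  haveI : T.Normal := normalizer_eq_top_iff.1 (top_le_iff.1 (n.trans (hT.norm_le_of_norm
    ((a.cent gn hT.le hk kn).ge.trans (centralizer_le_normalizer _)))))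
  exact kn (h.core h.hp T hT.pg hk)

theorem main (h : TSz G c p r) (g : G) : g ∈ center G := by
  by_cases k : ∃ q : ℕ, q.Prime ∧ q ∣ Nat.card G ∧ q ≠ p ∧ q ≠ r
  · obtain ⟨q, hq, d, n1, n2⟩ := k
    exact h.fin (h.cac fun s hs g gn e => h.all_ab hq n1 n2 d hs e gn)
  push Not at k
  haveI : Group.IsSolvable G := by
    refine CfsgH3.burnside_paqb p r ((Nat.card G).factorization p) ((Nat.card G).factorization r) h.hp h.hr ?_
    refine (Nat.factorization_prime_le_iff_dvd Nat.card_pos.ne'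
      (mul_ne_zero (pow_ne_zero _ h.hp.ne_zero) (pow_ne_zero _ h.hr.ne_zero))).1 fun q hq => ?_
    rw [Nat.factorization_mul (pow_ne_zero _ h.hp.ne_zero) (pow_ne_zero _ h.hr.ne_zero), h.hp.factorization_pow,
      h.hr.factorization_pow, Finsupp.add_apply]
    by_cases d : q ∣ Nat.card G
    · by_cases e : q = p
      · subst e; simp
      · rw [k q hq d e]; simp
    · rw [Nat.factorization_eq_zero_of_not_dvd d]; exact Nat.zero_le _
  have f : fittingSubgroup G ≤ center G := fitting_le_of_forall_pCore_le fun s hs =>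
    haveI := Fact.mk hs; h.core hs _ (isPGroup_pCore s)
  exact f (centralizer_fitting_le fun x hx => (zle (f hx)).symm)

end TSz

theorem ts_z {c p : ℕ} (hp : p.Prime) (dp : p * c ∣ Nat.card G)
    (H : ∀ g : G, orderOf g = p → g ∈ center G ∨ o[C1[g]] = c) : ∃ z ∈ center G, orderOf z = p := by
  haveI := Fact.mk hp
  obtain ⟨P, hP⟩ := exists_syl (p := p) (⊤ : Subgroup G)
  obtain ⟨z, -, o, l⟩ := pz hP.pg (hP.ne_bot (by rw [card_top]; exact (dvd_mul_right p c).trans dp))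
  exact ⟨z, (H z o).resolve_right (ts_syl dp hP l), o⟩

theorem ts_main {c p r : ℕ} (hp : p.Prime) (hr : r.Prime) (ne : p ≠ r) (dp : p * c ∣ Nat.card G)
    (dr : r * c ∣ Nat.card G) {t : G} (ht : t ∈ center G) (o : (orderOf t).Prime)
    (H : ∀ z ∈ center G, (orderOf z).Prime → ∀ g : G, (orderOf g).Coprime (orderOf z) → g ∈ center G ∨ o[C1[g]] = c)
    (g : G) : g ∈ center G := by
  have k : ∀ {u : ℕ} {z : G}, u.Prime → u * c ∣ Nat.card G → z ∈ center G → (orderOf z).Prime → u ≠ orderOf z →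
      ∃ z ∈ center G, orderOf z = u := fun hu du hz oz n =>
    ts_z hu du fun g e => H _ hz oz g (e ▸ (Nat.coprime_primes hu oz).2 n)
  have zp : ∃ z ∈ center G, orderOf z = p := by
    by_cases e : p = orderOf t
    · exact ⟨t, ht, e.symm⟩
    · exact k hp dp ht o e
  obtain ⟨z, hz, oz⟩ := zp
  exact TSz.main ⟨hp, hr, ne, dp, dr, ⟨z, hz, oz⟩, k hr dr hz (oz ▸ hp) (oz ▸ ne.symm), H⟩ g

/-- The centralizer of `t` is abelian. -/
theorem cent_ab {c p r : ℕ} (hp : p.Prime) (hr : r.Prime) (ne : p ≠ r) {t : G} (o : (orderOf t).Prime)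
    (dp : p * c ∣ o[C1[t]]) (dr : r * c ∣ o[C1[t]]) (mx : ∀ g : G, g ≠ 1 → C1[t] ≤ C1[g] → C1[g] = C1[t])
    (tw : ∀ g : G, g ≠ 1 → C1[g] ≤ C1[t] → C1[g] = C1[t] ∨ o[C1[g]] = c) : AbC t := by
  have := ts_main (G := C1[t]) hp hr ne dp dr (t := ⟨t, m1.2 rfl⟩) (mem_center_iff.2 fun g => Subtype.ext (m1.1 g.2))
    (by rwa [← orderOf_coe]) fun z hz oz g cp => by
      rw [← orderOf_coe] at oz
      rw [← orderOf_coe, ← orderOf_coe] at cp
      have z1 : (z : G) ≠ 1 := fun e => oz.one_lt.ne' (by rw [e, orderOf_one])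
      have cm : Commute (g : G) z := congrArg Subtype.val (mem_center_iff.1 hz g)
      have q := c1_mul_cop cm cp
      rw [mx z z1 fun y hy => m1.2 (congrArg Subtype.val (mem_center_iff.1 hz ⟨y, hy⟩))] at q
      have n1 : (g : G) * z ≠ 1 := fun e => by
        rw [eq_inv_of_mul_eq_one_left e, orderOf_inv, Nat.coprime_self] at cp
        exact oz.one_lt.ne' cp
      rcases tw _ n1 (q ▸ inf_le_right) with w | w
      · exact Or.inl (mem_center_iff.2 fun y => Subtype.ext (m1.1 ((w.symm.trans q).le y.2).1))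
      · refine Or.inr ?_
        rw [← w, q, ← card_map_of_injective (f := C1[t].subtype) (subtype_injective _)]
        congr 2
        ext y
        simp only [mem_map, m1, mem_inf]
        exact ⟨fun ⟨x, hx, e⟩ => e ▸ ⟨congrArg Subtype.val hx, m1.1 x.2⟩,
          fun k => ⟨⟨y, m1.2 k.2⟩, Subtype.ext k.1, rfl⟩⟩
  exact fun x hx y hy => m1.2 (congrArg Subtype.val (mem_center_iff.1 (this ⟨x, hx⟩) ⟨y, hy⟩))

end CfsgH1
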