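import Cfsg.Agent.H1.Misc1
import Cfsg.Agent.H2.BG0
import Cfsg.Agent.H2.S4F
import Cfsg.Agent.H2.XspIso
import Cfsg.Agent.L0.G3
import Cfsg.Prelude.Def_MonsterType

/-! Large extraspecial 2-subgroups. -/

set_option autoImplicit false

namespace CfsgH1

open Subgroup Cfsg CfsgH2 Function
open CfsgL0 hiding cj cj_injective conj_mem_of_mem_normalizer conj_mem_of_mem_normalizer' isPGroup_of_forall isPGroup_zpowers isPGroup_zpowers_of_orderOf mem_normalizer_of_conj_mem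
open scoped commutatorElement

variable {G : Type*} [Group G] [Finite G] {a b c g q x y z : G} {A H K L M N P Q R V W : Subgroup G} {n : ℕ}

theorem mem_zp2 (h : orderOf z = 2) : x ∈ zpowers z ↔ x = 1 ∨ x = z := by
  classical
  refine ⟨fun hx => ?_, by rintro (rfl | rfl); exacts [one_mem _, mem_zpowers _]⟩
  obtain ⟨k, hk, rfl⟩ := Finset.mem_image.1 (mem_zpowers_iff_mem_range_orderOf.1 hx)
  rw [h, Finset.mem_range] at hk
  interval_cases k <;> simp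

omit [Finite G] in
theorem ne_one_of_two (h : orderOf z = 2) : z ≠ 1 := fun e => by simp [e] at h

omit [Finite G] in
theorem mul_self_of_two (h : orderOf z = 2) : z * z = 1 := by rw [← sq, ← h, pow_orderOf_eq_one]

omit [Finite G] in
theorem inv_of_two (h : orderOf z = 2) : z⁻¹ = z := inv_eq_of_mul_eq_one_left (mul_self_of_two h)

theorem norm_zp2 (h : orderOf z = 2) : N[zpowers z] = C1[z] := by
  refine le_antisymm (fun g hg => mem_c1.2 ?_) ((cent_zpowers z).ge.trans (cent_le_norm _))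
  rcases (mem_zp2 h).1 (conj_mem_of_norm hg (mem_zpowers z)) with e | e
  · exact (ne_one_of_two h (by simpa using e)).elim
  · exact mul_inv_eq_iff_eq_mul.1 e

/-- `Q` is extraspecial with centre generated by `z`. -/
structure XZ (Q : Subgroup G) (z : G) : Prop where
  wx : Wx 2 Q
  nab : ¬ Ab[Q]
  zc : Z[Q] = zpowers z

/-- `Q` is extraspecial with centre generated by `z`, self-centralizing, normal in the centralizer of `z`. -/
structure LX (Q : Subgroup G) (z : G) : Prop extends XZ Q z where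
  cent : C[Q] ≤ Q
  norm : C1[z] ≤ N[Q]

theorem exists_xz (h : IsExtraspecial 2 Q) : ∃ z, XZ Q z := by
  obtain ⟨h1, h2⟩ := extraspecial_iff.1 h
  obtain ⟨z, hz, z1⟩ := h1.exists_ne_one
  exact ⟨z, h1, h2, (zpowers_eq_of_prime (h1.cardZ ▸ Nat.prime_two) hz z1).symm⟩

namespace XZ

theorem ord (h : XZ Q z) : orderOf z = 2 := by rw [← Nat.card_zpowers, ← h.zc, h.wx.cardZ]
omit [Finite G] in
theorem pg (h : XZ Q z) : PG[2, Q] := h.wx.pg
omit [Finite G] in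
theorem mem (h : XZ Q z) : z ∈ Q := (h.zc.ge (mem_zpowers z)).1
omit [Finite G] in
theorem memc (h : XZ Q z) : z ∈ C[Q] := (h.zc.ge (mem_zpowers z)).2
omit [Finite G] in
theorem le_c1 (h : XZ Q z) : Q ≤ C1[z] := le_cent1_iff.2 h.memc
omit [Finite G] in
theorem zp_le (h : XZ Q z) : zpowers z ≤ Q := zpowers_le.2 h.mem
omit [Finite G] in
theorem der (h : XZ Q z) : ⁅Q, Q⁆ ≤ zpowers z := h.zc ▸ h.wx.der
omit [Finite G] in
theorem comm_mem (h : XZ Q z) (hx : x ∈ Q) (hy : y ∈ Q) : ⁅x, y⁆ ∈ zpowers z := h.der (commutator_mem_commutator hx hy)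
theorem sq_mem (h : XZ Q z) (hx : x ∈ Q) : x ^ 2 ∈ zpowers z := h.zc ▸ h.wx.pow_mem hx
theorem ext (h : XZ Q z) : IsExtraspecial 2 Q := extraspecial_iff.2 ⟨h.wx, h.nab⟩
omit [Finite G] in
theorem center_eq (h : XZ Q z) : (center Q).map Q.subtype = zpowers z := map_center_subtype.trans h.zc
theorem norm_le (h : XZ Q z) : N[Q] ≤ C1[z] := norm_zp2 h.ord ▸ h.zc ▸ le_norm_inf le_rfl (norm_le_norm_cent Q)
theorem comm_eq (h : XZ Q z) (hx : x ∈ Q) (hy : y ∈ Q) (hc : x ∉ C1[y]) : ⁅x, y⁆ = z :=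
  ((mem_zp2 h.ord).1 (h.comm_mem hx hy)).resolve_left fun e => hc (mem_c1.2 (commutatorElement_eq_one_iff_mul_comm.1 e))
omit [Finite G] in
theorem exists_nc (h : XZ Q z) (hb : b ∈ Q) (h1 : b ∉ zpowers z) : ∃ q ∈ Q, q ∉ C1[b] :=
  SetLike.not_le_iff_exists.1 fun e => h1 (h.zc.le ⟨hb, le_cent1_iff.1 e⟩)
theorem conj_eq (h : XZ Q z) (hq : q ∈ Q) (hb : b ∈ Q) (hc : q ∉ C1[b]) : q * b * q⁻¹ = z * b := by
  rw [← h.comm_eq hq hb hc]; group
theorem exists_conj (h : XZ Q z) (hb : b ∈ Q) (h1 : b ∉ zpowers z) : ∃ q ∈ Q, q * b * q⁻¹ = z * b := by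
  obtain ⟨q, hq, hc⟩ := h.exists_nc hb h1
  exact ⟨q, hq, h.conj_eq hq hb hc⟩
theorem map_cj (h : XZ Q z) (g : G) : XZ (Q.map (cj g)) (g * z * g⁻¹) :=
  ⟨(inj_wx (cj_injective g)).2 h.wx, fun c => h.nab (map_cj_inv_cj g Q ▸ (inferInstance : Ab[(Q.map (cj g)).map (cj g⁻¹)])),
    by rw [centralizer_map_cj, ← map_cj_inf, h.zc, MonoidHom.map_zpowers, cj_apply]⟩
theorem relIndex_c1 (h : XZ Q z) (hb : b ∈ Q) (h1 : b ∉ zpowers z) : C1[b].relIndex Q = 2 := by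
  have := relIndex_cent1_le (H := Q) (K := zpowers z) (a := b) fun x hx => h.comm_mem hx hb
  rw [Nat.card_zpowers, h.ord] at this
  obtain ⟨q, hq, hc⟩ := h.exists_nc hb h1
  have h2 := CfsgH2.relIndex_pos C1[b] Q
  have h3 : C1[b].relIndex Q ≠ 1 := fun e => hc (relIndex_eq_one.1 e hq)
  omega
theorem le_norm (h : XZ Q z) (h1 : z ∈ A) (h2 : A ≤ Q) : Q ≤ N[A] :=
  le_norm_of_comm_le ((commutator_mono h2 le_rfl).trans h.der) (zpowers_le.2 h1)
theorem card_inf (h : XZ Q z) (hb : b ∈ Q) (h1 : b ∉ zpowers z) : o[Q ⊓ C1[b]] * 2 = o[Q] := by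
  rw [← h.relIndex_c1 hb h1, inf_comm, card_inf_mul_relIndex]
/-- the centre of the centralizer of a non-central element -/
theorem cent_c1 (h : XZ Q z) (hb : b ∈ Q) (h1 : b ∉ zpowers z) (hx : x ∈ Q) (hc : x ∈ C[Q ⊓ C1[b]]) : x ∈ zpowers z ⊔ zpowers b := by
  by_cases c : x ∈ zpowers z
  · exact mem_sup_left c
  have e : Q ⊓ C1[b] = Q ⊓ C1[x] := eq_of_le_of_card_ge (le_inf inf_le_left (le_cent1_iff.2 hc)) (by
    have := h.card_inf hb h1; have := h.card_inf hx c; omega)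
  have : b⁻¹ * x ∈ Z[Q] := ⟨Q.mul_mem (inv_mem hb) hx, mem_cent_iff.2 fun q hq => by
    by_cases d : q ∈ C1[b]
    · exact mem_c1.1 (mem_c1_comm.1 (mul_mem (inv_mem (mem_c1_comm.1 d)) (mem_c1_comm.1 (e.le ⟨hq, d⟩).2)))
    · have k1 := h.conj_eq hq hb d
      have k2 := h.conj_eq hq hx fun t => d (e.ge ⟨hq, t⟩).2
      calc q * (b⁻¹ * x) = (q * b * q⁻¹)⁻¹ * (q * x * q⁻¹) * q := by group
        _ = _ := by rw [k1, k2]; group⟩
  rw [← mul_inv_cancel_left b x]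
  exact mul_mem (mem_sup_right (mem_zpowers b)) (mem_sup_left (h.zc.le this))
theorem card_eight (h : XZ Q z) (hb : b ∈ Q) (h1 : b ∉ zpowers z) (hab : Ab[Q ⊓ C1[b]]) : o[Q] = 8 := by
  obtain ⟨q, hq, hc⟩ := h.exists_nc hb h1
  obtain ⟨-, e, -, k⟩ := h.wx.split hb hq fun d => hc (mem_c1.2 d.symm)
  rw [inf_eq_left.2 (le_cent_of_comm (isMulComm_of_le hab (inf_le_inf_left _ inf_le_left)) le_rfl)] at e
  rw [k, e, h.wx.cardZ]
theorem mem_der (h : XZ Q z) (hA : A ≤ Q) (hab : ¬ Ab[A]) : z ∈ ⁅A, A⁆ := by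
  obtain ⟨x, hx, y, hy, c⟩ := exists_not_commute hab
  exact h.comm_eq (hA hx) (hA hy) (mt mem_c1.1 c) ▸ commutator_mem_commutator hx hy
theorem of_le (h : XZ Q z) (hA : A ≤ Q) (hab : ¬ Ab[A]) (hz : Z[A] ≤ zpowers z) : XZ A z := by
  have := comm_le_left le_normalizer (h.mem_der hA hab)
  have e : Z[A] = zpowers z := le_antisymm hz (zpowers_le.2 ⟨this, cent_anti hA h.memc⟩)
  exact ⟨⟨h.pg.to_le hA, by rw [e, Nat.card_zpowers, h.ord], e ▸ (commutator_mono hA hA).trans h.der⟩, hab, e⟩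

end XZ

theorem exists_lx (h1 : IsExtraspecial 2 Q) (h2 : C[Q] = (center Q).map Q.subtype) (h3 : C[(center Q).map Q.subtype] ≤ N[Q]) : ∃ z, LX Q z := by
  obtain ⟨z, h⟩ := exists_xz h1
  exact ⟨z, h, h2.le.trans (map_subtype_le _), by rwa [h.center_eq, cent_zpowers] at h3⟩

theorem lx_of_large (h : IsLargeExtraspecial Q) (hz : (center Q).map Q.subtype = zpowers z) : LX Q z := by
  obtain ⟨w, hw⟩ := exists_lx h.1 h.2.1 h.2.2.1
  have e := hw.center_eq.symm.trans hz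
  obtain rfl : z = w := ((mem_zp2 hw.ord).1 (e.ge (mem_zpowers z))).resolve_left fun c => ne_one_of_two hw.ord (by simpa [c] using e)
  exact hw

theorem XZ.lx_of_core (hz : z ≠ 1) (h : IsExtraspecial 2 Q) (hl : Q ≤ C1[z]) (hn : C1[z] ≤ N[Q]) (hc : z ∈ Q) (hC : C1[z] ⊓ C[Q] ≤ Q) : LX Q z := by
  obtain ⟨w, hw⟩ := exists_xz h
  obtain rfl : z = w := ((mem_zp2 hw.ord).1 (hw.zc.le ⟨hc, le_cent1_iff.1 hl⟩)).resolve_left hz
  exact ⟨hw, (le_inf (cent_le_cent1 hc) le_rfl).trans hC, hn⟩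

namespace LX

omit [Finite G] in
theorem cent_eq (h : LX Q z) : C[Q] = zpowers z := by rw [← h.zc, inf_eq_right.2 h.cent]
theorem norm_eq (h : LX Q z) : N[Q] = C1[z] := le_antisymm h.norm_le h.norm
theorem map_cj (h : LX Q z) (g : G) : LX (Q.map (cj g)) (g * z * g⁻¹) :=
  ⟨h.toXZ.map_cj g, by rw [centralizer_map_cj]; exact map_mono h.cent, by rw [normalizer_map_cj, centralizer_conj]; exact map_mono h.norm⟩
theorem large (h : LX Q z) (h1 : ∀ K : Subgroup G, Odd o[K] → Q ≤ N[K] → K = ⊥) : IsLargeExtraspecial Q :=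
  ⟨h.ext, by rw [h.center_eq, h.cent_eq], by rw [h.center_eq, cent_zpowers]; exact h.norm, h1⟩
theorem map_eq (h : LX Q z) {g k : G} (e : g * z * g⁻¹ = k * z * k⁻¹) : Q.map (cj g) = Q.map (cj k) := by
  have : k⁻¹ * g ∈ N[Q] := h.norm (mem_c1.2 (by
    calc k⁻¹ * g * z = k⁻¹ * (g * z * g⁻¹) * g := by group
      _ = _ := by rw [e]; group))
  rw [← mul_inv_cancel_left k g, ← map_cj_cj, map_cj_eq this]

theorem odd_bot (h : LX Q z) (ho : Odd o[K]) (hn : Q ≤ N[K]) (hc : K ≤ C1[z]) : K = ⊥ := by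
  have d : Q ⊓ K = ⊥ := inf_eq_bot_of_coprime' (coprime_of_pgroup h.pg ho.not_two_dvd_nat)
  have : K ≤ C[Q] := commutator_eq_bot_iff_le_centralizer.1 (eq_bot_iff.2 ((le_inf (comm_le_right (hc.trans h.norm)) (comm_le_left hn)).trans d.le))
  exact eq_bot_iff.2 ((le_inf (this.trans h.cent) le_rfl).trans d.le)

theorem large_of_core (h : LX Q z) (hb : b ∈ Q) (h1 : b ∉ zpowers z) (h2 : b * b = 1) (hz : z ∈ O[{2}, C1[b]]) : IsLargeExtraspecial Q :=
  h.large fun K ho hn => by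
    have f1 : K ⊓ C1[z] = ⊥ := h.odd_bot (odd_of_le ho inf_le_left) (le_norm_inf hn (le_norm_of_le h.le_c1)) inf_le_right
    have f2 : K ⊓ C1[b] = ⊥ := eq_bot_iff.2 (le_trans (le_inf inf_le_left fun k hk => mem_c1.2 (commutatorElement_eq_one_iff_mul_comm.1 (mem_bot.1
      ((inf_eq_bot_of_coprime' (coprime_of_pgroup (isPGroup_iff_piN.2 (piN_piCoreOf (M := C1[b]))) ho.not_two_dvd_nat)).le <| mem_inf.2 ⟨
        mul_mem (conj_mem_of_norm (le_norm_piCoreOf hk.2) hz) (inv_mem hz), by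
        simpa [commutatorElement_def, mul_assoc] using mul_mem hk.1 (conj_mem_of_norm (hn h.mem) (inv_mem hk.1))⟩)))) f1.le)
    obtain ⟨q, hq, e⟩ := h.exists_conj hb h1
    refine eq_bot_iff.2 fun k hk => ?_
    have k1 := conj_mem_of_norm (hn hq) hk
    have e1 := inv_of_fpf_involution (hn hb) f2 h2 k1
    have e2 := inv_of_fpf_involution (hn h.mem) f1 (mul_self_of_two h.ord) (inv_mem k1)
    have e3 : z * b * (q * k * q⁻¹) * (z * b)⁻¹ = q * k * q⁻¹ := by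
      calc _ = z * (b * (q * k * q⁻¹) * b⁻¹) * z⁻¹ := by group
        _ = _ := by rw [e1, e2, inv_inv]
    refine f2.le ⟨hk, mem_c1.2 ?_⟩
    calc k * b = q⁻¹ * (q * k * q⁻¹) * q * b := by group
      _ = _ := by rw [← e3, ← e]; group

theorem z_pg (h : LX Q z) (hP : PG[2, P]) (hl : Q ≤ P) : Z[P] = zpowers z := by
  have l : Z[P] ≤ zpowers z := inf_le_right.trans ((cent_anti hl).trans h.cent_eq.le)
  obtain ⟨⟨w, hw⟩, w1⟩ := ne_bot_iff_exists_ne_one.1 (nil_center_ne_bot (nil_of_pg hP) fun e => ne_one_of_two h.ord (mem_bot.1 (e ▸ hl h.mem)))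
  obtain rfl := ((mem_zp2 h.ord).1 (l hw)).resolve_left fun e => w1 (Subtype.ext e)
  exact le_antisymm l (zpowers_le.2 hw)

theorem le_c1_of_pg (h : LX Q z) (hP : PG[2, P]) (hl : Q ≤ P) : P ≤ C1[z] := le_cent1_iff.2 ((h.z_pg hP hl).ge (mem_zpowers z)).2

theorem norm_le_of_pg (h : LX Q z) (hP : PG[2, P]) (hl : Q ≤ P) : N[P] ≤ C1[z] :=
  norm_zp2 h.ord ▸ h.z_pg hP hl ▸ le_norm_inf le_rfl (norm_le_norm_cent P)

/-- elements acting trivially modulo the centre lie in `Q` -/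
theorem le_of_comm (h : LX Q z) (h1 : ⁅L, Q⁆ ≤ zpowers z) (h2 : L ≤ C1[z]) : L ≤ Q := by
  have := h.wx.sup_cent (L := Q ⊔ L) le_sup_left (by
    rw [h.zc]
    refine commutator_le.2 fun g hg q hq => ?_
    obtain ⟨l, hl, a, ha, rfl⟩ := (mem_sup_of_norm (h2.trans h.norm)).1 (sup_comm Q L ▸ hg)
    convert mul_mem (conj_mem_of_norm ((norm_zp2 h.ord).ge (h2 hl)) (h.comm_mem ha hq)) (h1 (commutator_mem_commutator hl hq)) using 1
    group) (by rw [h.zc, cent_zpowers]; exact sup_le h.le_c1 h2)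
  exact le_sup_right.trans (this.ge.trans (sup_le le_rfl (inf_le_right.trans h.cent)))

/-- Orthogonality is symmetric. -/
theorem symm (h : LX Q z) (hx : g * z * g⁻¹ ∈ Q) : z ∈ Q.map (cj g) := by
  have h' := h.map_cj g
  have hm : ∀ k, k * z * k⁻¹ = g * z * g⁻¹ → Q.map (cj k) = Q.map (cj g) := fun k => h.map_eq
  have hc := card_map_cj g Q
  generalize Q.map (cj g) = R at h' hm hc
  generalize g * z * g⁻¹ = x at h' hm hx
  by_contra c
  have x1 : x ∉ zpowers z := fun e => ((mem_zp2 h.ord).1 e).elim (ne_one_of_two h'.ord) fun e => c (e ▸ h'.mem)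
  have zx : z ∈ C1[x] := mem_c1_comm.1 (h.le_c1 hx)
  have nz := h'.norm zx
  have h1 : ∀ k ∈ R, ⁅k, z⁆ ∈ zpowers x → k ∈ C1[z] := fun k hk e => by
    rcases (mem_zp2 h'.ord).1 e with e | e
    · exact mem_c1.2 (commutatorElement_eq_one_iff_mul_comm.1 e)
    obtain ⟨a, ha, e2⟩ := h.exists_conj hx x1
    have e3 : a⁻¹ * k * z * (a⁻¹ * k)⁻¹ = x := by
      calc _ = a⁻¹ * (⁅k, z⁆ * z) * a := by group
        _ = _ := by rw [e, ← mem_c1.1 zx, ← e2]; group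
    refine (c (hm _ e3 ▸ mem_map_cj.2 ?_)).elim
    have : (a⁻¹ * k)⁻¹ * z * (a⁻¹ * k) = z * x := by
      calc _ = k⁻¹ * (a * z) * a⁻¹ * k := by group
        _ = k⁻¹ * (x * ⁅k, z⁆ * z) * k := by rw [mem_c1.1 (h.le_c1 ha), e, mul_self_of_two h'.ord]; group
        _ = (k⁻¹ * x * k) * z * (k⁻¹ * z⁻¹ * z * k) := by group
        _ = _ := by rw [mem_c1.1 (h'.le_c1 (inv_mem hk)), mem_c1.1 zx]; group
    exact this ▸ mul_mem h.mem hx
  have m1 : ∀ k ∈ R, ⁅k, z⁆ ∈ R := fun k hk => by simpa [commutatorElement_def, mul_assoc] using mul_mem hk (conj_mem_of_norm nz (inv_mem hk))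
  have h2 : ∀ k ∈ R, ⁅k, z⁆ ∈ C1[z] := fun k hk => h1 _ (m1 k hk) (by
    convert h'.sq_mem (m1 k hk) using 1
    calc _ = k * z * k⁻¹ * z⁻¹ * (z * z) * k * z⁻¹ * k⁻¹ * z⁻¹ := by group
      _ = _ := by rw [mul_self_of_two h.ord, sq, commutatorElement_def, inv_of_two h.ord]; group)
  have h3 : ⁅R, zpowers z⁆ ≤ R ⊓ C1[z] := commutator_le.2 fun k hk w hw => ((mem_zp2 h.ord).1 hw).elim (fun e => by simp [e])
    fun e => by rw [e]; exact ⟨m1 k hk, h2 k hk⟩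
  have h4 : R ⊓ C[R ⊓ C1[z]] ≤ C1[z] := fun k hk => h1 k hk.1 (h'.zc.le ⟨m1 k hk.1, commutator_eq_bot_iff_le_centralizer.1
    (three_subgroup (H := zpowers k) (K := zpowers z) (L := R) (commutator_eq_bot_iff_le_centralizer.2 ((commutator_comm _ _).le.trans (h3.trans
      (le_centralizer_iff.1 (zpowers_le.2 hk.2))))) (commutator_eq_bot_iff_le_centralizer.2 ((commutator_mono le_rfl (zpowers_le.2 hk.1)).trans
      (h'.der.trans (zpowers_le.2 ((cent_zpowers z).ge (h.le_c1 hx))))))) (commutator_mem_commutator (mem_zpowers k) (mem_zpowers z))⟩)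
  have h5 : ¬ R ≤ C1[z] := fun e => c (h'.cent (le_cent1_iff.1 e))
  by_cases ab : Ab[Q ⊓ C1[x]]
  · obtain ⟨k, hk, k1⟩ := SetLike.not_le_iff_exists.1 h5
    have k2 := mt (h1 k hk) k1
    have k3 := h'.card_inf (m1 k hk) k2
    rw [hc, h.card_eight hx x1 ab] at k3
    have k4 : k ∈ C1[⁅k, z⁆] := by
      have e1 := mem_c1.1 (h2 k hk)
      have e2 := mem_c1.1 ((zpowers_le.2 (h.le_c1 hx) : zpowers x ≤ C1[z]) (h'.sq_mem hk))
      have e3 := mul_self_of_two h.ord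
      rw [mem_c1]
      calc k * ⁅k, z⁆ = (k ^ 2 * z) * k⁻¹ * z⁻¹ := by rw [sq]; group
        _ = z * k * z⁻¹ := by rw [e2, sq]; group
        _ = z * ⁅k, z⁆ * (z * z) * z⁻¹ * k * (z * z)⁻¹ := by group
        _ = z * ⁅k, z⁆ * z⁻¹ * k := by rw [e3]; group
        _ = _ := by rw [← e1]; group
    have l1 := card_lt_of_lt (left_lt_sup.2 (mt zpowers_le.1 k2))
    have l2 : o[zpowers x ⊔ zpowers ⁅k, z⁆] < o[R ⊓ C1[⁅k, z⁆]] := card_lt_of_lt (lt_of_le_of_ne (sup_le (zpowers_le.2 ⟨h'.mem, mem_c1_comm.1 (h'.le_c1 (m1 k hk))⟩)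
      (zpowers_le.2 ⟨m1 k hk, self_mem_cent1 _⟩)) fun e => k1 ((sup_le (zpowers_le.2 (h.le_c1 hx)) (zpowers_le.2 (h2 k hk))) (e.ge ⟨hk, k4⟩)))
    have l3 := card_dvd_of_le (le_sup_left (a := zpowers x) (b := zpowers ⁅k, z⁆))
    rw [Nat.card_zpowers, h'.ord] at l1 l3
    omega
  · have nP : Q ⊓ C1[x] ≤ N[R] := inf_le_right.trans h'.norm
    have k1 : ⁅Q ⊓ C1[x], R ⊓ C1[z]⁆ ≤ zpowers x := by
      have t : ⁅Q ⊓ C1[x], R ⊓ C1[z]⁆ ≤ (Q ⊓ C1[x]) ⊓ R := le_inf (comm_le_left (le_norm_inf (inf_le_right.trans h.norm)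
        (le_norm_of_le (inf_le_left.trans h'.le_c1)))) ((commutator_mono le_rfl inf_le_left).trans (comm_le_right nP))
      refine t.trans fun u hu => ?_
      have := h.cent_c1 hx x1 hu.1.1 (mem_cent_iff.2 fun p hp => commutatorElement_eq_one_iff_mul_comm.1
        (((mem_zp2 h.ord).1 (h.comm_mem hp.1 hu.1.1)).resolve_right fun e => c (e ▸ mul_mem (conj_mem_of_norm (nP hp) hu.2) (inv_mem hu.2))))
      obtain ⟨a, ha, b, hb, rfl⟩ := (mem_sup_of_norm ((zpowers_le.2 zx).trans (norm_zp2 h'.ord).ge)).1 this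
      rcases (mem_zp2 h.ord).1 ha with rfl | rfl
      · rwa [one_mul]
      · exact (c ((mul_mem_cancel_right (h'.zp_le hb)).1 hu.2)).elim
    have k2 : ⁅R, Q ⊓ C1[x]⁆ ≤ R ⊓ C1[z] := le_inf (comm_le_left nP) (le_trans (le_inf (comm_le_left nP) (commutator_eq_bot_iff_le_centralizer.1
      (three_subgroup (commutator_eq_bot_iff_le_centralizer.2 (k1.trans (zpowers_le.2 h'.memc))) (commutator_eq_bot_iff_le_centralizer.2
      ((commutator_mono inf_le_left le_rfl).trans (h'.der.trans (zpowers_le.2 (le_cent1_iff.1 inf_le_right)))))))) h4)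
    have k3 : ⁅⁅R, Q ⊓ C1[x]⁆, Q ⊓ C1[x]⁆ ≤ zpowers x := (commutator_mono k2 le_rfl).trans ((commutator_comm _ _).le.trans k1)
    have n1 : Q ⊓ C1[x] ≤ N[zpowers x] := inf_le_right.trans (norm_zp2 h'.ord).ge
    have k4 := three_subgroup_le n1 n1 (h'.le_c1.trans (norm_zp2 h'.ord).ge) ((commutator_mono (commutator_comm _ _).le le_rfl).trans k3) k3
    exact h5 fun k hk => h1 k hk (((commutator_comm R _).le.trans k4) <| commutator_mem_commutator hk (h.mem_der inf_le_left ab))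

end LX

end CfsgH1
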