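import Cfsg.Agent.H1.Misc1
import Cfsg.Agent.H1.LX
import Cfsg.Agent.H1.FrobN
import Cfsg.Agent.H1.Prod
import Cfsg.Agent.H8.Gleason
import Cfsg.Agent.H8.Mob
import Cfsg.Agent.L0.Cnt

/-! Counting subgroups of finite `p`-groups modulo `p ^ 2`. -/

namespace CfsgH1

open Subgroup CfsgH2 MulAction
open scoped Pointwise commutatorElement

universe u

variable {G : Type*} [Group G] [Finite G] {p j k : ℕ} [hp : Fact p.Prime] {E R : Subgroup G}

theorem cyc_count (Q : Subgroup G → Prop) (n : ℕ) :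
    {x : G | Q (zpowers x) ∧ orderOf x = n}.ncard = {L : Subgroup G | Q L ∧ IsCyclic L ∧ Nat.card L = n}.ncard * n.totient := by
  classical
  refine CfsgL0.card_eq_mul_of_fiber (ι := {x : G | Q (zpowers x) ∧ orderOf x = n}) (κ := {L : Subgroup G | Q L ∧ IsCyclic L ∧ Nat.card L = n})
    (fun x => ⟨zpowers x.1, x.2.1, inferInstance, by rw [Nat.card_zpowers, x.2.2]⟩) fun L => ?_
  haveI := L.2.2.1
  haveI := Fintype.ofFinite L.1
  rw [← IsCyclic.card_orderOf_eq_totient (α := L.1) (by rw [← Nat.card_eq_fintype_card, L.2.2.2]), ← Fintype.card_subtype, ← Nat.card_eq_fintype_card]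
  have e : ∀ x : L.1, orderOf x = n → zpowers (x : G) = L.1 := fun x hx =>
    eq_of_le_of_card_le (zpowers_le.2 x.2) (by rw [Nat.card_zpowers, orderOf_coe, hx, L.2.2.2])
  exact Nat.card_congr
    { toFun := fun x => ⟨⟨x.1.1, (congrArg Subtype.val x.2).le (mem_zpowers _)⟩, (orderOf_coe _).symm.trans x.1.2.2⟩
      invFun := fun x => ⟨⟨x.1.1, (e _ x.2).symm ▸ L.2.1, (orderOf_coe _).trans x.2⟩, Subtype.ext (e _ x.2)⟩
      left_inv := fun _ => rfl
      right_inv := fun _ => rfl }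

theorem compl_dvd (hG : IsPGroup p G) (hR : Nat.card R = p) (hz : R ≤ center G) (hc : ∀ x, R ⊔ zpowers x ≠ ⊤) :
    p ^ 2 ∣ {H : Subgroup G | H.index = p ∧ ¬ R ≤ H}.ncard := by
  let D : Subgroup (MulAut G) :=
    { carrier := {α | (∀ x, α x * x⁻¹ ∈ R) ∧ ∀ r ∈ R, α r = r}
      one_mem' := ⟨fun x => by simp, fun _ _ => rfl⟩
      mul_mem' := fun {a b} ha hb => ⟨fun x => by simpa [mul_assoc] using mul_mem (ha.1 (b x)) (hb.1 x), fun r hr => by rw [MulAut.mul_apply, hb.2 r hr, ha.2 r hr]⟩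
      inv_mem' := fun {a} ha => ⟨fun x => by simpa using inv_mem (ha.1 (a⁻¹ x)), fun r hr => by rw [MulAut.inv_apply, MulEquiv.symm_apply_eq, ha.2 r hr]⟩ }
  have pR : (Nat.card R).Prime := hR ▸ hp.out
  refine Dvd.dvd.trans ?_ (CfsgH8.card_dvd_ncard_of_free D (Set.toFinite _) (fun α hα H hH => ⟨?_, fun l => hH.2 fun r hr => ?_⟩) fun α hα H hH e => MulEquiv.ext fun x => ?_)
  · have ex : ∀ M : Subgroup G, R ≤ M → M.relIndex ⊤ = p → ⊤ ≤ N[M] → ∃ α ∈ D, ∀ x, α x = x ↔ x ∈ M := fun M l i n => by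
      haveI := normalizer_eq_top_iff.1 (eq_top_iff.2 n)
      let φ : G →* R := (mulEquivOfPrimeCardEq (relIndex_top_right M ▸ i : M.index = p) hR).toMonoidHom.comp (QuotientGroup.mk' M)
      have k : ∀ x, φ x = 1 ↔ x ∈ M := fun x => by simp [φ]
      let ψ : G →* G := MonoidHom.mk' (fun x => φ x * x) fun a b => by
        rw [map_mul, coe_mul, mul_assoc, mul_assoc, ← mul_assoc a, mem_center_iff.1 (hz (φ b).2) a, mul_assoc]
      have f : ∀ x, ψ x = x ↔ x ∈ M := fun x => by rw [← k, ← OneMemClass.coe_eq_one]; exact mul_eq_right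
      have inj : Function.Injective ψ := (injective_iff_map_eq_one ψ).2 fun x hx =>
        ((f x).2 (l ((eq_inv_of_mul_eq_one_right hx : x = _) ▸ inv_mem (φ x).2))).symm.trans hx
      exact ⟨MulEquiv.ofBijective ψ (Finite.injective_iff_bijective.1 inj), ⟨fun x => by
        change φ x * x * x⁻¹ ∈ R; rw [mul_inv_cancel_right]; exact (φ x).2, fun r hr => (f r).2 (l hr)⟩, f⟩
    obtain ⟨M, l, -, n, i⟩ := exists_maximal_sub (hG.to_subgroup ⊤) (lt_top_iff_ne_top.2 fun e => hc 1 (by rw [e, top_sup_eq]) : R < ⊤)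
    obtain ⟨x, -, hx⟩ := SetLike.not_le_iff_exists.1 fun h : ⊤ ≤ M => hp.out.one_lt.ne' (i.symm.trans (relIndex_eq_one.2 h))
    obtain ⟨M', l', -, n', i'⟩ := exists_maximal_sub (hG.to_subgroup ⊤) (lt_top_iff_ne_top.2 (hc x))
    obtain ⟨α, hα, fα⟩ := ex M l i n
    obtain ⟨β, hβ, fβ⟩ := ex M' (le_sup_left.trans l') i' n'
    have pD : IsPGroup p D := fun γ => ⟨1, Subtype.ext (MulEquiv.ext fun y => by
      have : ∀ n : ℕ, (γ.1 ^ n) y = (γ.1 y * y⁻¹) ^ n * y := fun n => by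
        induction n with
        | zero => simp
        | succ n ih => rw [pow_succ', MulAut.mul_apply, ih, map_mul, γ.2.2 _ (pow_mem (γ.2.1 y) n), pow_succ, mul_assoc, inv_mul_cancel_right]
      have e : (γ.1 y * y⁻¹) ^ p = 1 := hR ▸ congrArg Subtype.val (pow_card_eq_one' (x := (⟨_, γ.2.1 y⟩ : R)))
      rw [pow_one, coe_pow, this, e, one_mul]; rfl)⟩
    obtain ⟨m, hm⟩ := pD.exists_card_eq
    rw [hm]
    refine pow_dvd_pow _ (not_lt.1 fun h => hx ?_)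
    have a1 : α ≠ 1 := fun e => hx ((fα x).1 (by rw [e]; rfl))
    have : zpowers α = D := eq_of_le_of_card_le (zpowers_le.2 hα) (by
      obtain ⟨s, hs⟩ := (pD.to_le (zpowers_le.2 hα)).exists_card_eq
      rw [hm, hs]
      refine Nat.pow_le_pow_right hp.out.pos (le_trans (by omega) (Nat.one_le_iff_ne_zero.2 ?_))
      rintro rfl
      exact a1 (zpowers_eq_bot.1 (card_eq_one.1 hs)))
    obtain ⟨s, hs⟩ := this.ge hβ
    have lm : M ≤ M' := fun y hy => (fβ y).1 (hs ▸ MulAction.mem_stabilizer_iff.1 (zpow_mem (MulAction.mem_stabilizer_iff.2 ((fα y).2 hy) : α ∈ stabilizer _ y) s))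
    exact ((eq_or_eq_of_relIndex_prime (i ▸ hp.out) lm le_top).resolve_right fun e => hp.out.one_lt.ne' (i'.symm.trans (relIndex_eq_one.2 e.ge))).le
      (l' (mem_sup_right (mem_zpowers x)))
  · rw [← hH.1]; exact index_map_equiv H α
  · have := mem_pointwise_smul_iff_inv_smul_mem.1 (l hr)
    rwa [show α⁻¹ • r = r from (D.inv_mem hα).2 r hr] at this
  · haveI : R.Normal := normal_of_le_center hz
    have t : H ⊔ R = ⊤ := (eq_or_eq_of_relIndex_prime (by rw [relIndex_top_right, hH.1]; exact hp.out) le_sup_left le_top).resolve_left fun e => hH.2 (le_sup_right.trans e.le)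
    obtain ⟨h, hh, r, hr, rfl⟩ := mem_sup_of_normal_right.1 (t.ge (mem_top x))
    rw [map_mul, hα.2 r hr, mul_inv_eq_one.1 (mem_bot.1 ((inf_eq_bot_of_not_le pR hH.2).le (mem_inf.2 ⟨hα.1 h, mul_mem (e.le (smul_mem_pointwise_smul h α H hh)) (inv_mem hh)⟩)))]
    rfl

theorem ncard_conj_modEq {P : Subgroup G} (hP : IsPGroup p P) (S : Set (Subgroup G)) (hS : ∀ g ∈ P, ∀ H ∈ S, H.map (cj g) ∈ S) :
    S.ncard ≡ {H | H ∈ S ∧ P ≤ N[H]}.ncard [MOD p] := by
  letI := MulAction.compHom (Subgroup G) (MulAut.conj : G →* MulAut G)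
  convert CfsgH8.ncard_modEq_fixed hp.out P hP S hS using 2
  ext H
  exact and_congr_right fun _ => ⟨fun h g => map_cj_eq (h g.2), fun h g hg => map_cj_eq_iff.1 (h ⟨g, hg⟩)⟩

theorem mil_class (hG : IsPGroup p G) [E.Normal] (hE : El p 2 E) {x : G} (ox : orderOf x = p ^ (j + 2)) (hn : E ≤ N[zpowers x]) (g : 2 ≠ p ^ (j + 1) ∨ x ∈ C[E]) :
    p ∣ {L : Subgroup G | L ≤ zpowers x ⊔ E ∧ IsCyclic L ∧ Nat.card L = p ^ (j + 2)}.ncard ∧
    ∀ y ∈ zpowers x ⊔ E, orderOf y = p ^ (j + 2) → zpowers y ⊔ E = zpowers x ⊔ E ∧ E ≤ N[zpowers y] := by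
  have p1 := hp.out.one_lt
  have o1 : ∀ {y : G}, orderOf y = p ^ (j + 2) → y ^ p ^ (j + 1) ≠ 1 := fun h => pow_ne_one_of_lt_orderOf (by positivity) (h ▸ Nat.pow_lt_pow_right p1 (by omega))
  have oq : orderOf (x ^ p ^ (j + 1)) = p := orderOf_eq_prime (by rw [← pow_mul, ← pow_succ, ← ox, pow_orderOf_eq_one]) (o1 ox)
  have pq : (Nat.card (zpowers (x ^ p ^ (j + 1)))).Prime := by rw [Nat.card_zpowers, oq]; exact hp.out
  have wq : zpowers x ⊓ E ≤ zpowers (x ^ p ^ (j + 1)) := fun w hw => by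
    by_cases w1 : w = 1
    · exact w1 ▸ one_mem _
    exact (eq_of_card_eq_of_cyclic inferInstance (zpowers_le.2 hw.1) (zpowers_le.2 (npow_mem_zpowers x _))
      (by rw [Nat.card_zpowers, Nat.card_zpowers, oq, orderOf_eq_prime (hE.el.2 w hw.2) w1])).le (mem_zpowers w)
  have kw : ⁅zpowers x, E⁆ ≤ zpowers x ⊓ E := le_inf (comm_le_left hn) (commutator_le_right _ _)
  have wc : zpowers x ⊔ E ≤ C[zpowers x ⊓ E] := sup_le (le_cent_of_comm inferInstance inf_le_left) (le_cent_of_comm hE.el.1 inf_le_right)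
  have kc : zpowers x ⊔ E ≤ C[⁅zpowers x, E⁆] := wc.trans (centralizer_le kw)
  have dA : ⁅zpowers x ⊔ E, zpowers x ⊔ E⁆ ≤ ⁅zpowers x, E⁆ := by
    have nA := le_sup_left.trans (kc.trans (cent_le_norm _))
    have nB := le_sup_right.trans (kc.trans (cent_le_norm _))
    rw [← isMulComm_qt_iff (sup_le nA nB), qt_sup nA nB]
    exact isMulComm_sup ((isMulComm_qt_iff nA).2 ((commutator_eq_bot_iff_le_centralizer.2 (le_cent_self inferInstance)).trans_le bot_le))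
      ((isMulComm_qt_iff nB).2 ((commutator_eq_bot_iff_le_centralizer.2 (le_cent_self hE.el.1)).trans_le bot_le)) ((qt_le_cent_iff nA nB).2 le_rfl)
  have hq : ∀ a ∈ zpowers x ⊔ E, ∀ b ∈ zpowers x ⊔ E, (a * b) ^ p ^ (j + 1) = a ^ p ^ (j + 1) * b ^ p ^ (j + 1) := fun a ha b hb => by
    have c := dA (commutator_mem_commutator (inv_mem hb) (inv_mem ha))
    rw [mul_pow_class2 (c := ⁅b⁻¹, a⁻¹⁆) (by rw [commutatorElement_def]; group) (mem_cent_iff.1 (kc ha) _ c) (mem_cent_iff.1 (kc hb) _ c), mul_eq_left]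
    rcases g with g | g
    · obtain ⟨m, hm⟩ := hp.out.dvd_choose_pow two_ne_zero g
      rw [hm, pow_mul, hE.el.2 _ (kw c).2, one_pow]
    · rw [mem_bot.1 ((commutator_eq_bot_iff_le_centralizer.2 (zpowers_le.2 g)).le c), one_pow]
  have eq1 : ∀ e ∈ E, e ^ p ^ (j + 1) = 1 := fun e he => by rw [pow_succ', pow_mul, hE.el.2 e he, one_pow]
  have fm : ∀ y ∈ zpowers x ⊔ E, ∃ k : ℤ, ∃ e ∈ E, x ^ k * e = y ∧ y ^ p ^ (j + 1) = (x ^ p ^ (j + 1)) ^ k := fun y hy => by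
    obtain ⟨_, ⟨k, rfl⟩, e, he, rfl⟩ := (mem_sup_of_norm' hn).1 hy
    exact ⟨k, e, he, rfl, by rw [hq _ (mem_sup_left (zpow_mem_zpowers x k)) _ (mem_sup_right he), eq1 e he, mul_one, ← zpow_natCast, ← zpow_natCast, ← zpow_mul, ← zpow_mul, mul_comm]⟩
  refine ⟨?_, fun y hy oy => ?_⟩
  · let B : Subgroup G :=
      { carrier := {y | y ∈ zpowers x ⊔ E ∧ y ^ p ^ (j + 1) = 1}
        one_mem' := ⟨one_mem _, one_pow _⟩
        mul_mem' := fun {a b} ha hb => ⟨mul_mem ha.1 hb.1, by rw [hq a ha.1 b hb.1, ha.2, hb.2, one_mul]⟩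
        inv_mem' := fun {a} ha => ⟨inv_mem ha.1, by rw [inv_pow, ha.2, inv_one]⟩ }
    have xA : x ∈ zpowers x ⊔ E := mem_sup_left (mem_zpowers x)
    have bA : B ≤ zpowers x ⊔ E := fun _ h => h.1
    have cB := card_sup_zpowers_prime (H := B) hp.out (mem_norm_of_map_le (map_cj_le_iff'.2 fun y hy => ⟨mul_mem (mul_mem xA hy.1) (inv_mem xA), by rw [conj_pow, hy.2]; simp⟩))
      ⟨pow_mem xA p, by rw [← pow_mul, ← pow_succ', ← ox, pow_orderOf_eq_one]⟩ fun h => o1 ox h.2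
    rw [show B ⊔ zpowers x = zpowers x ⊔ E from le_antisymm (sup_le bA le_sup_left) (sup_le le_sup_right fun e he => mem_sup_left ⟨mem_sup_right he, eq1 e he⟩)] at cB
    have c := cyc_count (· ≤ zpowers x ⊔ E) (p ^ (j + 2))
    rw [show {y : G | zpowers y ≤ zpowers x ⊔ E ∧ orderOf y = p ^ (j + 2)} = ((zpowers x ⊔ E : Subgroup G) : Set G) \ (B : Set G) from Set.ext fun y =>
      ⟨fun h => ⟨zpowers_le.1 h.1, fun k => o1 h.2 k.2⟩, fun h => ⟨zpowers_le.2 h.1, orderOf_eq_prime_pow (fun k => h.2 ⟨h.1, k⟩) (by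
        obtain ⟨k, -, -, -, e⟩ := fm y h.1
        rw [pow_succ, pow_mul, e, ← zpow_natCast, ← zpow_mul, zpow_mul', zpow_natCast, ← pow_mul, ← pow_succ, ← ox, pow_orderOf_eq_one, one_zpow])⟩⟩,
      Set.ncard_diff bA, ← Nat.card_coe_set_eq, ← Nat.card_coe_set_eq, SetLike.coe_sort_coe, SetLike.coe_sort_coe, cB, ← Nat.mul_sub_one, Nat.totient_prime_pow_succ hp.out, ← mul_assoc] at c
    obtain ⟨i, hi⟩ := exists_relIndex_eq_pow (hG.to_subgroup (zpowers x ⊔ E)) (zpowers x)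
    have c2 := CfsgH2.card_mul_relIndex (le_sup_left : zpowers x ≤ zpowers x ⊔ E)
    rcases i with _ | i
    · exact absurd (isCyclic_of_le (le_sup_right.trans (relIndex_eq_one.1 hi))) (hE.not_cyclic hp.out le_rfl)
    rw [cB, hi, Nat.card_zpowers, ox, pow_succ p i, ← mul_assoc, Nat.mul_left_inj hp.out.ne_zero, Nat.eq_of_mul_eq_mul_right (by omega) c, pow_succ, mul_assoc, mul_comm _ (p ^ (j + 1)),
      Nat.mul_right_inj (by positivity)] at c2
    exact c2 ▸ dvd_mul_right _ _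
  obtain ⟨k, e, he, rfl, ek⟩ := fm y hy
  have y1 := o1 oy
  refine ⟨le_antisymm (sup_le (zpowers_le.2 hy) le_sup_right) (sup_le (zpowers_le.2 ?_) le_sup_right), fun f hf => mem_norm_zpowers ?_⟩
  · have : IsCoprime k (orderOf x : ℤ) := by
      rw [ox, Nat.cast_pow]
      exact ((Nat.prime_iff_prime_int.1 hp.out).irreducible.coprime_iff_not_dvd.2 fun h => y1 (ek.trans (orderOf_dvd_iff_zpow_eq_one.1 (oq.symm ▸ h)))).symm.pow_right
    obtain ⟨u, v, h⟩ := this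
    have e1 : (x ^ k) ^ u = x := by
      rw [← zpow_mul', eq_sub_of_add_eq h, zpow_sub, zpow_mul', zpow_natCast, pow_orderOf_eq_one, one_zpow, inv_one, mul_one, zpow_one]
    have := zpow_mem ((mul_mem_cancel_right (mem_sup_right he)).1 (mem_sup_left (mem_zpowers (x ^ k * e)))) u
    rwa [e1] at this
  · have := (zpowers_eq_of_prime pq (ek ▸ zpow_mem_zpowers _ k) y1).ge (wq (kw (dA (commutator_mem_commutator (mem_sup_right hf) hy))))
    exact (mul_mem_cancel_right (inv_mem (mem_zpowers _))).1 (zpowers_le.2 (npow_mem_zpowers _ _) this)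

omit hp in
theorem mil_bad (hG : IsPGroup 2 G) [E.Normal] (hE : El 2 2 E) (hm : ∀ a b n, ¬ MC (⊤ : Subgroup G) a b n) :
    2 ∣ {L : Subgroup G | (E ≤ N[L] ∧ ¬ L ≤ C[E]) ∧ IsCyclic L ∧ Nat.card L = 2 ^ 2}.ncard := by
  haveI : Fact (Nat.Prime 2) := ⟨Nat.prime_two⟩
  by_cases ct : C[E] = ⊤
  · simp [ct]
  have ec : E ≤ C[E] := le_cent_self hE.el.1
  obtain ⟨F, f1, f2, f3, f4⟩ : ∃ F, E ≤ F ∧ F ≤ C[E] ∧ E.relIndex F = 2 ^ 1 ∧ ⊤ ≤ N[F] := by
    obtain ⟨i, hi⟩ := exists_relIndex_eq_pow (hG.to_subgroup C[E]) E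
    refine exists_between_pow (hG.to_subgroup ⊤) (hG.to_subgroup _) ec le_normalizer_of_normal le_normalizer_of_normal 1 (hi ▸ pow_dvd_pow _ (Nat.one_le_iff_ne_zero.2 ?_))
    rintro rfl
    obtain ⟨n, hn⟩ := (hG.to_subgroup ⊤).exists_card_eq
    have := CfsgH2.card_lt_of_lt (lt_of_le_of_lt ec (lt_top_iff_ne_top.2 ct))
    rw [hE.card, hn, Nat.pow_lt_pow_iff_right one_lt_two] at this
    obtain ⟨k, rfl⟩ : ∃ k, n = k + 3 := ⟨n - 3, by omega⟩
    obtain ⟨a, b, h⟩ := mc_of_lcs (hG.to_subgroup ⊤) hn (lcs_ne_bot_of_cent (k + 1) G ⊤ E hn le_top hE.card (inf_le_right.trans (relIndex_eq_one.1 hi)))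
    exact hm a b _ h
  obtain ⟨z, hz, z1⟩ := exists_ne_one (inf_cent_ne_bot' (hG.to_subgroup ⊤) (hG.to_subgroup E) le_normalizer_of_normal (fun e => by have := hE.card; rw [e, card_bot] at this; omega))
  have oz : orderOf z = 2 := orderOf_eq_prime (hE.el.2 z hz.1) z1
  have zc : ∀ g, g * z = z * g := fun g => mem_cent_iff.1 hz.2 g (mem_top g)
  have zE := zpowers_le.2 hz.1
  have iz : (zpowers z).relIndex E = 2 := by
    have := CfsgH2.card_mul_relIndex zE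
    rw [Nat.card_zpowers, oz, hE.card] at this; omega
  have cz : ∀ x, ∀ e ∈ E, x * e * x⁻¹ * e⁻¹ = 1 ∨ x * e * x⁻¹ * e⁻¹ = z := fun x e he => (mem_zp2 oz).1
    ((mul_mem_iff_of_index_two (H := (zpowers z).subgroupOf E) iz (a := ⟨_, Normal.conj_mem inferInstance e he x⟩) (b := ⟨e⁻¹, inv_mem he⟩)).2 (by
      rw [mem_subgroupOf, mem_subgroupOf, inv_mem_iff, mem_zp2 oz, mem_zp2 oz, conj_eq_one_iff, mul_inv_eq_iff_eq_mul, ← zc x, mul_right_inj]))
  have cx : ∀ x ∉ C[E], E ⊓ C1[x] = zpowers z := fun x hx => (eq_or_eq_of_relIndex_prime (iz ▸ Nat.prime_two) (le_inf zE (zpowers_le.2 (mem_centralizer_singleton_iff.2 (zc x).symm))) inf_le_left).resolve_right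
    fun e => hx (mem_cent_iff.2 fun g hg => mem_centralizer_singleton_iff.1 (e.ge hg).2)
  obtain ⟨e, he, ne⟩ := SetLike.not_le_iff_exists.1 fun l : E ≤ zpowers z => absurd (relIndex_eq_one.2 l ▸ iz : 1 = 2) (by decide)
  have ez : ∀ x ∉ C[E], x * e * x⁻¹ * e⁻¹ = z := fun x hx => (cz x e he).resolve_left fun k => ne ((cx x hx).le ⟨he, mem_centralizer_singleton_iff.2 (mul_inv_eq_iff_eq_mul.1 (mul_inv_eq_one.1 k)).symm⟩)
  have ee : e * e = 1 := pow_two e ▸ hE.el.2 e he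
  have zz := mul_self_of_two oz
  have sq : ∀ x ∉ C[E], x ^ 2 = 1 ∨ x ^ 2 = z → (x * e) ^ 2 = z * x ^ 2 := fun x hx h => by
    have : e * x ^ 2 = x ^ 2 * e := by rcases h with h | h <;> rw [h]; exacts [by simp, zc e]
    calc _ = x * e * x⁻¹ * e⁻¹ * (e * x ^ 2) * e := by simp only [pow_two]; group
      _ = _ := by rw [ez x hx, this, mul_assoc, mul_assoc, ee, mul_one]
  have c := cyc_count (fun L => E ≤ N[L] ∧ ¬ L ≤ C[E]) (2 ^ 2)
  rw [show {x : G | (E ≤ N[zpowers x] ∧ ¬ zpowers x ≤ C[E]) ∧ orderOf x = 2 ^ 2} = {x | x ∉ C[E] ∧ x ^ 2 = z} from Set.ext fun x => ⟨fun h => by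
      have hx := fun k => h.1.2 (zpowers_le.2 k)
      exact ⟨hx, ((eq_half_of_sq (m := 1) h.2 (ez x hx ▸ by simpa only [mul_assoc] using mul_mem (mem_zpowers x) (conj_mem_of_norm (h.1.1 he) (inv_mem (mem_zpowers x)))) zz).resolve_left z1).symm⟩,
    fun h => ⟨⟨fun f hf => mem_norm_zpowers (by
      rw [show f * x * f⁻¹ = (x * f * x⁻¹ * f⁻¹)⁻¹ * (x * f * x⁻¹ * f⁻¹ * (f * x * f⁻¹ * x⁻¹)) * x by group, show x * f * x⁻¹ * f⁻¹ * (f * x * f⁻¹ * x⁻¹) = 1 by group, mul_one]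
      refine mul_mem (inv_mem ?_) (mem_zpowers x)
      rcases cz x f hf with k | k <;> rw [k]
      exacts [one_mem _, h.2 ▸ npow_mem_zpowers x 2]), fun l => h.1 (l (mem_zpowers x))⟩,
      orderOf_eq_prime_pow (n := 1) (by rw [pow_one, h.2]; exact z1) (by rw [show 2 ^ (1 + 1) = 2 * 2 from rfl, pow_mul, h.2, pow_two, zz])⟩⟩] at c
  have d := CfsgH8.card_dvd_ncard_of_free F (T := {x : G | x ∉ C[E] ∧ x ^ 2 ∈ E}) (Set.toFinite _) (fun f hf x hx => ⟨fun k => hx.1 ((mul_mem_cancel_left (f2 hf)).1 k), by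
    rw [smul_eq_mul, show (f * x) ^ 2 = f * (x * f * x⁻¹) * x ^ 2 by simp only [pow_two]; group]
    exact mul_mem ((mul_mem_iff_of_index_two (H := E.subgroupOf F) f3 (a := ⟨f, hf⟩) (b := ⟨_, conj_mem_of_norm (f4 (mem_top x)) hf⟩)).2
      (Normal.mem_comm_iff inferInstance (a := x * f) (b := x⁻¹) |>.trans (by rw [inv_mul_cancel_left]; rfl)).symm) hx.2⟩) fun f _ x _ h => mul_eq_right.1 h
  have xe : ∀ x, x * e ∉ C[E] ↔ x ∉ C[E] := fun x => not_congr (mul_mem_cancel_right (ec he))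
  rw [show {x : G | x ∉ C[E] ∧ x ^ 2 ∈ E} = {x | x ∉ C[E] ∧ x ^ 2 = z} ∪ (· * e) '' {x | x ∉ C[E] ∧ x ^ 2 = z} from Set.ext fun x => ⟨fun h => by
      rcases (mem_zp2 oz).1 ((cx x h.1).le ⟨h.2, mem_centralizer_singleton_iff.2 (Commute.pow_left rfl 2)⟩) with k | k
      · exact Or.inr ⟨x * e, ⟨(xe x).2 h.1, by rw [sq x h.1 (Or.inl k), k, mul_one]⟩, by simp only [mul_assoc, ee, mul_one]⟩
      · exact Or.inl ⟨h.1, k⟩, by
      rintro (h | ⟨x, h, rfl⟩)
      · exact ⟨h.1, h.2 ▸ hz.1⟩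
      · exact ⟨(xe x).2 h.1, by simp only [sq x h.1 (Or.inr h.2), h.2, zz, one_mem]⟩⟩,
    Set.ncard_union_eq (Set.disjoint_left.2 (by
      rintro _ h ⟨x, k, rfl⟩
      exact z1 (by rw [← h.2, sq x k.1 (Or.inr k.2), k.2, zz]))), Set.ncard_image_of_injective _ (mul_left_injective e), c, ← CfsgH2.card_mul_relIndex f1, f3, hE.card,
    show Nat.totient (2 ^ 2) = 2 by decide] at d
  omega

theorem miller (hG : IsPGroup p G) (hc : ¬ IsCyclic G) (hm : ∀ a b n, ¬ MC (⊤ : Subgroup G) a b n) :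
    p ∣ {L : Subgroup G | IsCyclic L ∧ Nat.card L = p ^ (j + 2)}.ncard := by
  obtain ⟨E, nE, hE⟩ : ∃ E : Subgroup G, ⊤ ≤ N[E] ∧ El p 2 E := by
    by_contra h
    push Not at h
    exact (cyc_or_mc' (hG.to_subgroup ⊤) fun E _ => h E).elim (fun k => hc (isCyclic_of_surjective _ topEquiv.surjective)) fun ⟨_, a, b, m, k⟩ => hm a b m k
  haveI := normalizer_eq_top_iff.1 (eq_top_iff.2 nE)
  refine (Nat.modEq_zero_iff_dvd.1 ((ncard_conj_modEq (hG.to_subgroup E) {L : Subgroup G | IsCyclic L ∧ Nat.card L = p ^ (j + 2)} fun g _ L hL => ⟨by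
    haveI := hL.1; exact isCyclic_of_surjective _ ((cj g).subgroupMap_surjective L), (card_map_cj g L).trans hL.2⟩).trans (Nat.modEq_zero_iff_dvd.2 ?_)))
  rw [← Set.ncard_inter_add_ncard_diff_eq_ncard _ {L | 2 ≠ p ^ (j + 1) ∨ L ≤ C[E]}]
  refine Nat.dvd_add (dvd_ncard_of_classes _ (fun L => {K : Subgroup G | K ≤ L ⊔ E ∧ IsCyclic K ∧ Nat.card K = p ^ (j + 2)}) p (fun L h => ⟨le_sup_left, h.1.1⟩) ?_ ?_ ?_) ?_
  rotate_left 3
  · by_cases h : 2 = p ^ (j + 1)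
    · obtain ⟨rfl, h⟩ := (Nat.prime_two.pow_eq_iff).1 h.symm
      obtain rfl : j = 0 := by omega
      convert mil_bad hG hE hm using 2
      ext L
      simp only [Set.mem_diff, Set.mem_setOf_eq]
      tauto
    · rw [Set.diff_eq_empty.2 (by exact fun L _ => Or.inl h)]; simp
  all_goals
    rintro L ⟨⟨⟨c, o⟩, n⟩, g⟩
    obtain ⟨x, rfl⟩ := isCyclic_iff_zpowers.1 c
    obtain ⟨h1, h2⟩ := mil_class hG hE ((Nat.card_zpowers x).symm.trans o) n (g.imp_right zpowers_le.1)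
  rotate_left 2
  · exact h1
  all_goals
    rintro K ⟨l, c, o⟩
    obtain ⟨y, rfl⟩ := isCyclic_iff_zpowers.1 c
    obtain ⟨h3, h4⟩ := h2 y (zpowers_le.1 l) ((Nat.card_zpowers y).symm.trans o)
  · exact ⟨⟨⟨c, o⟩, h4⟩, g.imp_right fun k => l.trans (sup_le k (le_cent_self hE.el.1))⟩
  · simp only [h3]

theorem ncard_above [R.Normal] (hR : Nat.card R = p) :
    {H : Subgroup G | R ≤ H ∧ Nat.card H = p ^ (k + 1)}.ncard = {K : Subgroup (G ⧸ R) | Nat.card K = p ^ k}.ncard := by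
  have c : ∀ H : Subgroup G, R ≤ H → Nat.card (H.map (QuotientGroup.mk' R)) * p = Nat.card H := fun H l => by
    rw [← CfsgH2.card_map_mul_card_inf_ker (QuotientGroup.mk' R) H, QuotientGroup.ker_mk', inf_eq_right.2 l, hR]
  rw [← Set.ncard_image_of_injective {K : Subgroup (G ⧸ R) | Nat.card K = p ^ k} (comap_injective (QuotientGroup.mk'_surjective R))]
  congr 1
  ext H
  refine ⟨fun h => ⟨H.map (QuotientGroup.mk' R), Nat.eq_of_mul_eq_mul_right hp.out.pos ((c H h.1).trans h.2), comap_map_eq_self (by rw [QuotientGroup.ker_mk']; exact h.1)⟩, ?_⟩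
  rintro ⟨K, h, rfl⟩
  exact ⟨QuotientGroup.le_comap_mk' R K, by rw [← c _ (QuotientGroup.le_comap_mk' R K), map_comap_eq_self_of_surjective (QuotientGroup.mk'_surjective R), h, pow_succ]⟩

theorem ncard_nc (hG : IsPGroup p G) (hR : Nat.card R = p) (hz : R ≤ center G) :
    p ^ 2 ∣ {H : Subgroup G | (¬ R ≤ H ∧ Nat.card H = p ^ k) ∧ ¬ IsCyclic H}.ncard := by
  haveI : R.Normal := normal_of_le_center hz
  have pR : (Nat.card R).Prime := hR ▸ hp.out
  have c : ∀ {H : Subgroup G}, ¬ R ≤ H → Nat.card (H ⊔ R : Subgroup G) = Nat.card H * p := fun {H} h => by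
    have := (fac_sup_of_le_normalizer' (N := R) (H := H) le_normalizer_of_normal).card_mul
    rwa [inf_comm, inf_eq_bot_of_not_le pR h, card_bot, mul_one, hR] at this
  have e : ∀ {H K : Subgroup G}, ¬ R ≤ H → ¬ R ≤ K → Nat.card H = p ^ k → Nat.card K = p ^ k → K ≤ H ⊔ R → K ⊔ R = H ⊔ R := fun h1 h2 h3 h4 l =>
    eq_of_le_of_card_le (sup_le l le_sup_right) (by rw [c h1, c h2, h3, h4])
  have n : ∀ {H : Subgroup G}, ¬ R ≤ H → ¬ IsCyclic H → ∀ x ∈ H ⊔ R, ¬ H ≤ zpowers x ⊔ R := fun {H} h1 h2 x hx l => by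
    obtain ⟨h, hh, r, hr, rfl⟩ := mem_sup_of_normal_right.1 hx
    have : H ≤ (zpowers h ⊔ R) ⊓ H := le_inf (l.trans (sup_le (zpowers_le.2 (mul_mem_sup (mem_zpowers h) hr)) le_sup_right)) le_rfl
    rw [sup_inf_of_norm (Or.inl le_normalizer_of_normal) (zpowers_le.2 hh), inf_eq_bot_of_not_le pR h1, sup_bot_eq] at this
    exact h2 (isCyclic_of_le this)
  refine dvd_ncard_of_classes _ (fun H => {K | (¬ R ≤ K ∧ Nat.card K = p ^ k) ∧ K ≤ H ⊔ R}) _ (fun H h => ⟨h.1, le_sup_left⟩) (fun H h K hK => ⟨hK.1, fun cy => ?_⟩)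
    (fun H h K hK => by simp only [e h.1.1 hK.1.1 h.1.2 hK.1.2 hK.2]) fun H h => ?_
  · obtain ⟨x, rfl⟩ := isCyclic_iff_zpowers.1 cy
    exact n h.1.1 h.2 x (zpowers_le.1 hK.2) (le_sup_left.trans (e h.1.1 hK.1.1 h.1.2 hK.1.2 hK.2).ge)
  have := compl_dvd (R := R.subgroupOf (H ⊔ R)) (hG.to_subgroup _) ((CfsgH2.card_subgroupOf le_sup_right).trans hR)
    (fun r hr => mem_center_iff.2 fun g => Subtype.ext (mem_center_iff.1 (hz hr) g)) fun x t => n h.1.1 h.2 x x.2 fun y hy => by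
      have := mem_map_of_mem (H ⊔ R).subtype (t.ge (mem_top ⟨y, mem_sup_left hy⟩))
      rwa [Subgroup.map_sup, map_subgroupOf_eq_of_le le_sup_right, MonoidHom.map_zpowers, sup_comm] at this
  rw [← Set.ncard_image_of_injective _ (map_injective (H ⊔ R).subtype_injective)] at this
  convert this using 2
  ext K
  have i : ∀ {K : Subgroup G}, K ≤ H ⊔ R → ((K.subgroupOf (H ⊔ R)).index = p ∧ ¬ R.subgroupOf (H ⊔ R) ≤ K.subgroupOf (H ⊔ R) ↔ ¬ R ≤ K ∧ Nat.card K = p ^ k) := fun {K} l => by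
    have := CfsgH2.card_mul_relIndex l
    rw [c h.1.1, h.1.2] at this
    rw [and_comm, ← map_le_map_iff_of_injective (H ⊔ R).subtype_injective, map_subgroupOf_eq_of_le le_sup_right, map_subgroupOf_eq_of_le l]
    exact and_congr_right fun _ => ⟨fun i => Nat.eq_of_mul_eq_mul_right hp.out.pos (by rw [← this, ← i]; rfl), fun i => Nat.eq_of_mul_eq_mul_left Nat.card_pos (this.trans (by rw [i]))⟩
  refine ⟨fun hK => ⟨K.subgroupOf _, (i hK.2).2 hK.1, map_subgroupOf_eq_of_le hK.2⟩, ?_⟩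
  rintro ⟨K, hK, rfl⟩
  exact ⟨(i (map_subtype_le K)).1 (by rwa [subgroupOf, comap_map_eq_self_of_injective (H ⊔ R).subtype_injective]), map_subtype_le K⟩

theorem cyc_rec [R.Normal] (hR : Nat.card R = p) :
    {L : Subgroup G | ¬ R ≤ L ∧ IsCyclic L ∧ Nat.card L = p ^ (k + 1)}.ncard + p * {L : Subgroup G | R ≤ L ∧ IsCyclic L ∧ Nat.card L = p ^ (k + 2)}.ncard =
      p * {L : Subgroup (G ⧸ R) | IsCyclic L ∧ Nat.card L = p ^ (k + 1)}.ncard := by
  have c0 := cyc_count (G := G ⧸ R) (fun _ => True) (p ^ (k + 1))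
  have c1 := cyc_count (fun L => ¬ R ≤ L) (p ^ (k + 1))
  have c2 := cyc_count (fun L => R ≤ L) (p ^ (k + 2))
  simp only [true_and] at c0
  have o : ∀ x : G, orderOf (x : G ⧸ R) * Nat.card (zpowers x ⊓ R : Subgroup G) = orderOf x := fun x => by
    have := CfsgH2.card_map_mul_card_inf_ker (QuotientGroup.mk' R) (zpowers x)
    rwa [QuotientGroup.ker_mk', MonoidHom.map_zpowers, Nat.card_zpowers, Nat.card_zpowers] at this
  have o1 : ∀ x : G, R ≤ zpowers x → (orderOf (x : G ⧸ R) = p ^ (k + 1) ↔ orderOf x = p ^ (k + 2)) := fun x h => by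
    rw [← o, inf_eq_right.2 h, hR, pow_succ p (k + 1), Nat.mul_left_inj hp.out.ne_zero]
  have o2 : ∀ x : G, ¬ R ≤ zpowers x → (orderOf (x : G ⧸ R) = p ^ (k + 1) ↔ orderOf x = p ^ (k + 1)) := fun x h => by
    rw [← o, inf_comm, inf_eq_bot_of_not_le (hR ▸ hp.out) h, card_bot, mul_one]
  have := QuotientGroup.card_preimage_mk R {y | orderOf y = p ^ (k + 1)}
  rw [Nat.card_coe_set_eq, Nat.card_coe_set_eq, c0, hR, show QuotientGroup.mk ⁻¹' {y : G ⧸ R | orderOf y = p ^ (k + 1)} =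
    {x : G | ¬ R ≤ zpowers x ∧ orderOf x = p ^ (k + 1)} ∪ {x : G | R ≤ zpowers x ∧ orderOf x = p ^ (k + 2)} from Set.ext fun x =>
      ⟨fun h => (em' _).imp (fun k => ⟨k, (o2 x k).1 h⟩) fun k => ⟨k, (o1 x k).1 h⟩, fun h => h.elim (fun k => (o2 x k.1).2 k.2) fun k => (o1 x k.1).2 k.2⟩,
    Set.ncard_union_eq (Set.disjoint_left.2 fun x h k => h.1 k.1), c1, c2, Nat.totient_prime_pow_succ hp.out (k + 1), Nat.totient_prime_pow_succ hp.out] at this
  refine Nat.eq_of_mul_eq_mul_right (m := p ^ k * (p - 1)) (Nat.mul_pos (pow_pos hp.out.pos _) (Nat.sub_pos_of_lt hp.out.one_lt)) ?_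
  rw [mul_assoc p, ← this]; ring

theorem kul_step (hG : IsPGroup p G) (hc : ¬ IsCyclic G) (hm : ∀ a b n, ¬ MC (⊤ : Subgroup G) a b n) [R.Normal] (hR : Nat.card R = p) (hz : R ≤ center G) :
    {H : Subgroup G | Nat.card H = p ^ (k + 1)}.ncard ≡ {K : Subgroup (G ⧸ R) | Nat.card K = p ^ k}.ncard + p * {L : Subgroup (G ⧸ R) | IsCyclic L ∧ Nat.card L = p ^ (k + 1)}.ncard [MOD p ^ 2] := by
  have sp : ∀ (Q T : Subgroup G → Prop), {H | T H}.ncard = {H | Q H ∧ T H}.ncard + {H | ¬ Q H ∧ T H}.ncard := fun Q T => by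
    rw [← Set.ncard_union_eq (Set.disjoint_left.2 fun x h k => k.1 h.1)]
    congr 1; ext H; simp only [Set.mem_union, Set.mem_setOf_eq]; tauto
  obtain ⟨a, ha⟩ := miller (j := k) hG hc hm
  obtain ⟨b, hb⟩ := ncard_nc (k := k + 1) hG hR hz
  have c1 := cyc_rec (k := k) hR
  have c2 := cyc_rec (k := k + 1) hR
  rw [sp (R ≤ ·)] at ha
  obtain ⟨d, hd⟩ : p ∣ {L : Subgroup G | R ≤ L ∧ IsCyclic L ∧ Nat.card L = p ^ (k + 2)}.ncard :=
    (Nat.dvd_add_iff_left ((Nat.dvd_add_iff_left (dvd_mul_right _ _)).2 (c2 ▸ dvd_mul_right _ _))).2 (ha ▸ dvd_mul_right _ _)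
  rw [sp (R ≤ ·), ncard_above hR, ← c1, sp (fun L => IsCyclic L) fun L => ¬ R ≤ L ∧ Nat.card L = p ^ (k + 1), hd]
  simp only [and_left_comm (a := IsCyclic _), and_comm (a := ¬ IsCyclic _), hb]
  exact (((Nat.modEq_zero_iff_dvd.2 (dvd_mul_right _ b)).trans (Nat.modEq_zero_iff_dvd.2 ⟨d, by ring⟩).symm).add_left _).add_left _

theorem kulakoff (m : ℕ) : ∀ (G : Type u) [Group G] [Finite G], Nat.card G = p ^ m → ¬ IsCyclic G → (∀ a b n, ¬ MC (⊤ : Subgroup G) a b n) → ∀ k, k + 1 < m →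
    {H : Subgroup G | Nat.card H = p ^ (k + 1)}.ncard ≡ 1 + p [MOD p ^ 2] := by
  induction m with
  | zero => exact fun _ _ _ _ _ _ _ h => absurd h (Nat.not_lt_zero _)
  | succ m ih =>
    intro G _ _ cG hc hm k hk
    have hG := IsPGroup.of_card cG
    haveI := hG.isNilpotent
    have ex : ∀ N : Subgroup G, N.Normal → N ≠ ⊥ → ∃ R ≤ N, Nat.card R = p ∧ R ≤ center G := fun N _ h => by
      obtain ⟨R, l, c⟩ := CfsgH2.exists_card_prime_le hp.out (H := N ⊓ C[(⊤ : Subgroup G)]) (by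
        obtain ⟨_ | i, hi⟩ := (hG.to_subgroup (N ⊓ C[(⊤ : Subgroup G)])).exists_card_eq
        · exact absurd (card_eq_one.1 hi) (inf_cent_ne_bot' (hG.to_subgroup ⊤) (hG.to_subgroup N) le_normalizer_of_normal h)
        · exact hi ▸ dvd_pow_self _ i.succ_ne_zero)
      exact ⟨R, l.trans inf_le_left, c, fun x hx => mem_center_iff.2 fun g => mem_cent_iff.1 (l hx).2 g (mem_top g)⟩
    have cq : ∀ (R : Subgroup G) [R.Normal], Nat.card R = p → Nat.card (G ⧸ R) = p ^ m := fun R _ c =>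
      Nat.eq_of_mul_eq_mul_left hp.out.pos (by rw [← pow_succ', ← cG, ← R.card_mul_index, c]; rfl)
    have t0 : (⊤ : Subgroup G) ≠ ⊥ := fun e => by
      haveI : IsCyclic (⊤ : Subgroup G) := e ▸ inferInstance
      exact hc (isCyclic_of_surjective _ topEquiv.surjective)
    rcases k with _ | k
    · obtain ⟨R, -, c, z⟩ := ex ⊤ inferInstance t0
      haveI : R.Normal := normal_of_le_center z
      refine (kul_step hG hc hm c z).trans ?_
      have h1 : {L : Subgroup (G ⧸ R) | IsCyclic L ∧ Nat.card L = p ^ (0 + 1)}.ncard ≡ 1 [MOD p] := by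
        convert CfsgL0.card_subgroups_modEq (G := G ⧸ R) (β := 0 + 1) hp.out (cq R c ▸ pow_dvd_pow _ (by omega)) using 1
        exact congrArg Set.ncard (Set.ext fun L => and_iff_right_of_imp fun h => isCyclic_of_card_prime hp.out (h.trans (pow_one p)))
      rw [show {K : Subgroup (G ⧸ R) | Nat.card K = p ^ 0} = {⊥} from Set.ext fun K => card_eq_one, Set.ncard_singleton, pow_two]
      simpa using (h1.mul_left' p).add_left 1
    obtain ⟨R, c, z, nc, d⟩ : ∃ R : Subgroup G, Nat.card R = p ∧ R ≤ center G ∧ (∀ x, R ⊔ zpowers x ≠ ⊤) ∧ (commutator G = ⊥ ∨ R ≤ commutator G) := by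
      have fr : ∀ R ≤ frattini G, ∀ x, R ⊔ zpowers x ≠ ⊤ := fun R l x e => by
        haveI : IsCyclic (⊤ : Subgroup G) := frattini_nongenerating (K := zpowers x) (eq_top_iff.2 (e.ge.trans (sup_le (l.trans le_sup_right) le_sup_left))) ▸ inferInstance
        exact hc (isCyclic_of_surjective _ topEquiv.surjective)
      by_cases d0 : commutator G = ⊥
      · by_cases f0 : frattini G = ⊥
        · obtain ⟨R, -, c, z⟩ := ex ⊤ inferInstance t0
          haveI : R.Normal := normal_of_le_center z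
          refine ⟨R, c, z, fun x e => ?_, Or.inl d0⟩
          have := CfsgH2.card_sup_dvd (H := zpowers x) (K := R) (Or.inl le_normalizer_of_normal)
          rw [sup_comm, e, card_top, cG, c, Nat.card_zpowers] at this
          have := (Nat.pow_dvd_pow_iff_le_right hp.out.one_lt).1 (this.trans (pow_two p ▸ Nat.mul_dvd_mul_right (orderOf_dvd_of_pow_eq_one (mem_bot.1 (f0.le (pow_mem_frattini hG x)))) p))
          omega
        · obtain ⟨R, l, c, z⟩ := ex _ inferInstance f0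
          exact ⟨R, c, z, fr R l, Or.inl d0⟩
      · obtain ⟨R, l, c, z⟩ := ex _ inferInstance d0
        exact ⟨R, c, z, fr R (l.trans commutator_le_frattini), Or.inr l⟩
    haveI : R.Normal := normal_of_le_center z
    have n1 : ¬ IsCyclic (G ⧸ R) := fun h => by
      obtain ⟨y, hy⟩ := isCyclic_iff_exists_zpowers_eq_top.1 h
      obtain ⟨x, rfl⟩ := QuotientGroup.mk'_surjective R y
      exact nc x (by rw [← MonoidHom.map_zpowers] at hy; rw [← comap_top (QuotientGroup.mk' R), ← hy, comap_map_eq, QuotientGroup.ker_mk', sup_comm])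
    have md : (commutator G).map (QuotientGroup.mk' R) = ⁅(⊤ : Subgroup (G ⧸ R)), ⊤⁆ := by
      rw [_root_.commutator_def, map_commutator, map_top_of_surjective _ (QuotientGroup.mk'_surjective R)]
    have n2 : ∀ a b n, ¬ MC (⊤ : Subgroup (G ⧸ R)) a b n := fun a b n h => by
      have ab : commutator G ≠ ⊥ := fun e => by
        have := h.card_commutator
        rw [← md, e, Subgroup.map_bot, card_bot] at this
        exact absurd this (Nat.one_lt_two_pow (Nat.ne_of_gt h.pos)).ne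
      obtain rfl : p = 2 := ((Nat.prime_dvd_prime_iff_eq Nat.prime_two hp.out).1 (Nat.prime_two.dvd_of_dvd_pow (by
        rw [← cq R c, ← card_top, h.card]; exact dvd_pow_self _ (by omega)))).symm
      obtain ⟨a, b, n, h⟩ := taussky (hG.to_subgroup ⊤) (by
        rw [← h.relIndex_commutator, ← md, relIndex_top_right, relIndex_top_right, index_map_eq _ (QuotientGroup.mk'_surjective R) (by
          rw [QuotientGroup.ker_mk']; exact d.resolve_left ab)]; rfl) fun k => ab (commutator_eq_bot_iff_le_centralizer.2 (le_cent_self k))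
      exact hm a b n h
    obtain ⟨d, hd⟩ := miller (j := k) (hG.to_quotient R) n1 n2
    refine (kul_step hG hc hm c z).trans ?_
    rw [hd]
    simpa using (ih _ (cq R c) n1 n2 k (by omega)).add (Nat.modEq_zero_iff_dvd.2 ⟨d, by ring⟩ : p * (p * d) ≡ 0 [MOD p ^ 2])

omit hp in
theorem ncard_le_eq (L : Subgroup G) (n : ℕ) : {K : Subgroup G | Nat.card K = n ∧ K ≤ L}.ncard = {K : Subgroup L | Nat.card K = n}.ncard := by
  rw [← Set.ncard_image_of_injective {K : Subgroup L | Nat.card K = n} (map_injective L.subtype_injective)]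
  congr 1
  ext K
  refine ⟨fun h => ⟨K.subgroupOf L, (CfsgH2.card_subgroupOf h.2).trans h.1, map_subgroupOf_eq_of_le h.2⟩, ?_⟩
  rintro ⟨K, h, rfl⟩
  exact ⟨(card_map_of_injective L.subtype_injective).trans h, map_subtype_le K⟩

theorem hall_max {P M : Subgroup G} (hP : Syl p P ⊤) (h : p ^ (k + 1) ∣ Nat.card P) (l : M ≤ P) (i : M.relIndex P = p) :
    p ^ 2 ∣ {K : Subgroup G | (Nat.card K = p ^ k ∧ ¬ K ≤ P) ∧ M ≤ N[K]}.ncard := by
  have cP := CfsgH2.card_mul_relIndex l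
  rw [i] at cP
  have iQ : ∀ {Q : Subgroup G}, Syl p Q ⊤ → M ≤ Q → M.relIndex Q = p := fun hQ lQ => by
    obtain ⟨g, -, rfl⟩ := hP.conj hQ
    exact Nat.eq_of_mul_eq_mul_left Nat.card_pos ((CfsgH2.card_mul_relIndex lQ).trans ((card_map_cj g P).trans cP.symm))
  have nQ : ∀ {Q : Subgroup G}, Syl p Q ⊤ → M ≤ Q → Q ≤ N[M] := fun hQ lQ => by
    obtain ⟨L, l1, l2, l3, l4⟩ := exists_maximal_sub hQ.pg (lt_of_le_of_ne lQ fun e => hp.out.one_lt.ne ((relIndex_eq_one.2 e.ge).symm.trans (iQ hQ lQ)))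
    rwa [(eq_or_eq_of_relIndex_prime ((iQ hQ lQ).symm ▸ hp.out) l1 l2).resolve_right fun e => hp.out.one_lt.ne ((relIndex_eq_one.2 e.ge).symm.trans l4)] at l3
  have nM := nQ hP l
  have h1 : p ∣ {Q : Subgroup G | Syl p Q ⊤ ∧ M ≤ Q ∧ Q ≠ P}.ncard := by
    refine Nat.modEq_zero_iff_dvd.1 ((ncard_conj_modEq hP.pg {Q : Subgroup G | Syl p Q ⊤ ∧ M ≤ Q ∧ Q ≠ P} fun g hg Q hQ => ⟨hQ.1.map_cj_mem (mem_top g), (map_cj_eq (nM hg)).ge.trans (map_mono hQ.2.1),
      fun e => hQ.2.2 (map_cj_inj.1 (e.trans (map_cj_of_mem hg).symm))⟩).trans ?_)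
    rw [Set.eq_empty_of_forall_notMem (s := {H | _ ∧ _}) fun Q hQ => hQ.1.2.2 (hP.eq_of_le hQ.1.1.pg (hQ.1.1.le_of_norm' hP.pg le_top hQ.2) le_top), Set.ncard_empty]
  have h2 : p ∣ {K : Subgroup G | (Nat.card K = p ^ k ∧ K ≤ P ∧ ¬ K ≤ M) ∧ M ≤ N[K]}.ncard := by
    have c : ∀ g ∈ P, ∀ K ∈ {K : Subgroup G | Nat.card K = p ^ k ∧ K ≤ P ∧ ¬ K ≤ M}, K.map (cj g) ∈ {K : Subgroup G | Nat.card K = p ^ k ∧ K ≤ P ∧ ¬ K ≤ M} := fun g hg K hK =>
      ⟨(card_map_cj g K).trans hK.1, map_cj_le_of_mem hK.2.1 hg, fun e => hK.2.2 (map_cj_le_map_cj.1 (e.trans (map_cj_eq (nM hg)).ge))⟩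
    have a1 := ncard_conj_modEq hP.pg _ c
    have a2 := ncard_conj_modEq hP.pg {K : Subgroup G | (Nat.card K = p ^ k ∧ K ≤ P ∧ ¬ K ≤ M) ∧ M ≤ N[K]} fun g hg K hK => ⟨c g hg K hK.1, by
      rw [normalizer_map_cj]; exact (map_cj_eq (nM hg)).ge.trans (map_mono hK.2)⟩
    rw [show {H | H ∈ {K : Subgroup G | (Nat.card K = p ^ k ∧ K ≤ P ∧ ¬ K ≤ M) ∧ M ≤ N[K]} ∧ P ≤ N[H]} = {H | H ∈ {K : Subgroup G | Nat.card K = p ^ k ∧ K ≤ P ∧ ¬ K ≤ M} ∧ P ≤ N[H]} from
      Set.ext fun K => ⟨fun h => ⟨h.1.1, h.2⟩, fun h => ⟨⟨h.1, l.trans h.2⟩, h.2⟩⟩] at a2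
    refine Nat.modEq_zero_iff_dvd.1 (a2.trans (a1.symm.trans (Nat.ModEq.add_right_cancel' 1 ?_)))
    have b1 : {K : Subgroup G | Nat.card K = p ^ k ∧ K ≤ P}.ncard ≡ 1 [MOD p] := ncard_le_eq P _ ▸ CfsgL0.card_subgroups_modEq hp.out ((pow_dvd_pow p k.le_succ).trans h)
    have b2 : {K : Subgroup G | Nat.card K = p ^ k ∧ K ≤ M}.ncard ≡ 1 [MOD p] := ncard_le_eq M _ ▸ CfsgL0.card_subgroups_modEq hp.out (Nat.dvd_of_mul_dvd_mul_right hp.out.pos (cP ▸ h))
    refine (b2.symm.add_left _).trans (Nat.ModEq.trans (by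
      rw [← Set.ncard_union_eq (Set.disjoint_left.2 fun K h k => h.2.2 k.2)]
      exact congrArg (Set.ncard · % p) (Set.ext fun K => ⟨fun h => h.elim (fun h => ⟨h.1, h.2.1⟩) fun h => ⟨h.1, h.2.trans l⟩, fun h => (em' _).imp (fun k => ⟨h.1, h.2, k⟩) fun k => ⟨h.1, k⟩⟩)) b1)
  have := CfsgL0.card_eq_mul_of_fiber (ι := {K : Subgroup G | (Nat.card K = p ^ k ∧ ¬ K ≤ P) ∧ M ≤ N[K]}) (κ := {Q : Subgroup G | Syl p Q ⊤ ∧ M ≤ Q ∧ Q ≠ P})
    (n := {K : Subgroup G | (Nat.card K = p ^ k ∧ K ≤ P ∧ ¬ K ≤ M) ∧ M ≤ N[K]}.ncard) (fun K => ⟨M ⊔ K.1, by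
      obtain ⟨Q, hQ, lQ⟩ := exists_syl_ge (M := ⊤) (IsPGroup.to_sup_of_normal_right' (hP.pg.to_le l) (isPGroup_of_card K.2.1.1) K.2.2) le_top
      rwa [(eq_or_eq_of_relIndex_prime ((iQ hQ (le_sup_left.trans lQ)).symm ▸ hp.out) le_sup_left lQ).resolve_left fun e => K.2.1.2 (le_sup_right.trans (e.le.trans l))],
      le_sup_left, fun e => K.2.1.2 (le_sup_right.trans e.le)⟩) fun Q => by
    obtain ⟨Q, hQ, lQ, n⟩ := Q
    obtain ⟨g, hg, rfl⟩ := (hP.mono nM le_top).conj (hQ.mono (nQ hQ lQ) le_top)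
    have e := map_cj_eq hg
    have f : P ⊓ P.map (cj g) = M := (eq_or_eq_of_relIndex_prime (i.symm ▸ hp.out) (le_inf l lQ) inf_le_left).resolve_right fun e => n (hP.eq_of_le hQ.pg (inf_eq_left.1 e) le_top)
    refine (Nat.card_congr (Equiv.ofBijective (fun K : {K : Subgroup G | (Nat.card K = p ^ k ∧ K ≤ P ∧ ¬ K ≤ M) ∧ M ≤ N[K]} => ⟨⟨K.1.map (cj g), ⟨(card_map_cj g _).trans K.2.1.1,
      fun t => K.2.1.2.2 (map_cj_le_map_cj.1 ((le_inf t (map_mono K.2.1.2.1)).trans (f.trans e.symm).le))⟩, by rw [normalizer_map_cj]; exact e.ge.trans (map_mono K.2.2)⟩, Subtype.ext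
      ((eq_or_eq_of_relIndex_prime ((iQ hQ lQ).symm ▸ hp.out) le_sup_left (sup_le lQ (map_mono K.2.1.2.1))).resolve_left
        fun t => K.2.1.2.2 (map_cj_le_map_cj.1 (le_sup_right.trans (t.trans e.symm).le)))⟩)
      ⟨fun K L t => Subtype.ext (map_cj_inj.1 (congrArg (·.1.1) t)), fun ⟨⟨K, hK⟩, t⟩ => ?_⟩)).symm
    · have e' := map_cj_eq (inv_mem hg)
      exact ⟨⟨K.map (cj g⁻¹), ⟨(card_map_cj _ _).trans hK.1.1, map_cj_le_iff.2 (by rw [inv_inv]; exact le_sup_right.trans (congrArg Subtype.val t).le),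
        fun t => hK.1.2 ((map_cj_le_map_cj.1 (t.trans e'.ge)).trans l)⟩, by rw [normalizer_map_cj]; exact e'.ge.trans (map_mono hK.2)⟩, Subtype.ext (Subtype.ext (map_cj_cj_inv g K))⟩
  rw [Nat.card_coe_set_eq, Nat.card_coe_set_eq] at this
  rw [this, pow_two]
  exact Nat.mul_dvd_mul h1 h2

theorem hall_red {P : Subgroup G} (hP : Syl p P ⊤) (h : p ^ (k + 1) ∣ Nat.card P) : p ^ 2 ∣ {K : Subgroup G | Nat.card K = p ^ k ∧ ¬ K ≤ P}.ncard := by
  have n : ∀ {K : Subgroup G}, Nat.card K = p ^ k ∧ ¬ K ≤ P → ¬ P ≤ N[K] := fun h l => h.2 (hP.le_of_norm (isPGroup_of_card h.1) le_top l)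
  rw [← Set.ncard_inter_add_ncard_diff_eq_ncard _ {K | N[K].relIndex P = p}]
  refine Nat.dvd_add ?_ ?_
  · have e : ∀ {H K : Subgroup G}, N[H].relIndex P = p → (Nat.card K = p ^ k ∧ ¬ K ≤ P) ∧ P ⊓ N[H] ≤ N[K] → P ⊓ N[K] = P ⊓ N[H] := fun i hK =>
      (eq_or_eq_of_relIndex_prime (by rw [inf_relIndex_left, i]; exact hp.out) (le_inf inf_le_left hK.2) inf_le_left).resolve_right fun e => n hK.1 (inf_eq_left.1 e)
    exact dvd_ncard_of_classes _ (fun H => {K : Subgroup G | (Nat.card K = p ^ k ∧ ¬ K ≤ P) ∧ P ⊓ N[H] ≤ N[K]}) _ (fun H h => ⟨h.1, inf_le_right⟩)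
      (fun H h K hK => ⟨hK.1, by rw [Set.mem_setOf_eq, ← inf_relIndex_left, e h.2 hK, inf_relIndex_left]; exact h.2⟩) (fun H h K hK => by simp only [e h.2 hK])
      fun H k => hall_max hP h inf_le_left ((inf_relIndex_left _ _).trans k.2)
  letI := MulAction.compHom (Subgroup G) ((MulAut.conj : G →* MulAut G).comp P.subtype)
  refine CfsgL0.dvd_ncard_of_orbits (D := P) (Set.toFinite _) fun K hK => ⟨fun g => ⟨⟨(card_map_cj g.1 K).trans hK.1.1, fun l => hK.1.2 (map_cj_le_map_cj.1 (l.trans (map_cj_of_mem g.2).ge))⟩,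
    fun e => hK.2 (by rw [Set.mem_setOf_eq, ← relIndex_map_cj g.1, ← normalizer_map_cj, map_cj_of_mem g.2]; exact e)⟩, ?_⟩
  rw [show stabilizer P K = N[K].subgroupOf P from Subgroup.ext fun g => map_cj_eq_iff]
  obtain ⟨_ | _ | i, hi⟩ := exists_relIndex_eq_pow hP.pg N[K]
  · exact absurd (relIndex_eq_one.1 hi) (n hK.1)
  · exact absurd (hi.trans (pow_one p)) hK.2
  · exact (pow_dvd_pow _ (by omega)).trans hi.symm.dvd

end CfsgH1
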