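import Cfsg.Agent.H1.LX
import Cfsg.Agent.H2.Gs2
import Cfsg.Agent.H2.WC

/-! Pairs of large extraspecial 2-subgroups. -/

set_option autoImplicit false

namespace CfsgH1

open Subgroup Cfsg CfsgH2 Function
open CfsgL0 hiding cj cj_injective conj_mem_of_mem_normalizer conj_mem_of_mem_normalizer' isPGroup_of_forall isPGroup_zpowers isPGroup_zpowers_of_orderOf mem_normalizer_of_conj_mem
open scoped commutatorElement

variable {G : Type*} [Group G] [Finite G] {a b c g k q x y z : G} {A H K L M N P Q R V W : Subgroup G} {n : ℕ}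

theorem XZ.card_cent (h : XZ Q z) (h1 : z ∈ A) (h2 : A ≤ Q) : o[A] * o[Q ⊓ C[A]] = o[Q] * 2 := by
  rw [h.wx.card_cent h2, h.zc, inf_eq_right.2 (zpowers_le.2 h1), Nat.card_zpowers, h.ord]

theorem XZ.cent_cent (h : XZ Q z) (h1 : z ∈ A) (h2 : A ≤ Q) : Q ⊓ C[Q ⊓ C[A]] = A := by
  refine (eq_of_le_of_card_ge (le_inf h2 (le_centralizer_iff.1 inf_le_right)) ?_).symm
  have e1 := h.card_cent h1 h2
  have e2 := h.card_cent (A := Q ⊓ C[A]) ⟨h.mem, cent_anti h2 h.memc⟩ inf_le_left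
  exact (Nat.eq_of_mul_eq_mul_left (card_pos' _) (e2.trans (e1.symm.trans (mul_comm _ _)))).le

theorem XZ.exists_tv (h : XZ Q z) (h1 : z ∈ A) (h2 : A ≤ Q) (hx : x ∈ Q) (h3 : x ∉ A) : ∃ g ∈ Q ⊓ C[A], g * x * g⁻¹ = z * x := by
  obtain ⟨g, hg, c⟩ := SetLike.not_le_iff_exists.1 fun e : Q ⊓ C[A] ≤ C1[x] => h3 ((h.cent_cent h1 h2).le ⟨hx, le_cent1_iff.1 e⟩)
  exact ⟨g, hg, h.conj_eq hg.1 hx c⟩

theorem XZ.inv_mul_mem (h : XZ Q z) (hb : b ∈ Q) (ha : a ∈ Q) (hc : a ∉ C1[b]) (hq : q ∈ Q) (c : q ∉ C1[b]) : a⁻¹ * q ∈ C1[b] := by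
  rw [mem_c1]
  calc a⁻¹ * q * b = a⁻¹ * (q * b * q⁻¹) * q := by group
    _ = _ := by rw [h.conj_eq hq hb c, ← h.conj_eq ha hb hc]; group

theorem XZ.sup_zpowers (h : XZ Q z) (hb : b ∈ Q) (ha : a ∈ Q) (hc : a ∉ C1[b]) : (Q ⊓ C1[b]) ⊔ zpowers a = Q := by
  refine le_antisymm (sup_le inf_le_left (zpowers_le.2 ha)) fun q hq => ?_
  by_cases c : q ∈ C1[b]
  · exact mem_sup_left ⟨hq, c⟩
  rw [← mul_inv_cancel_left a q]
  exact mul_mem (mem_sup_right (mem_zpowers a)) (mem_sup_left ⟨Q.mul_mem (inv_mem ha) hq, h.inv_mul_mem hb ha hc hq c⟩)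

/-- an element centralizing the centralizer of a non-central involution of `Q` lies in `Q` -/
theorem LX.mem_of_cent (h : LX Q z) (hx : x ∈ Q) (h1 : x ∉ zpowers z) (h2 : x * x = 1) (hy : y ∈ C[Q ⊓ C1[x]]) : y ∈ Q := by
  have y1 : y ∈ C1[z] := mem_c1.2 (mem_cent_iff.1 hy z ⟨h.mem, mem_c1_comm.1 (h.le_c1 hx)⟩).symm
  have y2 := h.norm y1
  have k : ⁅zpowers y, Q⁆ ≤ C[Q ⊓ C1[x]] := commutator_eq_bot_iff_le_centralizer.1 (three_subgroup (commutator_eq_bot_iff_le_centralizer.2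
    ((commutator_mono le_rfl inf_le_left).trans (h.der.trans (zpowers_le.2 ((cent_zpowers y).ge (mem_c1_comm.1 y1))))))
    (by rw [commutator_eq_bot_iff_le_centralizer.2 (le_centralizer_iff.1 (zpowers_le.2 hy)), commutator_bot_left]))
  have k2 : ∀ a ∈ Q, ⁅a, y⁆ ∈ zpowers z := fun a ha => by
    by_cases c : a ∈ C1[x]
    · rw [commutatorElement_eq_one_iff_mul_comm.2 (mem_cent_iff.1 hy a ⟨ha, c⟩)]; exact one_mem _
    rw [← commutatorElement_inv, inv_mem_iff]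
    have m : ⁅y, a⁆ ∈ Q := mul_mem (conj_mem_of_norm y2 ha) (inv_mem ha)
    obtain ⟨u, hu, v, hv, e⟩ := (mem_sup_of_norm' ((zpowers_le.2 (h.le_c1 hx)).trans (norm_zp2 h.ord).ge)).1
      (h.cent_c1 hx h1 m (k (commutator_mem_commutator (mem_zpowers y) ha)))
    rcases (mem_zp2 (orderOf_eq_prime (x := x) (by rw [sq, h2]) fun d => h1 (d ▸ one_mem _))).1 hv with rfl | rfl
    · rwa [← e, mul_one]
    have e1 := mem_c1.1 ((zpowers_le.2 (mem_c1_comm.1 y1) : zpowers z ≤ C1[y]) (h.sq_mem ha))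
    have e2 := h.conj_eq ha hx c
    have e3 := mem_cent_iff.1 ((zpowers_le.2 h.memc : zpowers z ≤ C[Q]) hu)
    have e4 : u * u = 1 := ((mem_zp2 h.ord).1 hu).elim (fun d => by simp [d]) fun d => d ▸ mul_self_of_two h.ord
    have : z * a ^ 2 = a ^ 2 := by
      symm
      calc a ^ 2 = y * a ^ 2 * y⁻¹ := by rw [← e1, mul_inv_cancel_right]
        _ = ⁅y, a⁆ * a * (⁅y, a⁆ * a) := by rw [sq]; group
        _ = u * (v * a * u) * v * a := by rw [← e]; group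
        _ = (u * u) * v * (a * v * a⁻¹) * a ^ 2 := by rw [e3 _ (mul_mem hx ha), sq]; group
        _ = z * (v * v) * a ^ 2 := by rw [e4, e2, one_mul, ← mul_assoc, mem_c1.1 (h.le_c1 hx), mul_assoc z]
        _ = _ := by rw [h2, mul_one]
    exact (ne_one_of_two h.ord (by simpa using this)).elim
  exact zpowers_le.1 (h.le_of_comm ((commutator_comm _ _).le.trans (comm_le_of_le_stab (zpowers_le.2 ⟨(norm_zp2 h.ord).ge y1, k2⟩))) (zpowers_le.2 y1))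

/-- a pair of mutually orthogonal large extraspecial subgroups -/
structure LP (Q R : Subgroup G) (z x : G) : Prop where
  q : LX Q z
  r : LX R x
  xq : x ∈ Q
  zr : z ∈ R
  ne : x ≠ z
  br : ∀ a k : G, a * x * a⁻¹ = k * z * k⁻¹ → R.map (cj a) = Q.map (cj k)

theorem LX.lp (h : LX Q z) (hx : g * z * g⁻¹ ∈ Q) (hg : g ∉ C1[z]) : LP Q (Q.map (cj g)) z (g * z * g⁻¹) :=
  ⟨h, h.map_cj g, hx, h.symm hx, fun e => hg (mem_c1.2 (mul_inv_eq_iff_eq_mul.1 e)), fun a k e => by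
    rw [map_cj_cj]; exact h.map_eq (by rw [← e]; group)⟩

namespace LP

omit [Finite G] in
theorem symm (h : LP Q R z x) : LP R Q x z := ⟨h.r, h.q, h.zr, h.xq, h.ne.symm, fun a k e => (h.br k a e.symm).symm⟩
theorem x1 (h : LP Q R z x) : x ∉ zpowers z := fun e => ((mem_zp2 h.q.ord).1 e).elim (ne_one_of_two h.r.ord) h.ne
theorem disj (h : LP Q R z x) : zpowers z ⊓ zpowers x = ⊥ := eq_bot_iff.2 fun _ hu => ((mem_zp2 h.r.ord).1 hu.2).resolve_right fun e => h.x1 (e ▸ hu.1)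
omit [Finite G] in
theorem cV : C[zpowers z ⊔ zpowers x] = C1[z] ⊓ C1[x] := by rw [cent_sup, cent_zpowers, cent_zpowers]
omit [Finite G] in
theorem V_le (h : LP Q R z x) : zpowers z ⊔ zpowers x ≤ Q ⊓ R := sup_le (zpowers_le.2 ⟨h.q.mem, h.zr⟩) (zpowers_le.2 ⟨h.xq, h.r.mem⟩)
theorem card_V (h : LP Q R z x) : o[zpowers z ⊔ zpowers x] = 4 := by
  rw [card_sup_of_disj (Or.inr (zpowers_le.2 ((norm_zp2 h.q.ord).ge (h.q.le_c1 h.xq)))) h.disj, Nat.card_zpowers, Nat.card_zpowers, h.q.ord, h.r.ord]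
theorem nV (h : LP Q R z x) : Q ≤ N[zpowers z ⊔ zpowers x] := h.q.le_norm (mem_sup_left (mem_zpowers z)) (h.V_le.trans inf_le_left)
theorem nV' (h : LP Q R z x) : Q ⊔ R ≤ N[zpowers z ⊔ zpowers x] := sup_le h.nV (sup_comm (zpowers x) _ ▸ h.symm.nV)
omit [Finite G] in
theorem E_le (h : LP Q R z x) : Q ⊓ R ≤ Q ⊓ C1[x] := inf_le_inf_left _ h.r.le_c1
omit [Finite G] in
theorem inf_eq (h : LP Q R z x) : (R ⊓ C1[z]) ⊓ (Q ⊓ C1[x]) = Q ⊓ R :=
  le_antisymm (le_inf (inf_le_right.trans inf_le_left) (inf_le_left.trans inf_le_left)) (le_inf (inf_comm Q R ▸ h.symm.E_le) h.E_le)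
omit [Finite G] in
theorem R_le (h : LP Q R z x) : (R ⊓ C1[z]) ⊔ (Q ⊓ C1[x]) ≤ C1[z] ⊓ C1[x] :=
  sup_le (le_inf inf_le_right (inf_le_left.trans h.r.le_c1)) (le_inf (inf_le_left.trans h.q.le_c1) inf_le_right)
omit [Finite G] in
theorem Y_norm (h : LP Q R z x) : C1[z] ⊓ C1[x] ≤ N[Q ⊓ C1[x]] := le_norm_inf (inf_le_left.trans h.q.norm) (le_norm_of_le inf_le_right)
omit [Finite G] in
theorem Y_norm' (h : LP Q R z x) : C1[z] ⊓ C1[x] ≤ N[R ⊓ C1[z]] := inf_comm C1[x] _ ▸ h.symm.Y_norm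
theorem comm_Y (h : LP Q R z x) : ⁅Q, C1[z] ⊓ C1[x]⁆ ≤ Q ⊓ C1[x] :=
  le_inf (comm_le_left (inf_le_left.trans h.q.norm)) ((comm_le_right (cV (z := z) (x := x) ▸ le_norm_cent h.nV)).trans inf_le_right)
theorem Q_norm (h : LP Q R z x) : Q ≤ N[(R ⊓ C1[z]) ⊔ (Q ⊓ C1[x])] :=
  le_norm_of_comm_le ((commutator_mono h.R_le le_rfl).trans ((commutator_comm _ _).le.trans h.comm_Y)) le_sup_right
theorem X_norm (h : LP Q R z x) : Q ⊔ R ≤ N[(R ⊓ C1[z]) ⊔ (Q ⊓ C1[x])] := sup_le h.Q_norm (sup_comm (Q ⊓ C1[x]) _ ▸ h.symm.Q_norm)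
theorem comm_XY (h : LP Q R z x) : ⁅C1[z] ⊓ C1[x], Q ⊔ R⁆ ≤ (R ⊓ C1[z]) ⊔ (Q ⊓ C1[x]) :=
  comm_le_of_le_stab (sup_le (le_stab h.Q_norm ((commutator_comm _ _).le.trans (h.comm_Y.trans le_sup_right)))
    (le_stab (le_sup_right.trans h.X_norm) ((commutator_comm _ _).le.trans ((inf_comm C1[x] _ ▸ h.symm.comm_Y).trans le_sup_left))))
theorem comm_E (h : LP Q R z x) : ⁅Q ⊓ R, Q ⊔ R⁆ ≤ zpowers z ⊔ zpowers x :=
  comm_le_of_le_stab (sup_le (le_stab h.nV ((commutator_mono inf_le_left le_rfl).trans (h.q.der.trans le_sup_left)))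
    (le_stab (le_sup_right.trans h.nV') ((commutator_mono inf_le_right le_rfl).trans (h.r.der.trans le_sup_right))))
theorem pg (h : LP Q R z x) : PG[2, (R ⊓ C1[z]) ⊔ (Q ⊓ C1[x])] :=
  isPGroup_sup (h.r.pg.to_le inf_le_left) (h.q.pg.to_le inf_le_left) (Or.inl (le_sup_left.trans (h.R_le.trans h.Y_norm)))

theorem not_comm (h : LP Q R z x) : ¬ ⁅Q ⊔ R, Q ⊔ R⁆ ≤ C[zpowers z ⊔ zpowers x] := fun c => by
  obtain ⟨a, ha, e1⟩ := h.q.exists_conj h.xq h.x1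
  obtain ⟨k, hk, e2⟩ := h.r.exists_conj h.zr h.symm.x1
  have := mem_cent_iff.1 (c (commutator_mem_commutator (inv_mem (mem_sup_left ha)) (inv_mem (mem_sup_right hk)))) _ (mem_sup_left (mem_zpowers z))
  have e3 := mem_c1.1 (h.q.le_c1 ha)
  have : z * x * z = x * z := by
    calc z * x * z = a * x * a⁻¹ * (z * a) * a⁻¹ := by rw [e1]; group
      _ = a * (k * z * k⁻¹) * a⁻¹ := by rw [← e3, e2]; group
      _ = k * a * (⁅a⁻¹, k⁻¹⁆ * z) * k⁻¹ * a⁻¹ := by group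
      _ = k * (a * z) * a⁻¹ * k⁻¹ := by rw [← this]; group
      _ = _ := by rw [e3, ← e2]; group
  exact ne_one_of_two h.q.ord (by simpa using this)

theorem six (h : LP Q R z x) : (C1[z] ⊓ C1[x]).relIndex (Q ⊔ R) = 6 := cV (z := z) (x := x) ▸ idx_six h.card_V h.nV' h.not_comm

theorem idx (h : LP Q R z x) : ((R ⊓ C1[z]) ⊔ (Q ⊓ C1[x])).relIndex (Q ⊔ R) ∣ 6 := by
  obtain ⟨a, ha, a1⟩ := h.q.exists_nc h.xq h.x1
  obtain ⟨k, hk, k1⟩ := h.r.exists_nc h.zr h.symm.x1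
  have n := h.X_norm
  have s1 := h.q.sup_zpowers h.xq ha a1
  have s2 := h.r.sup_zpowers h.zr hk k1
  have a2 : a ^ 2 ∈ (R ⊓ C1[z]) ⊔ (Q ⊓ C1[x]) := mem_sup_right (h.E_le (h.V_le (mem_sup_left (h.q.sq_mem ha))))
  have k2 : k ^ 2 ∈ (R ⊓ C1[z]) ⊔ (Q ⊓ C1[x]) := mem_sup_left (h.symm.E_le (h.symm.V_le (mem_sup_left (h.r.sq_mem hk))))
  have b : a⁻¹ * (k⁻¹ * (a * k * a⁻¹) * k) ∈ (R ⊓ C1[z]) ⊔ (Q ⊓ C1[x]) := by
    have e1 := h.q.conj_eq ha h.xq a1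
    have e2 := h.r.conj_eq hk h.zr k1
    have e := h.br a k (by rw [e1, e2, mem_c1.1 (h.q.le_c1 h.xq)])
    have m : k⁻¹ * (a * k * a⁻¹) * k ∈ Q := mem_map_cj.1 (e ▸ conj_mem_map_cj hk)
    refine mem_sup_right ⟨Q.mul_mem (inv_mem ha) m, h.q.inv_mul_mem h.xq ha a1 m fun c => k1 ?_⟩
    have kx := h.r.le_c1 hk
    have c2 := mem_c1.1 ((mul_mem_cancel_left (inv_mem kx)).1 ((mul_mem_cancel_right kx).1 c))
    have e3 := h.q.conj_eq (inv_mem ha) h.xq (mt inv_mem_iff.1 a1)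
    refine mem_c1_comm.1 ((mul_mem_cancel_right (mem_c1_comm.1 kx)).1 (e3 ▸ mem_c1.2 ?_))
    calc _ = a⁻¹ * (x * (a * k * a⁻¹)) * a := by group
      _ = _ := by rw [← c2]; group
  have l1 : (R ⊓ C1[z]) ⊔ (Q ⊓ C1[x]) ≤ Q ⊔ R := sup_le (inf_le_left.trans le_sup_right) (inf_le_left.trans le_sup_left)
  have l2 : Q ⊓ C1[x] ≤ (R ⊓ C1[z]) ⊔ (Q ⊓ C1[x]) := le_sup_right
  have l3 : R ⊓ C1[z] ≤ (R ⊓ C1[z]) ⊔ (Q ⊓ C1[x]) := le_sup_left
  generalize (R ⊓ C1[z]) ⊔ (Q ⊓ C1[x]) = T at *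
  have na := n (mem_sup_left ha)
  have nk := n (mem_sup_right hk)
  have h3 : (a * k) ^ 3 ∈ T := by
    convert mul_mem (mul_mem (mul_mem a2 (conj_mem_of_norm' na k2)) b) (conj_mem_of_norm' nk a2) using 1
    simp only [pow_succ, pow_zero]; group
  have h2 : a ∈ N[T ⊔ zpowers (a * k)] := mem_norm_sup_zpowers na (by
    convert mul_mem (mem_sup_left (mul_mem a2 k2)) (inv_mem (mem_sup_right (mem_zpowers (a * k)))) using 1
    simp only [sq]; group)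
  have e : T ⊔ zpowers (a * k) ⊔ zpowers a = Q ⊔ R := le_antisymm (sup_le (sup_le l1 (zpowers_le.2 (mul_mem_sup ha hk))) (zpowers_le.2 (mem_sup_left ha)))
    (sup_le (s1.ge.trans (sup_le_sup_right (le_sup_of_le_left l2) _)) (s2.ge.trans (sup_le (le_sup_of_le_left (le_sup_of_le_left l3)) (zpowers_le.2
      ((mul_mem_cancel_left (mem_sup_right (mem_zpowers a))).1 (mem_sup_left (mem_sup_right (mem_zpowers _))))))))
  rw [← e, ← relIndex_mul_relIndex T (T ⊔ zpowers (a * k)) _ le_sup_left le_sup_left]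
  exact Nat.mul_dvd_mul (relIndex_sup_zpowers_dvd (mul_mem na nk) h3) (relIndex_sup_zpowers_dvd h2 (mem_sup_left a2))

theorem R_eq (h : LP Q R z x) : (R ⊓ C1[z]) ⊔ (Q ⊓ C1[x]) = (Q ⊔ R) ⊓ (C1[z] ⊓ C1[x]) := by
  have l1 : (R ⊓ C1[z]) ⊔ (Q ⊓ C1[x]) ≤ Q ⊔ R := sup_le (inf_le_left.trans le_sup_right) (inf_le_left.trans le_sup_left)
  have e := relIndex_mul_relIndex _ _ _ (le_inf l1 h.R_le) inf_le_left
  rw [inf_relIndex_left, h.six] at e
  exact le_antisymm (le_inf l1 h.R_le) (relIndex_eq_one.1 (Nat.dvd_one.1 (Nat.dvd_of_mul_dvd_mul_right (by norm_num) (e ▸ h.idx : _ ∣ 1 * 6))))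

end LP

theorem s3_of_not_comm (h6 : Nat.card G = 6) (hn : ¬ IsMulCommutative G) : Nonempty (G ≃* Equiv.Perm (Fin 3)) := by
  obtain ⟨t, ht⟩ := exists_prime_orderOf_dvd_card' (G := G) 2 (by rw [h6]; norm_num)
  have h2 : o[zpowers t] = 2 := by rw [Nat.card_zpowers, ht]
  have h3 : Nat.card (G ⧸ zpowers t) = 3 := by
    have := (zpowers t).card_mul_index
    rw [h6, h2] at this
    change (zpowers t).index = 3
    omega
  have hk : (MulAction.toPermHom G (G ⧸ zpowers t)).ker = ⊥ := by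
    rw [← normalCore_eq_ker]
    refine (eq_bot_or_eq_of_prime (h2 ▸ Nat.prime_two) (zpowers t).normalCore_le).resolve_right fun e => hn ?_
    haveI : (zpowers t).Normal := e ▸ inferInstance
    haveI := Fact.mk Nat.prime_three
    haveI := isCyclic_of_prime_card h3
    exact ⟨⟨commutative_of_cyclic_center_quotient (QuotientGroup.mk' (zpowers t)) (by
      rw [QuotientGroup.ker_mk', zpowers_le, ← c1_eq_top, ← norm_zp2 ht, normalizer_eq_top])⟩⟩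
  have hb : Function.Bijective (MulAction.toPermHom G (G ⧸ zpowers t)) :=
    (Nat.bijective_iff_injective_and_card _).2 ⟨(MonoidHom.ker_eq_bot_iff _).1 hk, by
      rw [h6, Nat.card_perm, h3]; rfl⟩
  exact ⟨(MulEquiv.ofBijective _ hb).trans (Equiv.permCongrHom (Finite.equivFinOfCardEq h3))⟩

end CfsgH1
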