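import Cfsg.Agent.H1.Misc1
import Cfsg.Agent.H2.BG0

/-! Normal subgroups of groups of maximal class. -/

namespace CfsgH1

open Subgroup CfsgH2

variable {G : Type*} [Group G] [Finite G] {p n r : ℕ} [hp : Fact p.Prime]

theorem eq_lcs (hG : Nat.card G = p ^ n) (h : (⊤ : Subgroup G).lowerCentralSeries (n - 2) ≠ ⊥) (N : Subgroup G) [N.Normal]
    (hr : 2 ≤ r) (i : N.index = p ^ r) : N = (⊤ : Subgroup G).lowerCentralSeries (r - 1) := by
  have pG : IsPGroup p (⊤ : Subgroup G) := (IsPGroup.of_card hG).to_subgroup _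
  have l : (⊤ : Subgroup G).lowerCentralSeries (r - 1) ≤ N := by
    by_contra c
    have := le_of_lcs_ne_bot (P := (⊤ : Subgroup (G ⧸ N))) (k := r - 2) ((IsPGroup.of_card (G := G ⧸ N) i).to_subgroup _) (card_top.trans i) fun e => c (by
      rwa [show r - 2 + 1 = r - 1 by omega, ← map_top_of_surjective _ (QuotientGroup.mk'_surjective N), ← map_lowerCentralSeries,
        Subgroup.map_eq_bot_iff, QuotientGroup.ker_mk'] at e)
    omega
  refine (eq_of_le_of_card_ge l ?_).symm
  have c := N.card_mul_index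
  rw [i, hG] at c
  have rn : r ≤ n := (Nat.pow_dvd_pow_iff_le_right hp.out.one_lt).1 (Dvd.intro_left _ c)
  have c2 : o[N] = p ^ (n - r) := Nat.eq_of_mul_eq_mul_right (pow_pos hp.out.pos r) (by rw [c, ← pow_add]; congr 1; omega)
  rcases rn.eq_or_lt with rfl | rn
  · rw [c2, Nat.sub_self]; exact card_pos' _
  have := (Dvd.intro_left _ rfl).trans (card_lcs_dvd pG (r - 1) (n - 1 - r) (by rwa [show r - 1 + (n - 1 - r) = n - 2 by omega]))
  rw [c2, show n - r = n - 1 - r + 1 by omega]
  exact Nat.le_of_dvd (card_pos' _) this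

omit [Finite G] hp in
theorem lcs_of_le_ucs {j : ℕ} : ∀ k : ℕ, (⊤ : Subgroup G).lowerCentralSeries j ≤ Subgroup.upperCentralSeries G k → (⊤ : Subgroup G).lowerCentralSeries (j + k) = ⊥ := by
  intro k
  induction k generalizing j with
  | zero => exact le_bot_iff.1
  | succ k ih =>
    intro h
    rw [show j + (k + 1) = j + 1 + k by omega]
    exact ih ((commutator_mono h le_rfl).trans (commutator_upperCentralSeries_top_le G k))

theorem card_ucs_two (hG : Nat.card G = p ^ n) (h : (⊤ : Subgroup G).lowerCentralSeries (n - 2) ≠ ⊥) (h4 : 4 ≤ n) :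
    o[Subgroup.upperCentralSeries G 2] ∣ p ^ 2 := by
  have c := (Subgroup.upperCentralSeries G 2).card_mul_index
  obtain ⟨b, -, hb⟩ := (Nat.dvd_prime_pow hp.out).1 (hG ▸ Dvd.intro_left _ c)
  by_cases b2 : 2 ≤ b
  · have := lcs_of_le_ucs 2 (eq_lcs hG h _ b2 hb).ge
    have l : n - 2 < b - 1 + 2 := not_le.1 fun l => h (le_bot_iff.1 (this ▸ Subgroup.lowerCentralSeries_antitone _ l))
    rw [hb, hG] at c
    refine Nat.dvd_of_mul_dvd_mul_right (pow_pos hp.out.pos b) ?_
    rw [c, ← pow_add]; exact pow_dvd_pow p (by omega)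
  refine absurd (le_bot_iff.1 ((Subgroup.lowerCentralSeries_antitone _ (show 1 + 1 ≤ n - 2 by omega)).trans (lcs_of_le_ucs 1 ?_).le)) h
  have n1 : (⊤ : Subgroup G) ≤ N[Subgroup.upperCentralSeries G 1] := top_le_norm_iff.2 inferInstance
  obtain ⟨x, -, e⟩ := exists_sup_zpowers_of_cyclic_qt (H := ⊤) (K := Subgroup.upperCentralSeries G 2) (top_le_norm_iff.2 inferInstance) le_top (by
    have : o[qt (Subgroup.upperCentralSeries G 2) ⊤] ∣ p := by
      rw [card_qt (top_le_norm_iff.2 inferInstance), relIndex_top_right, hb]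
      exact (pow_dvd_pow p (by omega)).trans (pow_one p).dvd
    exact isCyclic_of_card_dvd_prime this)
  refine (isMulComm_qt_iff n1).1 ?_
  have k : ∀ L : Subgroup G, qt (Subgroup.upperCentralSeries G 1) (Subgroup.upperCentralSeries G 2) ≤ C[qt (Subgroup.upperCentralSeries G 1) L] := fun L =>
    (qt_le_cent_iff (le_top.trans n1) (le_top.trans n1)).2 ((commutator_mono le_rfl le_top).trans (commutator_upperCentralSeries_top_le G 1))
  rw [← e, qt_sup (le_top.trans n1) (le_top.trans n1)]
  exact isMulComm_sup (isMulComm_of_le_cent (k _)) (isMulComm_qt inferInstance) (k _)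

end CfsgH1
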