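import Mathlib
import Cfsg.Agent.H2.MaxCl2
import Cfsg.Agent.H2.Misc
import Cfsg.Agent.H2.FT
import Cfsg.Agent.H1.Prod

set_option autoImplicit false

namespace CfsgH1
open Subgroup CfsgH2

theorem odd_quot (y : ℤ) (hy : Odd y) (t : ℕ) : ∃ c : ℤ, Odd c ∧ y ^ (2 * t + 1) - 1 = (y - 1) * c := by
  induction t with
  | zero => exact ⟨1, odd_one, by ring⟩
  | succ t ih =>
    obtain ⟨c, hc, e⟩ := ih
    refine ⟨y ^ 2 * c + (y + 1), (hy.pow.mul hc).add_even hy.add_one, ?_⟩
    have : y ^ (2 * (t + 1) + 1) = y ^ 2 * y ^ (2 * t + 1) := by ring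
    rw [this]
    linear_combination y ^ 2 * e

theorem two_pow_dvd_of_odd {k : ℕ} {a c : ℤ} (hc : Odd c) (h : 2 ^ k ∣ a * c) : (2 : ℤ) ^ k ∣ a :=
  ((Int.isCoprime_two_left.2 hc).pow_left (m := k)).dvd_of_dvd_mul_right h

theorem qb_arith {q : ℤ} {k n d : ℕ} (hq : Odd q) (h3 : 3 ≤ q) (hd : d < n) (h1 : 2 ^ k ∣ q ^ n - 1)
    (h2 : q ^ d < 2 ^ k) (h4 : 2 * (q ^ n - 1) ≤ 2 ^ k * (q ^ d - 1)) : n = d + 1 := by
  have hq1 : 1 < q := by omega
  have hn1 : 1 < q ^ n := one_lt_pow₀ hq1 (by omega)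
  have hk0 : (0 : ℤ) < 2 ^ k := by positivity
  have hd0 : d ≠ 0 := by
    rintro rfl
    simp at h4; omega
  have hqd : q ≤ q ^ d := le_self_pow₀ hq1.le hd0
  rcases Nat.even_or_odd' n with ⟨s, rfl | rfl⟩
  swap
  · obtain ⟨c, hc, e⟩ := odd_quot q hq s
    have := Int.le_of_dvd (by omega) (two_pow_dvd_of_odd hc (e ▸ h1))
    omega
  have hs : s ≠ 0 := by omega
  have hA : q ≤ q ^ s := le_self_pow₀ hq1.le hs
  have oA : Odd (q ^ s) := hq.pow
  have eA : q ^ (2 * s) = q ^ s * q ^ s := by ring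
  have hk : k ≠ 0 := by rintro rfl; simp at h2; omega
  obtain ⟨k, rfl⟩ := Nat.exists_eq_succ_of_ne_zero hk
  have hle : q ^ d < 3 * q ^ s → q ^ d ≤ q ^ s := fun h => by
    by_contra hn
    have : s < d := by
      by_contra h'
      exact hn (pow_le_pow_right₀ hq1.le (by omega))
    have : q ^ (s + 1) ≤ q ^ d := pow_le_pow_right₀ hq1.le this
    rw [pow_succ] at this
    nlinarith
  rw [eA] at h1 h4
  rw [pow_succ] at h1 h2 h4 hk0
  obtain ⟨b, hb⟩ := oA
  rcases Int.even_or_odd b with hb' | hb'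
  · have h5 : (2 : ℤ) ^ k ∣ q ^ s - 1 := by
      refine two_pow_dvd_of_odd hb'.add_one (Int.dvd_of_mul_dvd_mul_right (a := 2) two_ne_zero ?_)
      convert h1 using 1
      rw [hb]; ring
    have h6 := Int.le_of_dvd (by omega) h5
    have h7 := hle (by omega)
    nlinarith
  · have h5 : (2 : ℤ) ^ k ∣ q ^ s + 1 := by
      refine two_pow_dvd_of_odd hb' (Int.dvd_of_mul_dvd_mul_right (a := 2) two_ne_zero ?_)
      convert h1 using 1
      rw [hb]; ring
    have h6 := Int.le_of_dvd (by omega) h5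
    have h7 := hle (by omega)
    obtain ⟨a, ha⟩ := h5
    have a0 : 0 < a := by
      by_contra h
      have : (2 : ℤ) ^ k * a ≤ 0 := mul_nonpos_of_nonneg_of_nonpos (by positivity) (by omega)
      omega
    have h8 : a * (q ^ s - 1) ≤ q ^ d - 1 := by
      have : (2 : ℤ) ^ k * 2 * (a * (q ^ s - 1)) ≤ 2 ^ k * 2 * (q ^ d - 1) := by
        calc _ = 2 * ((q ^ s + 1) * (q ^ s - 1)) := by rw [ha]; ring
          _ ≤ _ := by convert h4 using 2; ring
      exact le_of_mul_le_mul_left this hk0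
    have a1 : a = 1 := by
      by_contra h
      have : 2 ≤ a := by omega
      nlinarith
    subst a1
    have hds : d = s := pow_right_injective₀ (by omega : (0 : ℤ) < q) (by omega) (by simp only; omega)
    subst hds
    rcases Nat.even_or_odd' d with ⟨t, rfl | rfl⟩
    · exfalso
      obtain ⟨u, hu⟩ : Odd (q ^ t) := hq.pow
      obtain ⟨c, hc⟩ := hb'
      have : q ^ (2 * t) = q ^ t * q ^ t := by ring
      rw [this, hu, hc] at hb
      have : 4 * (u * u + u) = 4 * c + 2 := by linear_combination hb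
      omega
    · obtain ⟨c, hc, e⟩ := odd_quot (-q) hq.neg t
      rw [Odd.neg_pow ⟨t, rfl⟩] at e
      have e' : (q + 1) * c = 2 ^ k := by linear_combination e + ha
      have : c ∣ 2 ^ k := ⟨q + 1, by rw [← e']; ring⟩
      have hu : IsUnit c := ((Int.isCoprime_two_left.2 hc).pow_left (m := k)).symm.isUnit_of_dvd' dvd_rfl this
      have c1 : c = 1 := by
        rcases Int.isUnit_iff.1 hu with h | h
        · exact h
        · subst h; have : (0 : ℤ) < 2 ^ k := by positivity
          omega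
      subst c1
      have : q ^ (2 * t + 1) = q ^ 1 := by linear_combination -e
      have := pow_right_injective₀ (by omega : (0 : ℤ) < q) (by omega) this
      omega

theorem two_index_perfect {H : Type*} [Group H] (hp : commutator H = ⊤) {N : Subgroup H} (h : N.index = 2) :
    N = ⊤ := by
  haveI := normal_of_index_eq_two h
  haveI : Fact (Nat.Prime 2) := ⟨Nat.prime_two⟩
  haveI := isCyclic_of_prime_card (α := H ⧸ N) (p := 2) h
  exact top_le_iff.1 (hp ▸ Normal.quotient_commutative_iff_commutator_le.1 (IsCyclic.commutative))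

theorem cyc_invol_eq {H : Type*} [Group H] [Finite H] {C : Subgroup H} (c : IsCyclic C) {s t : H} (hs : s ∈ C)
    (ht : t ∈ C) (os : orderOf s = 2) (ot : orderOf t = 2) : s = t := by
  classical
  haveI := Fintype.ofFinite C
  have h := IsCyclic.card_orderOf_eq_totient (α := C) (d := 2)
    (by rw [← os, ← orderOf_mk s hs]; exact orderOf_dvd_card)
  exact congrArg Subtype.val (Finset.card_le_one.1 (h.trans Nat.totient_two).le ⟨s, hs⟩ (by simpa) ⟨t, ht⟩ (by simpa))

section act
variable {H V : Type*} [Group H] [Finite H] [CommGroup V] [Finite V] [MulDistribMulAction H V]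

/-- fixed points of an element -/
def fixS (V : Type*) [CommGroup V] [MulDistribMulAction H V] (x : H) : Subgroup V where
  carrier := {v | x • v = v}
  mul_mem' := fun {a b} (ha : x • a = a) (hb : x • b = b) => show x • (a * b) = a * b by rw [smul_mul', ha, hb]
  one_mem' := smul_one x
  inv_mem' := fun {a} (ha : x • a = a) => show x • a⁻¹ = a⁻¹ by rw [smul_inv', ha]

omit [Finite H] [Finite V] in
theorem mem_fixS {x : H} {v : V} : v ∈ fixS V x ↔ x • v = v := Iff.rfl

omit [Finite V] in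
theorem smul_eq_of_pow {x : H} {v : V} {m : ℕ} (hm : m.Coprime (orderOf x)) (h : x ^ m • v = v) : x • v = v := by
  obtain ⟨j, hj⟩ := exists_pow_eq_self_of_coprime hm
  have : x ^ m ∈ MulAction.stabilizer H v := h
  have := pow_mem this j
  rwa [hj] at this

omit [Finite H] [Finite V] in
theorem pow_smul_of {x : H} {w : V} {j : ℕ} (h : x • w = w ^ j) (i : ℕ) : x ^ i • w = w ^ j ^ i := by
  induction i with
  | zero => simp
  | succ i ih => rw [pow_succ', mul_smul, ih, smul_pow', h, ← pow_mul, pow_succ']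

omit [Finite H] [Finite V] in
theorem smul_ne_one' (g : H) {w : V} (hw : w ≠ 1) : g • w ≠ 1 := fun e =>
  hw (MulAction.injective g (e.trans (smul_one g).symm))

theorem card_ne_pt {α : Type*} [Finite α] (a : α) : Nat.card {w : α // w ≠ a} = Nat.card α - 1 := by
  classical
  haveI := Fintype.ofFinite α
  simp [Fintype.card_subtype_compl]

theorem semireg_count {P : Subgroup H} {q : ℕ} (hq : q.Prime) (hq2 : q ≠ 2) (hV : IsPGroup q V)
    (hP : IsPGroup 2 P) (tr : ∀ (h : H) (v : V), ∃ g ∈ P, h • v = g • v)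
    (sr : ∀ g ∈ P, ∀ v : V, g • v = v → v ≠ 1 → g = 1) {z : H} (hz : z ∈ P) (zi : ∀ v : V, z • v = v⁻¹)
    {x : H} (ox : Odd (orderOf x)) (oq : (orderOf x).Coprime q)
    (fx : ∀ v : V, ∃ h : H, x • h • v = h • v) (v : V) : x • v = v := by
  classical
  haveI := Fact.mk hq
  by_contra hv
  set U := fixS V x
  obtain ⟨n, hn⟩ := IsPGroup.iff_card.1 hV
  obtain ⟨d, hd⟩ := IsPGroup.iff_card.1 (hV.to_subgroup U)
  obtain ⟨k, hk⟩ := IsPGroup.iff_card.1 hP
  have oq' : Odd q := hq.odd_of_ne_two hq2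
  have sq : ∀ w : V, w⁻¹ = w → w = 1 := fun w hw => by
    have h1 : w ^ 2 = 1 := by rw [sq]; nth_rewrite 1 [← hw]; exact inv_mul_cancel w
    have h2 : orderOf w ∣ q ^ n := hn ▸ orderOf_dvd_natCard w
    exact orderOf_eq_one_iff.1 (Nat.eq_one_of_dvd_coprimes (Nat.coprime_two_left.2 oq'.pow)
      (orderOf_dvd_of_pow_eq_one h1) h2)
  have hlt : Nat.card U < Nat.card V := by
    have : U ≠ ⊤ := fun e => hv (show v ∈ U from e ▸ mem_top v)
    exact lt_of_le_of_ne (card_le_card_group U) fun e => this (eq_top_of_card_eq U e)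
  have dn : d < n := by
    rw [hd, hn] at hlt
    exact (Nat.pow_lt_pow_iff_right hq.one_lt).1 hlt
  -- (a)
  have ha : Nat.card U < Nat.card P := by
    choose f f1 f2 using fun u : U => tr x (v * u)
    have n1 : ∀ u, f u ≠ 1 := fun u e => by
      have := f2 u
      rw [e, one_smul, smul_mul', mem_fixS.1 u.2, mul_left_inj] at this
      exact hv this
    have inj : Function.Injective fun u : U => (⟨f u, f1 u⟩ : P) := fun a b e => by
      have e : f a = f b := congrArg Subtype.val e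
      by_contra ne
      refine n1 a (sr _ (f1 a) ((v * a)⁻¹ * (v * b)) ?_ fun h => ne ?_)
      · rw [smul_mul', smul_inv', ← f2, e, ← f2, ← smul_inv', ← smul_mul']
        have : (v * a)⁻¹ * (v * b) = (a⁻¹ * b : U) := by
          rw [mul_inv, mul_mul_mul_comm, inv_mul_cancel, one_mul]; rfl
        rw [this]
        exact (a⁻¹ * b).2
      · exact Subtype.ext (mul_left_cancel (inv_mul_eq_one.1 h))
    have := Nat.card_le_card_of_injective (fun u : U => (⟨⟨f u, f1 u⟩, fun e => n1 u (congrArg Subtype.val e)⟩ :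
      {g : P // g ≠ 1})) fun a b e => inj (congrArg Subtype.val e)
    rw [card_ne_pt] at this
    have : 0 < Nat.card P := Nat.card_pos
    omega
  -- (b)
  have hb : 2 * (Nat.card V - 1) ≤ Nat.card P * (Nat.card U - 1) := by
    have : ∀ w : V, ∃ g ∈ P, g • w ∈ U := fun w => by
      obtain ⟨h, hh⟩ := fx w
      obtain ⟨g, g1, g2⟩ := tr h w
      exact ⟨g, g1, g2 ▸ hh⟩
    choose f f1 f2 using this
    have n1 : ∀ w : V, w ≠ 1 → ∀ g : H, g • w ≠ 1 := fun w hw g => smul_ne_one' g hw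
    let F : Bool × {w : V // w ≠ 1} → P × {u : U // u ≠ 1} := fun t =>
      if t.1 then (⟨f t.2, f1 _⟩, ⟨⟨_, f2 t.2⟩, fun e => n1 _ t.2.2 _ (congrArg Subtype.val e)⟩)
      else (⟨z * f t.2, mul_mem hz (f1 _)⟩, ⟨⟨_, inv_mem (f2 t.2)⟩,
        fun e => n1 _ t.2.2 _ (inv_eq_one.1 (congrArg Subtype.val e))⟩)
    have key : ∀ t, (F t).1.1 • t.2.1 = (F t).2.1.1 := by
      rintro ⟨_ | _, w⟩
      · simp [F, mul_smul, zi]
      · simp [F]
    have inj : Function.Injective F := by
      rintro ⟨a, w⟩ ⟨b, w'⟩ e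
      have e2 : w = w' := by
        have h1 := key (a, w)
        rw [e, ← key (b, w')] at h1
        exact Subtype.ext (MulAction.injective _ h1)
      subst e2
      have e3 := congrArg (fun t => t.2.1.1) e
      cases a <;> cases b
      · rfl
      · exact absurd (sq _ (by simpa [F] using e3)) (n1 _ w.2 (f w))
      · exact absurd (sq _ (by simpa [F] using e3.symm)) (n1 _ w.2 (f w))
      · rfl
    have := Nat.card_le_card_of_injective F inj
    rwa [Nat.card_prod, Nat.card_prod, card_ne_pt, card_ne_pt, Nat.card_eq_fintype_card,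
      Fintype.card_bool] at this
  -- (c)
  have hc : Nat.card P ∣ Nat.card V - 1 := by
    let Ω : SubMulAction P V := ⟨{w | w ≠ 1}, fun g _ hw => smul_ne_one' g.1 hw⟩
    have hs : ∀ a : Ω, MulAction.stabilizer P a = ⊥ := fun a => by
      rw [eq_bot_iff]; intro g hg
      exact Subtype.ext (sr g g.2 a (congrArg Subtype.val hg) a.2)
    rw [← card_ne_pt (1 : V), show Nat.card {w : V // w ≠ 1} = Nat.card Ω from rfl,
      Nat.card_congr (MulAction.selfEquivOrbitsQuotientProd hs), Nat.card_prod]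
    exact Dvd.intro_left _ rfl
  have q3 : 3 ≤ q := by have := hq.two_le; omega
  have e1 : 1 ≤ q ^ n := Nat.one_le_pow _ _ hq.pos
  have e2 : 1 ≤ q ^ d := Nat.one_le_pow _ _ hq.pos
  rw [hn, hk] at hc
  rw [hn, hd, hk] at hb
  rw [hd, hk] at ha
  have nd : n = d + 1 := qb_arith (q := q) (k := k) (by exact_mod_cast oq') (by exact_mod_cast q3) dn
    (by have := Int.natCast_dvd_natCast.2 hc; push_cast [Nat.cast_sub e1] at this; exact this)
    (by exact_mod_cast ha)
    (by have := Int.ofNat_le.2 hb; push_cast [Nat.cast_sub e1, Nat.cast_sub e2] at this; exact this)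
  let φ : V →* V := MonoidHom.mk' (fun w => w⁻¹ * x • w) fun a b => by
    rw [smul_mul', mul_inv, mul_mul_mul_comm]
  have hker : φ.ker = U := by
    ext w
    exact inv_mul_eq_one.trans eq_comm
  have hr : Nat.card φ.range = q := by
    have := φ.ker.card_mul_index
    rw [index_ker, hker, hd, hn, nd, pow_succ] at this
    exact Nat.eq_of_mul_eq_mul_left e2 this
  set w := φ v
  have w1 : w ≠ 1 := fun e => hv (show v ∈ U from hker ▸ e)
  have xw : x • w ∈ φ.range := ⟨x • v, by simp [w, φ, smul_mul', smul_inv']⟩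
  have hz' : zpowers w = φ.range := by
    have hl : zpowers w ≤ φ.range := zpowers_le.2 ⟨v, rfl⟩
    refine eq_of_le_of_card_ge hl ?_
    rcases (Nat.dvd_prime hq).1 (hr ▸ card_dvd_of_le hl) with h | h
    · exact absurd (zpowers_eq_bot.1 (card_eq_one.1 h)) w1
    · rw [h, hr]
  rw [← hz', ← mem_powers_iff_mem_zpowers] at xw
  obtain ⟨j, hj⟩ := xw
  obtain ⟨g, g1, g2⟩ := tr x w
  have h1 : g ^ 2 ^ k = 1 := congrArg Subtype.val (hk ▸ pow_card_eq_one' (x := (⟨g, g1⟩ : P)))
  have h2 : x • w = w := smul_eq_of_pow (m := 2 ^ k) ((Nat.coprime_two_left.2 ox).pow_left k) (by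
    rw [pow_smul_of hj.symm, ← pow_smul_of (g2 ▸ hj.symm), h1, one_smul])
  have h3 : ∀ i : ℕ, x ^ i • v = v * w ^ i := fun i => by
    induction i with
    | zero => simp
    | succ i ih => rw [pow_succ', mul_smul, ih, smul_mul', smul_pow', h2, pow_succ', ← mul_assoc]; simp [w, φ]
  have h4 := h3 (orderOf x)
  rw [pow_orderOf_eq_one, one_smul, left_eq_mul] at h4
  exact w1 (orderOf_eq_one_iff.1 (Nat.eq_one_of_dvd_coprimes (oq.pow_right n)
    (orderOf_dvd_of_pow_eq_one h4) (hn ▸ orderOf_dvd_natCard w)))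

omit [Finite H] in
theorem no_swap (hp : commutator H = ⊤) (irr : ∀ W : Subgroup V, (∀ (h : H), ∀ w ∈ W, h • w ∈ W) → W = ⊥ ∨ W = ⊤)
    {A B : Subgroup V} (hs : A ⊔ B = ⊤) (a0 : A ≠ ⊥) (b0 : B ≠ ⊥) (hd : A ⊓ B = ⊥)
    (hX : ∀ (h : H) (w : V), w ∈ A ∨ w ∈ B → h • w ∈ A ∨ h • w ∈ B) [Finite H] : False := by
  have sub : ∀ (h : H) (C : Subgroup V), (∀ w ∈ C, w ∈ A ∨ w ∈ B) →
      (∀ w ∈ C, h • w ∈ A) ∨ (∀ w ∈ C, h • w ∈ B) := fun h C hC => by
    by_contra hn
    push Not at hn
    obtain ⟨⟨a, a1, a2⟩, b, b1, b2⟩ := hn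
    have a3 := (hX h a (hC a a1)).resolve_left a2
    have b3 := (hX h b (hC b b1)).resolve_right b2
    rcases hX h _ (hC _ (mul_mem a1 b1)) with h1 | h1 <;> rw [smul_mul'] at h1
    · exact a2 ((mul_mem_cancel_right b3).1 h1)
    · exact b2 ((mul_mem_cancel_left a3).1 h1)
  have nt : ∀ (h : H) (C : Subgroup V), (∀ w ∈ A, h • w ∈ C) → (∀ w ∈ B, h • w ∈ C) → C = ⊤ := fun h C h1 h2 => by
    rw [eq_top_iff]
    intro v _
    obtain ⟨a, ha, b, hb, e⟩ := mem_sup.1 (hs ▸ mem_top (h⁻¹ • v))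
    have := mul_mem (h1 a ha) (h2 b hb)
    rwa [← smul_mul', e, smul_inv_smul] at this
  have at' : A ≠ ⊤ := fun e => b0 (by simpa [e] using hd)
  have bt : B ≠ ⊤ := fun e => a0 (by simpa [e] using hd)
  let N : Subgroup H :=
    { carrier := {h | ∀ w ∈ A, h • w ∈ A}
      mul_mem' := fun {a b} ha hb w hw => by rw [mul_smul]; exact ha _ (hb w hw)
      one_mem' := fun w hw => by rwa [one_smul]
      inv_mem' := fun {a} ha w hw => by
        have : ∀ i : ℕ, a ^ i • w ∈ A := fun i => by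
          induction i with
          | zero => simpa
          | succ i ih => rw [pow_succ', mul_smul]; exact ha _ ih
        obtain ⟨i, hi⟩ := mem_powers_iff_mem_zpowers.2 (inv_mem (mem_zpowers a))
        exact hi ▸ this i }
  have hN : ∀ h, h ∉ N → (∀ w ∈ A, h • w ∈ B) ∧ ∀ w ∈ B, h • w ∈ A := fun h hh => by
    have h1 := (sub h A fun w hw => .inl hw).resolve_left hh
    exact ⟨h1, (sub h B fun w hw => .inr hw).resolve_right fun h2 => bt (nt h B h1 h2)⟩
  obtain ⟨a, ha⟩ : ∃ a, a ∉ N := by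
    by_contra hn
    push Not at hn
    exact (irr A hn).elim a0 at'
  have i2 : N.index = 2 := index_eq_two_iff_exists_notMem_and.2 ⟨a, ha, fun b => by
    by_cases hb : b ∈ N
    · exact .inr hb
    · exact .inl fun w hw => by rw [mul_smul]; exact (hN b hb).2 _ ((hN a ha).1 w hw)⟩
  exact ha (two_index_perfect hp i2 ▸ mem_top a)

theorem qb_core [FaithfulSMul H V] {q : ℕ} (hq : q.Prime) (hq2 : q ≠ 2) (hV : IsPGroup q V)
    (hp : commutator H = ⊤) (irr : ∀ W : Subgroup V, (∀ (h : H), ∀ w ∈ W, h • w ∈ W) → W = ⊥ ∨ W = ⊤)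
    (hc : ¬ q ∣ Nat.card H) (ho : ∀ v : V, ∃ k, (MulAction.stabilizer H v).index = 2 ^ k) : Subsingleton H := by
  haveI := Fact.mk hq
  by_contra hH
  rw [not_subsingleton_iff_nontrivial] at hH
  obtain ⟨P, hP⟩ := exists_syl 2 (⊤ : Subgroup H)
  have oP : Odd P.index := by
    have := hP.nd
    rw [relIndex_top_right] at this
    exact Nat.odd_iff.2 (Nat.two_dvd_ne_zero.1 this)
  have tr : ∀ (h : H) (v : V), ∃ g ∈ P, h • v = g • v := fun h v => by
    obtain ⟨k, hk⟩ := ho v
    obtain ⟨a, ha, b, hb, rfl⟩ := fac_top_iff.1 (fac_top_of_coprime_index (A := P)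
      (hk ▸ (Nat.coprime_two_right.2 oP).pow_right k)) h
    exact ⟨a, ha, by rw [mul_smul, hb]⟩
  have fa : ∀ g h : H, (∀ v : V, g • v = h • v) → g = h := fun g h => eq_of_smul_eq_smul
  have P0 : P ≠ ⊥ := by
    rintro rfl
    obtain ⟨h, hh⟩ := exists_ne (1 : H)
    refine hh (fa _ _ fun v => ?_)
    obtain ⟨g, g1, g2⟩ := tr h v
    rw [g2, mem_bot.1 g1]
  have oq : Odd q := hq.odd_of_ne_two hq2
  obtain ⟨n, hn⟩ := IsPGroup.iff_card.1 hV
  have sq1 : ∀ w : V, w * w = 1 → w = 1 := fun w hw =>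
    orderOf_eq_one_iff.1 (Nat.eq_one_of_dvd_coprimes (Nat.coprime_two_left.2 oq.pow)
      (orderOf_dvd_of_pow_eq_one (by rwa [sq])) (hn ▸ orderOf_dvd_natCard w))
  have fix1 : ∀ g : H, g * g = 1 → ∀ v : V, v * g • v ∈ fixS V g := fun g hg v => by
    rw [mem_fixS, smul_mul', ← mul_smul, hg, one_smul, mul_comm]
  have inv : ∀ g : H, g * g = 1 → fixS V g = ⊥ → ∀ v : V, g • v = v⁻¹ := fun g hg h v => by
    have := fix1 g hg v
    rw [h, mem_bot] at this
    exact eq_inv_of_mul_eq_one_right this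
  have zc : ∀ z ∈ Z[P], orderOf z = 2 → ∀ v : V, z • v = v⁻¹ := fun z hz oz => by
    refine inv z (by rw [← sq, ← oz, pow_orderOf_eq_one]) ((irr _ fun h w hw => ?_).resolve_right fun e => ?_)
    · obtain ⟨g, g1, g2⟩ := tr h w
      rw [g2, mem_fixS, ← mul_smul, ← mem_centralizer_iff.1 hz.2 g g1, mul_smul, mem_fixS.1 hw]
    · have : z = 1 := fa _ _ fun v => by rw [one_smul]; exact mem_fixS.1 (e ▸ mem_top v)
      simp [this] at oz
  obtain ⟨z, hz, oz⟩ : ∃ z ∈ Z[P], orderOf z = 2 := by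
    obtain ⟨X, x1, x2, x3⟩ := exists_central_card_p hP.pg le_normalizer (dvd_card_of_pgroup hP.pg P0)
    obtain ⟨y, y1, y2⟩ := exists_prime_order_mem Nat.prime_two (x3 ▸ dvd_rfl : 2 ∣ Nat.card X)
    exact ⟨y, ⟨x1 y1, x2 y1⟩, y2⟩
  have zi := zc z hz oz
  have zz : z * z = 1 := by rw [← sq, ← oz, pow_orderOf_eq_one]
  have zu : ∀ y ∈ Z[P], orderOf y = 2 → y = z := fun y hy oy => fa _ _ fun v => by rw [zc y hy oy, zi]
  have zH : ∀ h : H, h * z = z * h := fun h => fa _ _ fun v => by rw [mul_smul, mul_smul, zi, zi, smul_inv']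
  have uniq : ∀ t ∈ P, orderOf t = 2 → t = z := by
    have tt : ∀ t : H, orderOf t = 2 → t * t = 1 := fun t ot => by rw [← sq, ← ot, pow_orderOf_eq_one]
    have cyc : ∀ C ≤ P, IsCyclic C → P ≤ N[C] → ∀ t ∈ C, orderOf t = 2 → t = z := fun C hC c n t ht ot => by
      refine zu t ⟨hC ht, mem_centralizer_iff.2 fun g hg => ?_⟩ ot
      have h1 : g * t * g⁻¹ ∈ C := (mem_normalizer_iff.1 (n hg) t).1 ht
      have h2 : orderOf (g * t * g⁻¹) = 2 := (MulEquiv.orderOf_eq (MulAut.conj g) t).trans ot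
      have := cyc_invol_eq c h1 ht h2 ot
      exact mul_inv_eq_iff_eq_mul.1 this
    refine (cyc_or_mc' hP.pg (fun E h1 h2 hE => ?_)).elim (fun h => ?_) ?_
    rotate_left
    · exact cyc P le_rfl h le_normalizer
    · rintro ⟨-, a, b, m, h⟩ t ht ot
      by_contra hne
      obtain ⟨M, -, m2, m3⟩ := thompson_transfer oP h.toCy2.relIndex (tt t ot) ht fun g hg => hne (by
        have := cyc _ h.toCy2.ale inferInstance h.toCy2.le_norm _ hg
          ((MulEquiv.orderOf_eq (MulAut.conj g) t).trans ot)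
        rw [mul_inv_eq_iff_eq_mul, ← zH] at this
        exact mul_left_cancel this)
      exact m3 (two_index_perfect hp m2 ▸ mem_top t)
    · have c4 : Nat.card E = 4 := hE.card
      haveI : Nontrivial E := Finite.one_lt_card_iff_nontrivial.1 (by omega)
      have e2 : ∀ x ∈ E, x ≠ 1 → orderOf x = 2 := fun x hx h1 => orderOf_eq_prime (hE.el.2 x hx) h1
      haveI : IsKleinFour E := ⟨c4, (Monoid.exponent_eq_prime_iff Nat.prime_two).2 fun g hg => by
        rw [← orderOf_coe]; exact e2 g g.2 fun e => hg (Subtype.ext e)⟩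
      obtain ⟨X, x1, x2, x3⟩ := exists_central_card_p hP.pg h2 (by rw [c4]; norm_num)
      obtain ⟨y, y1, y2⟩ := exists_prime_order_mem Nat.prime_two (x3 ▸ dvd_rfl : 2 ∣ Nat.card X)
      have zE : z ∈ E := zu y ⟨h1 (x1 y1), x2 y1⟩ y2 ▸ x1 y1
      have z1 : z ≠ 1 := by rintro rfl; simp at oz
      obtain ⟨a, a1, a2⟩ : ∃ a ∈ E, a ∉ zpowers z := by
        by_contra hn
        push Not at hn
        have := card_le_of_le (show E ≤ zpowers z from hn)
        rw [c4, Nat.card_zpowers, oz] at this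
        omega
      have a3 : a ≠ 1 := fun e => a2 (e ▸ one_mem _)
      have a4 : a ≠ z := fun e => a2 (e ▸ mem_zpowers _)
      have aa := tt a (e2 a a1 a3)
      have az : a * z * (a * z) = 1 := by rw [mul_assoc, ← mul_assoc z, ← zH, mul_assoc, zz, mul_one, aa]
      have cj : ∀ g ∈ P, ∀ b ∈ E, b ≠ 1 → b ≠ z → ∀ w ∈ fixS V b, g • w ∈ fixS V a ∨ g • w ∈ fixS V (a * z) :=
        fun g hg b hb b1 b2 w hw => by
          have h3 : g * b * g⁻¹ ∈ E := (mem_normalizer_iff.1 (h2 hg) b).1 hb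
          have h4 : g • w ∈ fixS V (g * b * g⁻¹) := by
            rw [mem_fixS, mul_smul, inv_smul_smul, mul_smul, mem_fixS.1 hw]
          by_cases h5 : g * b * g⁻¹ = a
          · exact .inl (h5 ▸ h4)
          · have := IsKleinFour.eq_mul_of_ne_all (x := (⟨a, a1⟩ : E)) (y := ⟨z, zE⟩) (z := ⟨_, h3⟩)
              (by simpa) (by simpa) (by simpa) (by simpa) (by simpa) (fun e => b2 (by
                have : g * b * g⁻¹ = z := congrArg Subtype.val e
                rw [mul_inv_eq_iff_eq_mul, ← zH] at this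
                exact mul_left_cancel this))
            have e5 : g * b * g⁻¹ = a * z := congrArg Subtype.val this
            exact .inr (e5 ▸ h4)
      refine no_swap (A := fixS V a) (B := fixS V (a * z)) hp irr ?_ (fun e => a4 (fa _ _ fun v => ?_))
        (fun e => a3 (mul_right_cancel (b := z) (fa _ _ fun v => ?_))) ?_ fun h w hw => ?_
      · rw [eq_top_iff]
        intro v _
        obtain ⟨u, rfl⟩ : ∃ u, u * u = v := (Finite.injective_iff_surjective (f := fun u : V => u * u)).1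
          (fun x y e => by
            have := sq1 (x * y⁻¹) (by rw [mul_mul_mul_comm, show x * x = y * y from e, ← mul_inv, mul_inv_cancel])
            exact mul_inv_eq_one.1 this) v
        have := mul_mem (mem_sup_left (T := fixS V (a * z)) (fix1 a aa u)) (mem_sup_right (fix1 _ az u))
        rwa [mul_smul, zi, smul_inv', mul_mul_mul_comm, mul_inv_cancel, mul_one] at this
      · rw [inv a aa e, zi]
      · rw [inv _ az e, one_mul, zi]
      · rw [eq_bot_iff]
        rintro w ⟨w1, w2⟩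
        have w2 : (a * z) • w = w := w2
        rw [mul_smul, zi, smul_inv', mem_fixS.1 w1] at w2
        exact sq1 w (by nth_rewrite 1 [← w2]; exact inv_mul_cancel w)
      · obtain ⟨g, g1, g2⟩ := tr h w
        rw [g2]
        rcases hw with hw | hw
        · exact cj g g1 a a1 a3 a4 w hw
        · exact cj g g1 _ (mul_mem a1 zE) (fun e => a4 (by rw [eq_inv_of_mul_eq_one_left e, inv_eq_of_mul_eq_one_left zz]))
            (fun e => a3 (by simpa using e)) w hw
  have sr : ∀ g ∈ P, ∀ v : V, g • v = v → v ≠ 1 → g = 1 := fun g hg v hv v1 => by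
    by_contra g1
    obtain ⟨t, t1, t2⟩ := exists_prime_order_mem Nat.prime_two (dvd_card_of_pgroup
      (hP.pg.to_le (zpowers_le.2 hg)) (by simpa))
    have h1 : t • v = v := (zpowers_le.2 (show g ∈ MulAction.stabilizer H v from hv)) t1
    rw [uniq t (zpowers_le.2 hg t1) t2, zi] at h1
    exact v1 (sq1 v (by nth_rewrite 1 [← h1]; exact inv_mul_cancel v))
  have h2 : IsPGroup 2 H := by
    rw [isPGroup_iff_piN]
    intro r hr hd
    by_contra r2
    haveI := Fact.mk hr
    obtain ⟨x, hx⟩ := exists_prime_orderOf_dvd_card' r hd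
    have : x = 1 := fa _ _ fun v => by
      rw [one_smul]
      refine semireg_count hq hq2 hV hP.pg tr sr hz.1 zi (hx ▸ hr.odd_of_ne_two r2)
        (hx ▸ (Nat.coprime_primes hr hq).2 fun e => hc (e ▸ hd)) (fun w => ?_) v
      obtain ⟨k, hk⟩ := ho w
      obtain ⟨R, hR⟩ := exists_syl r (MulAction.stabilizer H w)
      have hR' := hR.trans le_top (by
        rw [relIndex_top_right, hk]
        exact fun d => r2 ((Nat.prime_dvd_prime_iff_eq hr Nat.prime_two).1 (hr.dvd_of_dvd_pow d)))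
      obtain ⟨g, -, hg⟩ := hR'.exists_conj_le (Q := zpowers x)
        (isPGroup_zpowers (k := 1) (by rw [pow_one, ← hx, pow_orderOf_eq_one])) le_top
      have h3 : (g * x * g⁻¹) • w = w := hR.le (hg ⟨x, mem_zpowers x, rfl⟩)
      refine ⟨g⁻¹, ?_⟩
      rw [mul_smul, mul_smul, smul_eq_iff_eq_inv_smul] at h3
      exact h3
    rw [this, orderOf_one] at hx
    exact hr.one_lt.ne hx
  haveI := h2.isNilpotent
  exact (IsSolvable.commutator_lt_top_of_nontrivial H).ne hp

end act

end CfsgH1
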