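import Mathlib
import Cfsg.Agent.H1.QB
import Cfsg.Agent.L0.Kaz
import Cfsg.Agent.S4035

set_option autoImplicit false

namespace CfsgH1
open Cfsg Subgroup CfsgH2 CfsgL0
open scoped commutatorElement

universe u

theorem qb_irr {G : Type*} [Group G] [Finite G] {q : ℕ} (hq : q.Prime) (hq2 : q ≠ 2) (V : Subgroup G) [V.Normal]
    (ab : IsMulCommutative V) (pV : IsPGroup q V) (hc : ¬ q ∣ C[V].index) (ho : ∀ v ∈ V, ∃ k, C1[v].index = 2 ^ k)
    (hp : commutator G ⊔ C[V] = ⊤) (irr : ∀ W : Subgroup G, W.Normal → W ≤ V → W = ⊥ ∨ W = V) : C[V] = ⊤ := by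
  letI : CommGroup V := { (inferInstance : Group V) with mul_comm := ab.is_comm.comm }
  let φ : G →* MulAut V := MulAut.conjNormal
  have hk : φ.ker = C[V] := by
    ext g
    rw [MonoidHom.mem_ker, mem_centralizer_iff]
    refine ⟨fun h v hv => ?_, fun h => MulEquiv.ext fun v => Subtype.ext ?_⟩
    · have : g * v * g⁻¹ = v := congrArg Subtype.val (MulEquiv.congr_fun h ⟨v, hv⟩)
      exact (mul_inv_eq_iff_eq_mul.1 this).symm
    · exact mul_inv_eq_iff_eq_mul.2 (h v v.2).symm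
  have sj := φ.rangeRestrict_surjective
  have := qb_core (H := φ.range) (V := V) hq hq2 pV ?_ (fun W hW => ?_) (by rwa [← index_ker, hk]) fun v => ?_
  · rw [← hk, eq_top_iff]
    exact fun g _ => congrArg Subtype.val (Subsingleton.elim (φ.rangeRestrict g) 1)
  · have := congrArg (Subgroup.map φ.rangeRestrict) hp
    rwa [Subgroup.map_sup, map_top_of_surjective _ sj, ← hk, ← φ.ker_rangeRestrict, (Subgroup.map_eq_bot_iff _).2 le_rfl,
      sup_bot_eq, _root_.commutator_def, Subgroup.map_commutator, map_top_of_surjective _ sj] at this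
  · have : (W.map V.subtype).Normal := ⟨by
      rintro _ ⟨w, hw, rfl⟩ g
      exact ⟨_, hW (φ.rangeRestrict g) w hw, rfl⟩⟩
    rcases irr _ this (map_subtype_le W) with h | h
    · exact .inl ((Subgroup.map_eq_bot_iff_of_injective _ V.subtype_injective).1 h)
    · exact .inr (map_injective V.subtype_injective (h.trans (map_subtype_top V).symm))
  · obtain ⟨k, hk⟩ := ho v v.2
    refine ⟨k, ?_⟩
    rw [← hk, ← index_comap_of_surjective _ sj]
    congr 1
    ext g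
    rw [mem_comap, MulAction.mem_stabilizer_iff, mem_centralizer_singleton_iff, Subtype.ext_iff]
    exact mul_inv_eq_iff_eq_mul

theorem qb_cent {q : ℕ} (hq : q.Prime) (hq2 : q ≠ 2) (n : ℕ) : ∀ (G : Type u) [Group G] [Finite G] (V : Subgroup G)
    [V.Normal], Nat.card V = n → IsMulCommutative V → IsPGroup q V → ¬ q ∣ C[V].index →
    (∀ v ∈ V, ∃ k, C1[v].index = 2 ^ k) → commutator G ⊔ C[V] = ⊤ → C[V] = ⊤ := by
  induction n using Nat.strong_induction_on with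
  | _ n ih =>
  intro G _ _ V _ hn ab pV hc ho hp
  by_cases irr : ∀ W : Subgroup G, W.Normal → W ≤ V → W = ⊥ ∨ W = V
  · exact qb_irr hq hq2 V ab pV hc ho hp irr
  push Not at irr
  obtain ⟨W, nW, l, w0, w1⟩ := irr
  have cl : C[V] ≤ C[W] := centralizer_le l
  have h1 : C[W] = ⊤ := ih _ (hn ▸ card_lt_of_lt (lt_of_le_of_ne l w1)) G W rfl
    (isMulComm_of_le ab l) (pV.to_le l) (fun d => hc (d.trans (index_dvd_of_le cl)))
    (fun v hv => ho v (l hv)) (top_le_iff.1 (hp ▸ sup_le_sup_left cl _))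
  let π := QuotientGroup.mk' W
  have sj : Function.Surjective π := QuotientGroup.mk'_surjective W
  haveI : (V.map π).Normal := Normal.map inferInstance _ sj
  have cm : C[V].map π ≤ C[V.map π] := by
    rintro _ ⟨g, hg, rfl⟩ _ ⟨v, hv, rfl⟩
    rw [← map_mul, ← map_mul, hg v hv]
  have h2 : C[V.map π] = ⊤ := by
    refine ih _ ?_ (G ⧸ W) (V.map π) rfl inferInstance (pV.map π)
      (fun d => hc ((d.trans (index_dvd_of_le cm)).trans (index_map_dvd _ sj))) ?_ ?_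
    · have := card_map_mul_card_inf_ker π V
      rw [QuotientGroup.ker_mk', inf_eq_left.2 l, hn] at this
      have h3 : 1 < Nat.card W := (one_lt_card_iff_ne_bot _).2 w0
      have h4 : 0 < Nat.card (V.map π) := Nat.card_pos
      nlinarith
    · rintro _ ⟨v, hv, rfl⟩
      obtain ⟨k, hk⟩ := ho v hv
      obtain ⟨j, -, hj⟩ := (Nat.dvd_prime_pow Nat.prime_two).1 (hk ▸ cs_map_dvd sj v)
      exact ⟨j, hj⟩
    · have := congrArg (Subgroup.map π) hp
      rw [Subgroup.map_sup, map_top_of_surjective _ sj, _root_.commutator_def, Subgroup.map_commutator,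
        map_top_of_surjective _ sj] at this
      exact top_le_iff.1 (this ▸ sup_le_sup_left cm _)
  have h3 : ⁅V, (⊤ : Subgroup G)⁆ ≤ W := by
    have := commutator_eq_bot_iff_le_centralizer.2 (h2.ge)
    rw [← map_top_of_surjective _ sj, ← Subgroup.map_commutator, Subgroup.map_eq_bot_iff, QuotientGroup.ker_mk',
      commutator_comm] at this
    exact this
  have h4 : ⁅⁅V, (⊤ : Subgroup G)⁆, (⊤ : Subgroup G)⁆ = ⊥ := by
    rw [commutator_comm]
    exact commutator_eq_bot_iff_le_centralizer.2 (h1.ge.trans (centralizer_le h3))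
  have h5 := commutator_commutator_eq_bot_of_rotate (H₁ := ⊤) (H₂ := ⊤) (H₃ := V) (by rwa [commutator_comm ⊤ V]) h4
  exact top_le_iff.1 (hp ▸ sup_le (commutator_eq_bot_iff_le_centralizer.1 h5) le_rfl)

theorem qb_two {q : ℕ} (hq : q.Prime) (hq2 : q ≠ 2) (n : ℕ) : ∀ (G : Type u) [Group G] [Finite G] (V : Subgroup G)
    [V.Normal], Nat.card G = n → IsMulCommutative V → IsPGroup q V → ¬ q ∣ V.index → C[V] ≤ V →
    (∀ v ∈ V, ∃ k, C1[v].index = 2 ^ k) → Group.IsSolvable G := by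
  induction n using Nat.strong_induction_on with
  | _ n ih =>
  intro G _ _ V _ hn ab pV hc hC ho
  have eC : C[V] = V := le_antisymm hC (le_cent_self ab)
  by_cases hp : commutator G ⊔ V = ⊤
  · have := qb_cent hq hq2 _ G V rfl ab pV (by rwa [eC]) ho (by rwa [eC])
    rw [eC] at this
    subst this
    exact isSolvable_of_comm fun a b => congrArg Subtype.val (ab.is_comm.comm ⟨a, mem_top a⟩ ⟨b, mem_top b⟩)
  set N := commutator G ⊔ V
  have l : V ≤ N := le_sup_right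
  haveI : Group.IsSolvable N := by
    refine ih _ ?_ N (V.subgroupOf N) rfl inferInstance pV.comap_subtype
      (fun d => hc (d.trans (relIndex_dvd_index_of_le l))) (fun g hg => hC fun v hv => ?_) fun v hv => ?_
    · rw [← hn, ← card_top (G := G)]
      exact card_lt_of_lt (lt_top_iff_ne_top.2 hp)
    · exact congrArg Subtype.val (hg ⟨v, l hv⟩ hv)
    · obtain ⟨k, hk⟩ := ho v hv
      obtain ⟨j, -, hj⟩ := (Nat.dvd_prime_pow Nat.prime_two).1 (hk ▸ relIndex_dvd_index' (N := N) C1[(v : G)])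
      refine ⟨j, hj ▸ ?_⟩
      unfold relIndex
      congr 1
      ext g
      rw [mem_subgroupOf, mem_c1, mem_c1, Subtype.ext_iff]
      rfl
  haveI : Group.IsSolvable (G ⧸ N) :=
    isSolvable_of_comm (Normal.quotient_commutative_iff_commutator_le.2 le_sup_left).is_comm.comm
  exact solvable_of_ker_le_range N.subtype (QuotientGroup.mk' N) (by simp)

variable {G : Type u} [Group G] [Finite G]

theorem qb_solv {p q : ℕ} (hp : p.Prime) (hq : q.Prime) (ne : p ≠ q) (V : Subgroup G) [V.Normal]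
    (ab : IsMulCommutative V) (pV : IsPGroup q V) (hc : ¬ q ∣ V.index) (hC : C[V] ≤ V)
    (ho : ∀ v ∈ V, ∃ k, C1[v].index = p ^ k) : Group.IsSolvable G := by
  haveI := Fact.mk hq
  by_cases p2 : p = 2
  · subst p2
    exact qb_two hq ne.symm _ G V rfl ab pV hc hC ho
  haveI : Group.IsSolvable V := isSolvable_of_comm ab.is_comm.comm
  haveI : Group.IsSolvable (G ⧸ V) := by
    refine ft_of_not_dvd fun d => ?_
    by_cases q2 : q = 2
    · exact hc (q2 ▸ d)
    obtain ⟨t, ot⟩ := exists_prime_orderOf_dvd_card' 2 (d.trans (index_dvd_card V))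
    have o2 : ∀ w ∈ V, w ^ 2 = 1 → w = 1 := fun w hw h => eq_one_of_coprime_order pV hw
      (((Nat.coprime_primes Nat.prime_two hq).2 (Ne.symm q2)).coprime_dvd_left (orderOf_dvd_of_pow_eq_one h))
    have tt : t ^ 2 = 1 := ot ▸ pow_orderOf_eq_one t
    have t1 : t ∉ C[V] := fun h => by simp [o2 t (hC h) tt] at ot
    rw [mem_centralizer_iff] at t1
    push Not at t1
    obtain ⟨u, hu, hne⟩ := t1
    have hu' : t * u * t⁻¹ ∈ V := Normal.conj_mem inferInstance u hu t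
    set w := u⁻¹ * (t * u * t⁻¹) with hw
    have wV : w ∈ V := mul_mem (inv_mem hu) hu'
    have e1 : t * w * t⁻¹ = w⁻¹ := by
      have t2 : t * t = 1 := by rwa [sq] at tt
      have ti : t⁻¹ = t := inv_eq_of_mul_eq_one_left t2
      rw [hw]
      simp only [mul_inv_rev, inv_inv, ti, mul_assoc, t2, mul_one]
    have e2 : t ∈ N[C1[w]] := by
      rw [← map_cj_eq_iff, ← centralizer_conj, e1]
      ext g
      rw [mem_c1_comm, inv_mem_iff, mem_c1_comm]
    obtain ⟨k, hk⟩ := ho w wV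
    haveI : (C1[w].subgroupOf N[C1[w]]).Normal := normal_in_normalizer
    have e3 : t ^ C1[w].relIndex N[C1[w]] ∈ C1[w] := pow_index_mem (C1[w].subgroupOf N[C1[w]]) ⟨t, e2⟩
    have e4 : t ∈ C1[w] := mem_of_pow_mem_coprime e3 (by
      rw [ot]
      exact (((Nat.coprime_primes Nat.prime_two hp).2 (Ne.symm p2)).pow_right k).coprime_dvd_right
        (hk ▸ relIndex_dvd_index_of_le le_normalizer))
    rw [mem_c1.1 e4, mul_inv_cancel_right] at e1
    have := o2 w wV (by rw [sq]; nth_rewrite 1 [e1]; exact inv_mul_cancel w)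
    exact hne (by rw [hw, inv_mul_eq_one, eq_mul_inv_iff_mul_eq] at this; exact this)
  exact solvable_of_ker_le_range V.subtype (QuotientGroup.mk' V) (by simp)

theorem map_mem_core {r q a k : ℕ} (hr : r.Prime) {x : G} (hx : x ^ q ^ k = 1) (h : cs[x] = r ^ a)
    (N : Subgroup G) [N.Normal] (hN : pCore r G ≤ N) : (x : G ⧸ N) ∈ pCore q (G ⧸ N) := by
  have h1 := (Subgroup.map_eq_bot_iff (f := QuotientGroup.mk' N) _).2
    ((comm_ncl_le hr h).trans (hN.trans (QuotientGroup.ker_mk' N).ge))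
  rw [Subgroup.map_commutator, map_normalClosure _ _ (QuotientGroup.mk'_surjective _), Set.image_singleton,
    commutator_eq_bot_iff_le_centralizer] at h1
  set M := normalClosure ({QuotientGroup.mk' N x} : Set (G ⧸ N))
  let K : Subgroup (G ⧸ N) :=
    { carrier := {y | y ∈ M ∧ y ^ q ^ k = 1}
      mul_mem' := fun {a b} ha hb => ⟨mul_mem ha.1 hb.1, by
        rw [Commute.mul_pow (h1 hb.1 a ha.1), ha.2, hb.2, mul_one]⟩
      one_mem' := ⟨one_mem _, one_pow _⟩
      inv_mem' := fun {a} ha => ⟨inv_mem ha.1, by rw [inv_pow, ha.2, inv_one]⟩ }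
  haveI : K.Normal := ⟨fun y hy g => ⟨Normal.conj_mem inferInstance y hy.1 g, by rw [conj_pow, hy.2]; simp⟩⟩
  exact le_pCore (N := K) (CfsgH2.isPGroup_of_forall fun y hy => ⟨k, hy.2⟩)
    ⟨subset_normalClosure rfl, by rw [← QuotientGroup.mk_pow, hx]; rfl⟩

theorem cs_mul_dvd {x y : G} (h : cs[y].Coprime cs[x]) : cs[y * x] ∣ cs[x] * cs[y] := by
  refine (index_dvd_of_le inf_le_c1_mul).trans ?_
  rw [← relIndex_mul_index (inf_le_left : C1[y] ⊓ C1[x] ≤ _), inf_relIndex_left,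
    (fac_top_of_coprime_index h).relIndex_eq, relIndex_top_right]

theorem qb_pair {r s q a b c k : ℕ} (hr : r.Prime) (hs : s.Prime) (hq : q.Prime) (ne : s ≠ r) (sq : s ≠ q) {x y : G}
    (hy : y ^ q ^ k = 1) (cx : cs[x] = s ^ a) (cy : cs[y] = r ^ b) (cxy : cs[y * x] = s ^ c) : y ∈ center G := by
  haveI := Fact.mk hs
  have cop : (s ^ a).Coprime (r ^ b) := ((Nat.coprime_primes hs hr).2 ne).pow a b
  have f : Fac C1[y] C1[x] ⊤ := fac_top_of_coprime_index (by rw [cx, cy]; exact cop.symm)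
  have h1 : cs[y * x] ≤ cs[x] := by
    have d : cs[y * x] ∣ cs[x] * cs[y] := cs_mul_dvd (by rw [cx, cy]; exact cop.symm)
    rw [cxy, cx, cy] at d
    rw [cxy, cx]
    exact Nat.le_of_dvd (pow_pos hs.pos _) ((((Nat.coprime_primes hs hr).2 ne).pow c b).dvd_of_dvd_mul_right d)
  let X : Set G := {z | IsConj x z}
  have cX : X.ncard = cs[x] := CfsgH3.card_isConj_eq_index x
  have key : ∀ g : G, (fun z => g * y * g⁻¹ * z) '' X = {z | IsConj (y * x) z} := fun g => by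
    refine Set.eq_of_subset_of_ncard_le ?_ ?_ (Set.toFinite _)
    · rintro _ ⟨z, hz, rfl⟩
      obtain ⟨h, rfl⟩ := isConj_iff.1 hz
      obtain ⟨u, hu, v, hv, e⟩ := f.2.2 (g⁻¹ * h) (mem_top _)
      refine isConj_iff.2 ⟨g * u, ?_⟩
      have e1 : h = g * u * v := by rw [mul_assoc, ← e]; group
      have e2 : v * x * v⁻¹ = x := by rw [mem_c1.1 hv]; group
      have e3 : u * y * u⁻¹ = y := by rw [mem_c1.1 hu]; group
      calc g * u * (y * x) * (g * u)⁻¹ = g * (u * y * u⁻¹) * g⁻¹ * (g * u * (v * x * v⁻¹) * (g * u)⁻¹) := by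
            rw [e2]; group
        _ = _ := by rw [e3, e1]; group
    · rw [Set.ncard_image_of_injective _ (mul_right_injective _), cX]
      exact (CfsgH3.card_isConj_eq_index (y * x)).le.trans h1
  let N : Subgroup G :=
    { carrier := {n | ∀ z, z ∈ X ↔ n * z ∈ X}
      mul_mem' := fun {m n} hm hn z => by rw [mul_assoc, ← hm, ← hn]
      one_mem' := fun z => by rw [one_mul]
      inv_mem' := fun {n} hn z => by rw [hn (n⁻¹ * z), mul_inv_cancel_left] }
  have cjX : ∀ g z : G, z ∈ X ↔ g * z * g⁻¹ ∈ X := fun g z =>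
    ⟨fun h => h.trans (isConj_iff.2 ⟨g, rfl⟩), fun h => h.trans (isConj_iff.2 ⟨g, rfl⟩).symm⟩
  haveI : N.Normal := ⟨fun n hn g z => by
    rw [cjX g⁻¹ z, hn, cjX g]
    congr! 1
    group⟩
  have dN : Nat.card N ∣ s ^ a := by
    let Ω : SubMulAction N G := ⟨X, fun n z hz => (n.2 z).1 hz⟩
    have hs : ∀ w : Ω, MulAction.stabilizer N w = ⊥ := fun w => by
      rw [eq_bot_iff]; intro g hg
      exact Subtype.ext (mul_eq_right.1 (congrArg Subtype.val hg))
    rw [← cx, ← cX, show X.ncard = Nat.card Ω from rfl,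
      Nat.card_congr (MulAction.selfEquivOrbitsQuotientProd hs), Nat.card_prod]
    exact Dvd.intro_left _ rfl
  have l : N ≤ C1[y] := le_c1_of_coprime (cy ▸ cop.coprime_dvd_left dN)
  rw [mem_center_iff]
  intro g
  have hn : y⁻¹ * (g * y * g⁻¹) ∈ N := fun z => by
    have e := (key g).trans (key 1).symm
    constructor
    · intro hz
      obtain ⟨w, hw, e1⟩ := e.le ⟨z, hz, rfl⟩
      simp only [one_mul, inv_one, mul_one] at e1
      rwa [mul_assoc, ← e1, inv_mul_cancel_left]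
    · intro hz
      obtain ⟨w, hw, e1⟩ := e.ge ⟨_, hz, rfl⟩
      simp only [one_mul, inv_one, mul_one, ← mul_assoc, mul_inv_cancel] at e1
      rwa [← mul_left_cancel e1]
  have c1 : Commute y (y⁻¹ * (g * y * g⁻¹)) := (mem_c1.1 (l hn)).symm
  have p1 : (y⁻¹ * (g * y * g⁻¹)) ^ q ^ k = 1 := by
    have := c1.mul_pow (q ^ k)
    rwa [mul_inv_cancel_left, conj_pow, hy, mul_one, mul_inv_cancel, one_mul, eq_comm] at this
  have := eq_one_of_coprime_order (IsPGroup.of_card_dvd_pow dN) hn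
    ((((Nat.coprime_primes hq hs).2 sq.symm).pow_left k).coprime_dvd_left (orderOf_dvd_of_pow_eq_one p1))
  rw [inv_mul_eq_one, eq_mul_inv_iff_mul_eq] at this
  exact this.symm

variable {q : ℕ} [hq : Fact q.Prime] {Q : Subgroup G}

theorem qb_conj {r a : ℕ} [hr : Fact r.Prime] {R : Subgroup G} (hQ : Syl q Q ⊤) (hR : Syl r R ⊤) (ne : r ≠ q) {u : G}
    (h : cs[u] = q ^ a) : ∃ g ∈ Q, g * u * g⁻¹ ∈ C[R] := by
  obtain ⟨g, -, hg⟩ := hR.exists_conj_cent (x := u) (by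
    rw [relIndex_top_right, h]
    exact fun d => ne ((Nat.prime_dvd_prime_iff_eq hr.out hq.out).1 (hr.out.dvd_of_dvd_pow d)))
  obtain ⟨b, hb, c, hc, rfl⟩ := fac_top_iff.1 (fac_top_of_coprime_index (A := Q) (B := C1[u]) (by
    rw [h, ← relIndex_top_right]
    exact ((coprime_iff_not_dvd hq.out).2 hQ.nd).pow_right a)) g
  refine ⟨b, hb, ?_⟩
  rwa [mul_assoc b c, mem_c1.1 hc, mul_inv_rev, mul_assoc, mul_assoc, mul_inv_cancel_left, ← mul_assoc] at hg

theorem mem_pCore_of_cs {x : G} {k a : ℕ} (hx : orderOf x = q ^ k) (h : cs[x] = q ^ a) : x ∈ pCore q G := by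
  rw [pCore_eq_piCore, ← piCoreOf_top]
  exact mem_core_of_cs (CfsgH2.isPGroup_zpowers (hx ▸ pow_orderOf_eq_one x))
    (h ▸ (PiN.of_prime hq.out (Set.mem_singleton q)).pow a)

theorem qb_dich (hB : ∀ x : G, (∃ k : ℕ, orderOf x = q ^ k) → ∃ r a : ℕ, r.Prime ∧ cs[x] = r ^ a) (hQ : Syl q Q ⊤) :
    (∀ x : G, (∃ k : ℕ, orderOf x = q ^ k) → ∃ a, cs[x] = q ^ a) ∨
      ∀ x : G, (∃ k : ℕ, orderOf x = q ^ k) → ¬ q ∣ cs[x] := by
  have nd : ∀ r a : ℕ, r.Prime → r ≠ q → ¬ q ∣ r ^ a := fun r a hr ne d =>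
    ne ((Nat.prime_dvd_prime_iff_eq hq.out hr).1 (hq.out.dvd_of_dvd_pow d)).symm
  have pO := isPGroup_pCore (G := G) q
  by_cases h1 : Q ≤ C[pCore q G]
  · refine .inr fun x ⟨k, hx⟩ => ?_
    obtain ⟨r, a, hr, h⟩ := hB x ⟨k, hx⟩
    by_cases e : r = q
    · subst e
      exact not_dvd_cs hQ (h1.trans (cent_le_cent1 (mem_pCore_of_cs hx h)))
    · exact h ▸ nd r a hr e
  have h0 : ∀ u ∈ Q, u ∉ C[pCore q G] → ∃ a, cs[u] = q ^ a := fun u hu h => by
    obtain ⟨r, a, hr, e⟩ := hB u (pgroup_mem_order hQ.pg hu)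
    by_cases e' : r = q
    · exact ⟨a, e' ▸ e⟩
    · exact (h (le_cent1_iff.1 (le_c1_of_coprime (coprime_of_pgroup pO (e ▸ nd r a hr e'))))).elim
  have h2 : Q ≤ pCore q G := (SubgroupClass.subset_union.1 fun u hu => by
    by_cases h : u ∈ C[pCore q G]
    · exact .inr h
    · obtain ⟨a, ha⟩ := h0 u hu h
      obtain ⟨k, hk⟩ := pgroup_mem_order hQ.pg hu
      exact .inl (mem_pCore_of_cs hk ha)).resolve_right h1
  obtain rfl := (hQ.eq_of_le pO h2 le_top).symm
  set Q := pCore q G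
  refine .inl fun x ⟨k, hx⟩ => ?_
  obtain ⟨r, a, hr, h⟩ := hB x ⟨k, hx⟩
  by_cases e : r = q
  · exact ⟨a, e ▸ h⟩
  haveI := Fact.mk hr
  obtain ⟨R, hR⟩ := exists_syl r (⊤ : Subgroup G)
  have e1 : (Q ⊓ C[R]) ⊔ Z[Q] = Q := eq_of_forall_conj_mem (sup_le inf_le_left inf_le_left) fun u hu => by
    by_cases h : u ∈ C[Q]
    · exact ⟨1, one_mem _, by simpa using mem_sup_right (S := Q ⊓ C[R]) (show u ∈ Z[Q] from ⟨hu, h⟩)⟩
    · obtain ⟨a, ha⟩ := h0 u hu h
      obtain ⟨g, g1, g2⟩ := qb_conj hQ hR e ha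
      exact ⟨g, g1, mem_sup_left (mem_inf.2 ⟨mul_mem (mul_mem g1 hu) (inv_mem g1), g2⟩)⟩
  obtain ⟨u, hu, hu'⟩ : ∃ u ∈ Q ⊓ C[R], u ∉ C[Q] := by
    by_contra hn
    push Not at hn
    exact h1 (e1.ge.trans (sup_le hn inf_le_right))
  obtain ⟨hu1, hu2⟩ := mem_inf.1 hu
  have e2 : Z[Q] ≤ C[R] := fun z hz => by
    replace hz := mem_inf.1 hz
    obtain ⟨a, ha⟩ := h0 (u * z) (mul_mem hu1 hz.1) fun h => hu' ((mul_mem_cancel_right hz.2).1 h)
    obtain ⟨g, g1, g2⟩ := qb_conj hQ hR e ha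
    obtain ⟨c, hc, w, hw, rfl⟩ := mem_sup_of_normal_right.1 (e1.ge g1)
    replace hc := mem_inf.1 hc
    replace hw := mem_inf.1 hw
    have : c * w * (u * z) * (c * w)⁻¹ = c * u * c⁻¹ * z := by
      rw [mul_assoc c w, ← hw.2 _ (mul_mem hu1 hz.1), mul_assoc _ c⁻¹ z, hz.2 _ (inv_mem hc.1)]
      group
    rw [this] at g2
    exact (mul_mem_cancel_left (mul_mem (mul_mem hc.2 hu2) (inv_mem hc.2))).1 g2
  have xQ : x ∈ Q := hQ.le_of_norm' (Q := zpowers x) (CfsgH2.isPGroup_zpowers (hx ▸ pow_orderOf_eq_one x)) le_top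
      le_normalizer_of_normal (mem_zpowers x)
  have := not_dvd_cs hR (le_cent1_iff.2 (e1.ge.trans (sup_le inf_le_right e2) xQ))
  obtain rfl : a = 0 := by
    by_contra a0
    exact this (h ▸ dvd_pow_self r a0)
  exact ⟨0, by simpa using h⟩

theorem qb_one (h : ∀ x : G, (∃ k : ℕ, orderOf x = q ^ k) → ∃ a, cs[x] = q ^ a) (hQ : Syl q Q ⊤) :
    Q.Normal ∧ ∃ N : Subgroup G, N.Normal ∧ N.IsComplement' Q := by
  obtain ⟨h1, h2⟩ := direct_of_comm hQ (piRes_le_iff.2 fun y _ hy =>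
    le_of_forall_pelem (M := zpowers y) (fun r hr a ha pa => by
      haveI := Fact.mk hr
      by_cases e : r = q
      · subst e
        rw [eq_one_of_coprime_order pa (mem_zpowers a) (hy.coprime_dvd_left (orderOf_dvd_of_mem_zpowers ha))]
        exact one_mem _
      obtain ⟨R, hR, l⟩ := exists_syl_ge pa le_top
      have : Q ⊓ C[R] = Q := eq_of_forall_conj_mem inf_le_left fun u hu => by
        obtain ⟨a, ha⟩ := h u (pgroup_mem_order hQ.pg hu)
        obtain ⟨g, g1, g2⟩ := qb_conj hQ hR e ha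
        exact ⟨g, g1, mem_inf.2 ⟨mul_mem (mul_mem g1 hu) (inv_mem g1), g2⟩⟩
      exact le_centralizer_iff.1 (inf_eq_left.1 this) (l (mem_zpowers a))) (mem_zpowers y))
  haveI : (piRes {q} (⊤ : Subgroup G)).Normal := top_le_norm_iff.1 le_norm_piRes
  refine ⟨h1, piRes {q} ⊤, this, isComplement'_of_disjoint_and_mul_eq_univ
    (disjoint_of_coprime_natCard (coprime_of_pgroup hQ.pg h2).symm) ?_⟩
  rw [← normal_mul, hQ.piRes_sup, coe_top]

theorem qb_same (hB : ∀ x : G, (∃ k : ℕ, orderOf x = q ^ k) → ∃ r a : ℕ, r.Prime ∧ cs[x] = r ^ a)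
    (h : ∀ x : G, (∃ k : ℕ, orderOf x = q ^ k) → ¬ q ∣ cs[x]) {y : G} {p b : ℕ} (hy : ∃ k : ℕ, orderOf y = q ^ k)
    (hp : p.Prime) (cy : cs[y] = p ^ b) (b0 : b ≠ 0) (x : G) (hx : ∃ k : ℕ, orderOf x = q ^ k) : ∃ a, cs[x] = p ^ a := by
  obtain ⟨s, a, hs, cx⟩ := hB x hx
  by_contra hn
  have a0 : a ≠ 0 := by rintro rfl; exact hn ⟨0, by simpa using cx⟩
  have sp : s ≠ p := by rintro rfl; exact hn ⟨a, cx⟩
  have sq : s ≠ q := by rintro rfl; exact h x hx (cx ▸ dvd_pow_self _ a0)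
  have pq : p ≠ q := by rintro rfl; exact h y hy (cy ▸ dvd_pow_self _ b0)
  obtain ⟨k, hk⟩ := hx
  obtain ⟨j, hj⟩ := hy
  have y1 : y ^ q ^ j = 1 := hj ▸ pow_orderOf_eq_one y
  obtain ⟨P, hP, l⟩ := exists_syl_ge (CfsgH2.isPGroup_zpowers y1) le_top
  obtain ⟨g, -, hg⟩ := hP.exists_conj_le (CfsgH2.isPGroup_zpowers (hk ▸ pow_orderOf_eq_one x)) le_top
  have hz : g * x * g⁻¹ ∈ P := hg ⟨x, mem_zpowers x, rfl⟩
  rw [← cs_conj g] at cx
  set z := g * x * g⁻¹
  obtain ⟨i, z1⟩ := pgroup_pow_eq_one hP.pg hz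
  obtain ⟨t, c, ht, e⟩ := hB (y * z) (pgroup_mem_order hP.pg (mul_mem (l (mem_zpowers y)) hz))
  have nc : ∀ (w : G) (r m : ℕ), r.Prime → m ≠ 0 → cs[w] = r ^ m → w ∉ center G := fun w r m hr m0 e h =>
    (one_lt_pow₀ hr.one_lt m0).ne' (e ▸ cs_eq_one.2 h)
  by_cases c0 : c = 0
  · subst c0
    exact nc y p b hp b0 cy (qb_pair (c := 0) hp hs hq.out sp sq y1 cx cy (by simpa using e))
  have d := cs_mul_dvd (x := z) (y := y) (by rw [cx, cy]; exact ((Nat.coprime_primes hp hs).2 sp.symm).pow b a)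
  rw [e, cx, cy] at d
  rcases (Nat.Prime.dvd_mul ht).1 ((dvd_pow_self t c0).trans d) with d | d
  · obtain rfl := (Nat.prime_dvd_prime_iff_eq ht hs).1 (ht.dvd_of_dvd_pow d)
    exact nc y p b hp b0 cy (qb_pair hp hs hq.out sp sq y1 cx cy e)
  · obtain rfl := (Nat.prime_dvd_prime_iff_eq ht hp).1 (ht.dvd_of_dvd_pow d)
    refine nc z s a hs a0 cx (qb_pair hs hp hq.out sp.symm pq z1 cy cx (c := c) ?_)
    rw [← e, ← cs_conj y, ← mul_assoc, mul_inv_cancel_right]

theorem syl_map_normal (hQ : Syl q Q ⊤) (N : Subgroup G) [N.Normal] (h : ∀ x ∈ Q, (x : G ⧸ N) ∈ pCore q (G ⧸ N)) :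
    Syl q (Q.map (QuotientGroup.mk' N)) ⊤ ∧ (Q.map (QuotientGroup.mk' N)).Normal := by
  have h1 := hQ.map (QuotientGroup.mk' N)
  rw [map_top_of_surjective _ (QuotientGroup.mk'_surjective N)] at h1
  refine ⟨h1, ?_⟩
  rw [← h1.eq_of_le (isPGroup_pCore q) (by rintro _ ⟨x, hx, rfl⟩; exact h x hx) le_top]
  infer_instance

theorem qb_other {p : ℕ} (hp : p.Prime) (ne : p ≠ q) (hQ : Syl q Q ⊤)
    (h : ∀ x : G, (∃ k : ℕ, orderOf x = q ^ k) → ∃ a, cs[x] = p ^ a) :
    IsMulCommutative Q ∧ (pCore p G ⊔ Q).Normal ∧ Group.IsSolvable (G ⧸ pPrimeCore q G) := by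
  haveI := Fact.mk hp
  have nd : ∀ a : ℕ, ¬ q ∣ p ^ a := fun a d =>
    ne ((Nat.prime_dvd_prime_iff_eq hq.out hp).1 (hq.out.dvd_of_dvd_pow d)).symm
  have nm : ∀ (N : Subgroup G) [N.Normal], pCore p G ≤ N → Syl q (Q.map (QuotientGroup.mk' N)) ⊤ ∧
      (Q.map (QuotientGroup.mk' N)).Normal := fun N _ l => syl_map_normal hQ N fun x hx => by
    obtain ⟨a, ha⟩ := h x (pgroup_mem_order hQ.pg hx)
    obtain ⟨k, hk⟩ := pgroup_pow_eq_one hQ.pg hx
    exact map_mem_core hp hk ha N l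
  have cO : (Nat.card (pCore p G)).Coprime q := by
    obtain ⟨a, ha⟩ := IsPGroup.iff_card.1 (isPGroup_pCore (G := G) p)
    exact ha ▸ (coprime_iff_not_dvd hq.out).2 (nd a)
  obtain ⟨s1, n1⟩ := nm _ le_rfl
  have ab : IsMulCommutative Q := isMulComm_of_le_cent fun u hu v hv => by
    obtain ⟨a, ha⟩ := h u (pgroup_mem_order hQ.pg hu)
    have h1 := le_c1_of_coprime (coprime_of_pgroup s1.pg fun d => nd a (ha ▸ d.trans
      (cs_map_dvd (QuotientGroup.mk'_surjective _) u))) ⟨v, hv, rfl⟩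
    rw [mem_c1, ← map_mul, ← map_mul, QuotientGroup.mk'_apply, QuotientGroup.mk'_apply, QuotientGroup.eq] at h1
    exact inv_mul_eq_one.1 (eq_one_of_coprime_order hQ.pg (mul_mem (inv_mem (mul_mem hv hu)) (mul_mem hu hv))
      (cO.coprime_dvd_left (Subgroup.orderOf_dvd_natCard _ h1)))
  refine ⟨ab, ?_, ?_⟩
  · have := n1.comap (QuotientGroup.mk' (pCore p G))
    rwa [comap_map_eq, QuotientGroup.ker_mk', sup_comm] at this
  obtain ⟨s2, n2⟩ := nm (pPrimeCore q G) (le_pPrimeCore cO)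
  set V := Q.map (QuotientGroup.mk' (pPrimeCore q G))
  have av : IsMulCommutative V := inferInstance
  refine qb_solv hp hq.out ne V av s2.pg (relIndex_top_right V ▸ s2.nd) ?_ ?_
  · have e0 := scn_cent_eq s2 ⟨le_rfl, le_normalizer, inf_eq_left.2 (le_cent_self av)⟩
    rw [top_inf_eq] at e0
    haveI : (O[{q}ᶜ, C[V]]).Normal := top_le_norm_iff.1 (le_norm_piCoreOf' (le_norm_cent (top_le_norm_iff.2 n2)))
    have h1 := le_pPrimeCore (N := O[{q}ᶜ, C[V]]) ((piN_compl_singleton' hq.out).1 piN_piCoreOf)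
    rw [pPrimeCore_quotient_pPrimeCore] at h1
    exact e0.ge.trans (sup_le (h1.trans bot_le) le_rfl)
  · rintro _ ⟨u, hu, rfl⟩
    obtain ⟨a, ha⟩ := h u (pgroup_mem_order hQ.pg hu)
    obtain ⟨j, -, hj⟩ := (Nat.dvd_prime_pow hp).1 (ha ▸ cs_map_dvd (QuotientGroup.mk'_surjective (pPrimeCore q G)) u)
    exact ⟨j, hj⟩

theorem qb_len (hB : ∀ x : G, (∃ k : ℕ, orderOf x = q ^ k) → ∃ r a : ℕ, r.Prime ∧ cs[x] = r ^ a) (hQ : Syl q Q ⊤) :
    ∃ K L : Subgroup G, K.Normal ∧ L.Normal ∧ K ≤ L ∧ (Nat.card K).Coprime q ∧ (∃ m : ℕ, K.relIndex L = q ^ m) ∧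
      L.index.Coprime q := by
  let π := QuotientGroup.mk' (pPrimeCore q G)
  have sj : Function.Surjective π := QuotientGroup.mk'_surjective _
  refine ⟨pPrimeCore q G, (pCore q _).comap π, inferInstance, inferInstance,
    (QuotientGroup.ker_mk' _).ge.trans (ker_le_comap _ _), coprime_pPrimeCore q, ?_,
    (coprime_iff_not_dvd hq.out).2 ?_⟩
  · have := relIndex_ker ((pCore q _).comap π) π
    rw [QuotientGroup.ker_mk', map_comap_eq_self_of_surjective sj] at this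
    exact this ▸ IsPGroup.iff_card.1 (isPGroup_pCore q)
  · rw [← relIndex_top_right]
    refine hQ.not_dvd_of_le fun x hx => ?_
    obtain ⟨k, hk⟩ := pgroup_mem_order hQ.pg hx
    obtain ⟨r, a, hr, h⟩ := hB x ⟨k, hk⟩
    by_cases e : r = q
    · subst e
      exact map_pCore_le r sj ⟨x, mem_pCore_of_cs hk h, rfl⟩
    · haveI := Fact.mk hr
      refine map_mem_core hr (hk ▸ pow_orderOf_eq_one x) h _ (le_pPrimeCore ?_)
      obtain ⟨a, ha⟩ := IsPGroup.iff_card.1 (isPGroup_pCore (G := G) r)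
      exact ha ▸ ((Nat.coprime_primes hr hq.out).2 e).pow_left a

end CfsgH1
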