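import Mathlib
import Cfsg.Prelude.Def_RootSubgroups

/-! The Steinberg presentation of `SL(2, k)`. -/

set_option autoImplicit false
set_option linter.unusedSectionVars false

namespace CfsgH1

open Matrix Cfsg
open scoped MatrixGroups

variable {k : Type*} [Field k] {Γ : Type*} [Group Γ]

/-- upper transvection -/
def sU (t : k) : SL(2, k) := ⟨!![1, t; 0, 1], by simp [det_fin_two]⟩
/-- lower transvection -/
def sL (t : k) : SL(2, k) := ⟨!![1, 0; t, 1], by simp [det_fin_two]⟩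
/-- Weyl element -/
def sW (t : k) : SL(2, k) := sU t * sL (-t⁻¹) * sU t

theorem sU_val (t : k) : (sU t).1 = !![1, t; 0, 1] := rfl
theorem sL_val (t : k) : (sL t).1 = !![1, 0; t, 1] := rfl

theorem sl2_ext {g h : SL(2, k)} (h1 : g.1 0 0 = h.1 0 0) (h2 : g.1 0 1 = h.1 0 1)
    (h3 : g.1 1 0 = h.1 1 0) (h4 : g.1 1 1 = h.1 1 1) : g = h := by
  ext i j
  fin_cases i <;> fin_cases j
  exacts [h1, h2, h3, h4]

theorem sl2_det (g : SL(2, k)) : g.1 0 0 * g.1 1 1 - g.1 0 1 * g.1 1 0 = 1 := by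
  have := g.2
  rwa [det_fin_two] at this

theorem sl2_mul (g h : SL(2, k)) (i j : Fin 2) :
    (g * h).1 i j = g.1 i 0 * h.1 0 j + g.1 i 1 * h.1 1 j := by
  simp [Matrix.mul_apply, Fin.sum_univ_two]

theorem sW_val {t : k} (ht : t ≠ 0) : (sW t).1 = !![0, t; -t⁻¹, 0] := by
  ext i j
  rw [sW, sl2_mul, sl2_mul, sl2_mul]
  fin_cases i <;> fin_cases j <;> simp [sU_val, sL_val, ht]

theorem sU_add (s t : k) : sU (s + t) = sU s * sU t := by
  apply sl2_ext <;> simp [sl2_mul, sU_val, add_comm]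
theorem sL_add (s t : k) : sL (s + t) = sL s * sL t := by
  apply sl2_ext <;> simp [sl2_mul, sL_val, add_comm]
theorem sU_zero : sU (0 : k) = 1 := by apply sl2_ext <;> simp [sU_val]
theorem sL_zero : sL (0 : k) = 1 := by apply sl2_ext <;> simp [sL_val]
theorem sU_neg (t : k) : sU (-t) = (sU t)⁻¹ := by
  rw [eq_inv_iff_mul_eq_one, ← sU_add, neg_add_cancel, sU_zero]
theorem sL_neg (t : k) : sL (-t) = (sL t)⁻¹ := by
  rw [eq_inv_iff_mul_eq_one, ← sL_add, neg_add_cancel, sL_zero]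
theorem sU_inj {s t : k} (h : sU s = sU t) : s = t := by
  simpa [sU_val] using congrArg (fun g : SL(2, k) => g.1 0 1) h
theorem sL_inj {s t : k} (h : sL s = sL t) : s = t := by
  simpa [sL_val] using congrArg (fun g : SL(2, k) => g.1 1 0) h

theorem mem_upper {g : SL(2, k)} : g ∈ upperUnipotentSL2 k ↔ ∃ t, g = sU t := by
  constructor
  · intro hg
    induction hg using Subgroup.closure_induction with
    | mem g hg => exact ⟨g.1 0 1, by apply sl2_ext <;> simp [sU_val, hg.1, hg.2.1, hg.2.2]⟩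
    | one => exact ⟨0, sU_zero.symm⟩
    | mul _ _ _ _ h1 h2 =>
      obtain ⟨s, rfl⟩ := h1; obtain ⟨t, rfl⟩ := h2; exact ⟨s + t, (sU_add _ _).symm⟩
    | inv _ _ h => obtain ⟨s, rfl⟩ := h; exact ⟨-s, (sU_neg _).symm⟩
  · rintro ⟨t, rfl⟩
    exact Subgroup.subset_closure (by simp [sU_val])

theorem mem_lower {g : SL(2, k)} : g ∈ lowerUnipotentSL2 k ↔ ∃ t, g = sL t := by
  constructor
  · intro hg
    induction hg using Subgroup.closure_induction with
    | mem g hg => exact ⟨g.1 1 0, by apply sl2_ext <;> simp [sL_val, hg.1, hg.2.1, hg.2.2]⟩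
    | one => exact ⟨0, sL_zero.symm⟩
    | mul _ _ _ _ h1 h2 =>
      obtain ⟨s, rfl⟩ := h1; obtain ⟨t, rfl⟩ := h2; exact ⟨s + t, (sL_add _ _).symm⟩
    | inv _ _ h => obtain ⟨s, rfl⟩ := h; exact ⟨-s, (sL_neg _).symm⟩
  · rintro ⟨t, rfl⟩
    exact Subgroup.subset_closure (by simp [sL_val])

theorem sl2_eq_of_zero {g : SL(2, k)} (h : g.1 1 0 = 0) :
    g.1 0 0 ≠ 0 ∧ g = sU (g.1 0 0 * g.1 0 1) * (sW (g.1 0 0) * sW (-1)) := by
  have d := sl2_det g
  rw [h, mul_zero, sub_zero] at d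
  have h0 : g.1 0 0 ≠ 0 := left_ne_zero_of_mul_eq_one d
  have h1 : g.1 1 1 = (g.1 0 0)⁻¹ := (eq_inv_of_mul_eq_one_right d)
  refine ⟨h0, ?_⟩
  apply sl2_ext <;>
    simp [sl2_mul, sU_val, sW_val h0, sW_val (neg_ne_zero.2 (one_ne_zero (α := k))), h, h1]
  field_simp

theorem sl2_eq_of_ne {g : SL(2, k)} (h : g.1 1 0 ≠ 0) :
    g = sU (g.1 0 0 / g.1 1 0) * (sW (-(g.1 1 0)⁻¹) * sU (g.1 1 1 / g.1 1 0)) := by
  have d := sl2_det g
  have h' : -(g.1 1 0)⁻¹ ≠ 0 := neg_ne_zero.2 (inv_ne_zero h)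
  apply sl2_ext <;> simp [sl2_mul, sU_val, sW_val h']
  · field_simp
  · field_simp; linear_combination -d
  · field_simp

theorem sl2_le_of {H : Subgroup SL(2, k)} (h1 : ∀ t, sU t ∈ H) (h2 : ∀ t, sL t ∈ H) : H = ⊤ := by
  have h3 : ∀ t, sW t ∈ H := fun t => mul_mem (mul_mem (h1 _) (h2 _)) (h1 _)
  rw [eq_top_iff]
  intro g _
  by_cases h : g.1 1 0 = 0
  · rw [(sl2_eq_of_zero h).2]; exact mul_mem (h1 _) (mul_mem (h3 _) (h3 _))
  · rw [sl2_eq_of_ne h]; exact mul_mem (h1 _) (mul_mem (h3 _) (h1 _))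

theorem upper_sup_lower : upperUnipotentSL2 k ⊔ lowerUnipotentSL2 k = ⊤ :=
  sl2_le_of (fun t => Subgroup.mem_sup_left (mem_upper.2 ⟨t, rfl⟩))
    (fun t => Subgroup.mem_sup_right (mem_lower.2 ⟨t, rfl⟩))

theorem sl2_center {g : SL(2, k)} (h : g ∈ Subgroup.center SL(2, k)) : g = 1 ∨ g = -1 := by
  rw [Subgroup.mem_center_iff] at h
  have e1 := congrArg (fun g : SL(2, k) => g.1 0 0) (h (sU 1))
  have e2 := congrArg (fun g : SL(2, k) => g.1 0 1) (h (sU 1))
  have e3 := congrArg (fun g : SL(2, k) => g.1 0 0) (h (sL 1))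
  simp [sl2_mul, sU_val, sL_val] at e1 e2 e3
  have d := sl2_det g
  have e4 : g.1 1 1 = g.1 0 0 := by linear_combination e2
  rw [e1, e4, mul_zero, sub_zero] at d
  rcases mul_self_eq_one_iff.1 d with e | e
  · left; apply sl2_ext <;> simp [e1, e3, e4, e]
  · right; apply sl2_ext <;> simp [e1, e3, e4, e]

/-- The Weyl elements attached to a pair of one-parameter families. -/
def stW (x y : k → Γ) (t : k) : Γ := x t * y (-t⁻¹) * x t

/-- Steinberg relations (A), (B') for `SL(2, k)`. -/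
structure St2 (x y : k → Γ) : Prop where
  xa : ∀ s t, x (s + t) = x s * x t
  ya : ∀ s t, y (s + t) = y s * y t
  r1 : ∀ t, t ≠ 0 → ∀ r, stW x y t * x r * (stW x y t)⁻¹ = y (-r / t ^ 2)

namespace St2

variable {x y : k → Γ}

local notation "w" => stW x y

theorem x0 (h : St2 x y) : x 0 = 1 := by simpa using h.xa 0 0
theorem y0 (h : St2 x y) : y 0 = 1 := by simpa using h.ya 0 0
theorem xn (h : St2 x y) (t : k) : x (-t) = (x t)⁻¹ := by
  rw [eq_inv_iff_mul_eq_one, ← h.xa, neg_add_cancel, h.x0]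
theorem yn (h : St2 x y) (t : k) : y (-t) = (y t)⁻¹ := by
  rw [eq_inv_iff_mul_eq_one, ← h.ya, neg_add_cancel, h.y0]
theorem wn (h : St2 x y) (t : k) : w (-t) = (w t)⁻¹ := by
  simp only [stW, h.xn, inv_neg, h.yn]; group

theorem r2 (h : St2 x y) {t : k} (ht : t ≠ 0) (r : k) : w t * y r * (w t)⁻¹ = x (-t ^ 2 * r) := by
  have := h.r1 (-t) (neg_ne_zero.2 ht) (-t ^ 2 * r)
  rw [h.wn, show -(-t ^ 2 * r) / (-t) ^ 2 = r by field_simp] at this
  rw [← this]; group

theorem w_eq (h : St2 x y) {t : k} (ht : t ≠ 0) : w t = y (-t⁻¹) * x t * y (-t⁻¹) := by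
  have e1 := h.r1 t ht t
  have e2 := h.r2 ht (-t⁻¹)
  rw [show -t / t ^ 2 = -t⁻¹ by field_simp] at e1
  rw [show -t ^ 2 * -t⁻¹ = t by field_simp] at e2
  calc w t = w t * (x t * y (-t⁻¹) * x t) * (w t)⁻¹ := by rw [← stW]; group
    _ = (w t * x t * (w t)⁻¹) * (w t * y (-t⁻¹) * (w t)⁻¹) * (w t * x t * (w t)⁻¹) := by group
    _ = _ := by rw [e1, e2]

theorem ww (h : St2 x y) {t u : k} (ht : t ≠ 0) (hu : u ≠ 0) :
    w t * w u * (w t)⁻¹ = w (t ^ 2 / u) := by
  rw [h.w_eq (div_ne_zero (pow_ne_zero 2 ht) hu)]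
  calc w t * w u * (w t)⁻¹ =
      (w t * x u * (w t)⁻¹) * (w t * y (-u⁻¹) * (w t)⁻¹) * (w t * x u * (w t)⁻¹) := by
        rw [stW.eq_1 x y u]; group
    _ = _ := by
      rw [h.r1 t ht, h.r2 ht]
      congr 2 <;> [skip; congr 1; skip] <;> (try congr 1) <;> field_simp

theorem y_eq (h : St2 x y) {u : k} : y (-u⁻¹) = x (-u) * w u * x (-u) := by
  rw [h.xn, stW]; group

theorem wwx (h : St2 x y) {t u : k} (ht : t ≠ 0) (hu : u ≠ 0) (r : k) :
    w t * w u * x r = x (t ^ 2 / u ^ 2 * r) * (w t * w u) := by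
  have e1 := h.r1 u hu r
  have e2 := h.r2 ht (-r / u ^ 2)
  rw [← e1, show -t ^ 2 * (-r / u ^ 2) = t ^ 2 / u ^ 2 * r by ring] at e2
  rw [← e2]; group

theorem wwy (h : St2 x y) {t u : k} (ht : t ≠ 0) (hu : u ≠ 0) (r : k) :
    w t * w u * y r = y (u ^ 2 / t ^ 2 * r) * (w t * w u) := by
  have e1 := h.r2 hu r
  have e2 := h.r1 t ht (-u ^ 2 * r)
  rw [← e1, show -(-u ^ 2 * r) / t ^ 2 = u ^ 2 / t ^ 2 * r by ring] at e2
  rw [← e2]; group

theorem exists_hom (h : St2 x y)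
    (hC : ∀ t u, t ≠ 0 → u ≠ 0 → w t * w u = w (-t / u) * w (-1)) :
    ∃ φ : SL(2, k) →* Γ, (∀ t, φ (sU t) = x t) ∧ ∀ t, φ (sL t) = y t := by
  classical
  have m1 : (-1 : k) ≠ 0 := neg_ne_zero.2 one_ne_zero
  have hC2 : ∀ t a, t ≠ 0 → a ≠ 0 → w t * (w a * w (-1)) = w (t / a) := by
    intro t a ht ha
    have := hC (t / a) 1 (div_ne_zero ht ha) one_ne_zero
    rw [← mul_assoc, hC t a ht ha, show -t / a = -(t / a) / 1 by ring, ← this, h.wn 1]; group
  let f : SL(2, k) → Γ := fun g => if g.1 1 0 = 0 then x (g.1 0 0 * g.1 0 1) * (w (g.1 0 0) * w (-1))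
    else x (g.1 0 0 / g.1 1 0) * (w (-(g.1 1 0)⁻¹) * x (g.1 1 1 / g.1 1 0))
  have fU : ∀ s g, f (sU s * g) = x s * f g := by
    intro s g
    have d := sl2_det g
    have e10 : (sU s * g).1 1 0 = g.1 1 0 := by simp [sl2_mul, sU_val]
    have e11 : (sU s * g).1 1 1 = g.1 1 1 := by simp [sl2_mul, sU_val]
    have e00 : (sU s * g).1 0 0 = g.1 0 0 + s * g.1 1 0 := by simp [sl2_mul, sU_val]
    have e01 : (sU s * g).1 0 1 = g.1 0 1 + s * g.1 1 1 := by simp [sl2_mul, sU_val]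
    simp only [f, e10, e11, e00, e01]
    split_ifs with c
    · rw [← mul_assoc (x s), ← h.xa, c, mul_zero, add_zero]
      congr 2
      rw [c] at d
      linear_combination s * d
    · rw [← mul_assoc (x s), ← h.xa]
      congr 2
      field_simp; ring
  have fW : ∀ t, t ≠ 0 → ∀ g, f (sW t * g) = w t * f g := by
    intro t ht g
    have d := sl2_det g
    have e10 : (sW t * g).1 1 0 = -t⁻¹ * g.1 0 0 := by simp [sl2_mul, sW_val ht]
    have e11 : (sW t * g).1 1 1 = -t⁻¹ * g.1 0 1 := by simp [sl2_mul, sW_val ht]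
    have e00 : (sW t * g).1 0 0 = t * g.1 1 0 := by simp [sl2_mul, sW_val ht]
    have e01 : (sW t * g).1 0 1 = t * g.1 1 1 := by simp [sl2_mul, sW_val ht]
    simp only [f, e10, e11, e00, e01]
    generalize g.1 0 0 = a, g.1 0 1 = b, g.1 1 0 = c, g.1 1 1 = e at d
    by_cases hc : c = 0
    · subst hc
      have ha : a ≠ 0 := by rintro rfl; simp at d
      rw [if_neg (mul_ne_zero (neg_ne_zero.2 (inv_ne_zero ht)) ha), if_pos rfl, mul_zero, zero_div,
        h.x0, one_mul, show a * b = a ^ 2 / (-1) ^ 2 * (b / a) by field_simp, ← h.wwx ha m1,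
        ← mul_assoc, hC2 t a ht ha]
      congr 2 <;> field_simp
    · rw [if_neg hc]
      have hc' : -c⁻¹ ≠ 0 := neg_ne_zero.2 (inv_ne_zero hc)
      by_cases ha : a = 0
      · subst ha
        rw [if_pos (mul_zero _), zero_div, h.x0, one_mul, ← mul_assoc (w t), h.wwx ht hc',
          hC t _ ht hc']
        congr 2
        · field_simp
        · congr 1; field_simp
      · rw [if_neg (mul_ne_zero (neg_ne_zero.2 (inv_ne_zero ht)) ha)]
        have hu : t ^ 2 * c / a ≠ 0 := div_ne_zero (mul_ne_zero (pow_ne_zero 2 ht) hc) ha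
        have e1 := h.r1 t ht (a / c)
        rw [show -(a / c) / t ^ 2 = -(t ^ 2 * c / a)⁻¹ by field_simp, h.y_eq] at e1
        have e2 := h.wwx ht hc' (-(a * c)⁻¹)
        rw [show t ^ 2 / (-c⁻¹) ^ 2 * -(a * c)⁻¹ = -(t ^ 2 * c / a) by field_simp] at e2
        have e3 : w (t ^ 2 * c / a) * (w t * w (-c⁻¹)) = w (t / a) := by
          rw [hC t _ ht hc', hC2 _ _ hu (by rw [neg_div_neg_eq]; exact div_ne_zero ht (inv_ne_zero hc))]
          congr 1; field_simp
        calc _ = x (-(t ^ 2 * c / a)) * (w (t / a) * x (-(a * c)⁻¹ + e / c)) := by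
              congr 2
              · field_simp
              · congr 1; field_simp
              · congr 1; field_simp; linear_combination -d
          _ = x (-(t ^ 2 * c / a)) * w (t ^ 2 * c / a) * (w t * w (-c⁻¹) * x (-(a * c)⁻¹)) *
              x (e / c) := by rw [← e3, h.xa]; group
          _ = (w t * x (a / c) * (w t)⁻¹) * (w t * w (-c⁻¹)) * x (e / c) := by rw [e1, e2]; group
          _ = _ := by group
  have f1 : f 1 = 1 := by
    simp only [f]
    rw [if_pos (by simp)]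
    simp [h.x0, h.wn]
  have fm : ∀ g g', f (g * g') = f g * f g' := by
    intro g g'
    by_cases c : g.1 1 0 = 0
    · obtain ⟨h0, e⟩ := sl2_eq_of_zero c
      have : f g = x (g.1 0 0 * g.1 0 1) * (w (g.1 0 0) * w (-1)) := by simp only [f, if_pos c]
      rw [this]
      conv_lhs => rw [e]
      rw [mul_assoc, mul_assoc, fU, fW _ h0, fW _ m1]; group
    · have e := sl2_eq_of_ne c
      have : f g = x (g.1 0 0 / g.1 1 0) * (w (-(g.1 1 0)⁻¹) * x (g.1 1 1 / g.1 1 0)) := by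
        simp only [f, if_neg c]
      rw [this]
      conv_lhs => rw [e]
      rw [mul_assoc, mul_assoc, fU, fW _ (neg_ne_zero.2 (inv_ne_zero c)), fU]; group
  have gU : ∀ t, f (sU t) = x t := fun t => by rw [← mul_one (sU t), fU, f1, mul_one]
  refine ⟨MonoidHom.mk' f fm, gU, fun t => ?_⟩
  change f (sL t) = y t
  by_cases ht : t = 0
  · rw [ht, sL_zero, f1, h.y0]
  · have e : sL t = sU t⁻¹ * (sW (-t⁻¹) * sU t⁻¹) := by
      rw [sW, sU_neg]; simp [mul_assoc]
    rw [e, fU, fW _ (neg_ne_zero.2 (inv_ne_zero ht)), gU, stW, h.xn]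
    simp [mul_assoc]

theorem ww_comm [Finite k] (h : St2 x y) {t u t' u' : k} (ht : t ≠ 0) (hu : u ≠ 0) (ht' : t' ≠ 0)
    (hu' : u' ≠ 0) : Commute (w t * w u) (w t' * w u') := by
  let Γ0 : Subgroup Γ := Subgroup.closure (Set.range x ∪ Set.range y)
  have mx : ∀ r, x r ∈ Γ0 := fun r => Subgroup.subset_closure (Or.inl ⟨r, rfl⟩)
  have my : ∀ r, y r ∈ Γ0 := fun r => Subgroup.subset_closure (Or.inr ⟨r, rfl⟩)
  have mw : ∀ r, w r ∈ Γ0 := fun r => mul_mem (mul_mem (mx _) (my _)) (mx _)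
  let D : Γ → k → Prop := fun g s => g ∈ Γ0 ∧ (∀ r, g * x r = x (s * r) * g) ∧
    ∀ r, g * y r = y (s⁻¹ * r) * g
  have D1 : ∀ {t u : k}, t ≠ 0 → u ≠ 0 → D (w t * w u) ((t / u) ^ 2) := fun ht hu =>
    ⟨mul_mem (mw _) (mw _), fun r => by rw [h.wwx ht hu, div_pow],
      fun r => by rw [h.wwy ht hu, div_pow, inv_div]⟩
  have D2 : ∀ {g g' s s'}, D g s → D g' s' → D (g * g') (s * s') := by
    intro g g' s s' h1 h2
    refine ⟨mul_mem h1.1 h2.1, fun r => ?_, fun r => ?_⟩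
    · rw [mul_assoc, h2.2.1, ← mul_assoc, h1.2.1, mul_assoc, mul_assoc]
    · rw [mul_assoc, h2.2.2, ← mul_assoc, h1.2.2, mul_assoc, mul_inv, mul_assoc]
  have D3 : ∀ {g s}, D g s → ∀ n : ℕ, D (g ^ n) (s ^ n) := by
    intro g s h1 n
    induction n with
    | zero => exact ⟨by simp, by simp, by simp⟩
    | succ n ih => rw [pow_succ, pow_succ]; exact D2 ih h1
  have D4 : ∀ {g g' s}, D g s → D g' s → ∀ z ∈ Γ0, Commute (g⁻¹ * g') z := by
    intro g g' s h1 h2 z hz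
    have : Γ0 ≤ Subgroup.centralizer {g⁻¹ * g'} := by
      rw [Subgroup.closure_le]
      rintro _ (⟨r, rfl⟩ | ⟨r, rfl⟩) <;> rw [SetLike.mem_coe, Subgroup.mem_centralizer_singleton_iff]
      · rw [mul_assoc, h2.2.1, ← mul_assoc, ← mul_assoc]
        congr 1
        rw [eq_inv_mul_iff_mul_eq, ← mul_assoc, h1.2.1, mul_inv_cancel_right]
      · rw [mul_assoc, h2.2.2, ← mul_assoc, ← mul_assoc]
        congr 1
        rw [eq_inv_mul_iff_mul_eq, ← mul_assoc, h1.2.2, mul_inv_cancel_right]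
    exact (Subgroup.mem_centralizer_singleton_iff.1 (this hz)).symm
  obtain ⟨γ, hγ⟩ := IsCyclic.exists_monoid_generator (α := kˣ)
  have key : ∀ {t u : k}, t ≠ 0 → u ≠ 0 → ∃ n : ℕ, ∃ z, (∀ c ∈ Γ0, Commute z c) ∧
      w t * w u = (w γ * w 1) ^ n * z := by
    intro t u ht hu
    obtain ⟨n, hn⟩ := hγ (Units.mk0 (t / u) (div_ne_zero ht hu))
    have hn : (γ : k) ^ n = t / u := by simpa using congrArg Units.val hn
    have d1 := D3 (D1 γ.ne_zero one_ne_zero) n
    rw [div_one, ← pow_mul, mul_comm 2 n, pow_mul, hn] at d1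
    exact ⟨n, _, D4 d1 (D1 ht hu), by group⟩
  obtain ⟨n, z, hz, e⟩ := key ht hu
  obtain ⟨n', z', hz', e'⟩ := key ht' hu'
  rw [e]
  refine Commute.mul_left ?_ (hz _ (mul_mem (mw _) (mw _)))
  rw [e']
  exact Commute.mul_right (Commute.pow_pow_self _ _ _)
    (hz' _ (pow_mem (mul_mem (mw _) (mw _)) _)).symm

theorem rel_sum (h : St2 x y) {t u : k} (ht : t ≠ 0) (hu : u ≠ 0) (e : t + u = 1) :
    w t⁻¹ * w u⁻¹ = w (u / t) * w 1 := by
  have ht' := inv_ne_zero ht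
  have hu' := inv_ne_zero hu
  have a1 := h.y_eq (u := t⁻¹)
  have a2 := h.y_eq (u := u⁻¹)
  have a3 := h.y_eq (u := 1)
  have a4 := h.y_eq (u := -(u / t))
  rw [inv_inv] at a1 a2
  have s : y (-t) * y (-u) = y (-1⁻¹) := by rw [← h.ya]; congr 1; linear_combination -e
  have b1 := h.r1 t⁻¹ ht' (-t⁻¹ + -u⁻¹)
  rw [show -(-t⁻¹ + -u⁻¹) / t⁻¹ ^ 2 = -(-(u / t))⁻¹ by field_simp; linear_combination e, a4, neg_neg,
    h.wn] at b1
  have b2 := h.wwx ht' hu' (t / u)
  rw [show t⁻¹ ^ 2 / u⁻¹ ^ 2 * (t / u) = u / t by field_simp] at b2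
  rw [a1, a2, a3] at s
  have c1 : x (-t⁻¹) * x (u / t) = x (-1) := by
    rw [← h.xa]; congr 1; field_simp; linear_combination e
  have c2 : x (t / u) * x (-u⁻¹) = x (-1) := by
    rw [← h.xa]; congr 1; field_simp; linear_combination e
  have : x (-1) * ((w (u / t))⁻¹ * (w t⁻¹ * w u⁻¹)) * x (-1) = x (-1) * w 1 * x (-1) := by
    rw [← s]
    calc _ = x (-t⁻¹) * x (u / t) * (w (u / t))⁻¹ * (w t⁻¹ * w u⁻¹ * x (t / u)) * x (-u⁻¹) := by
          rw [c1, mul_assoc (x (-1) * (w (u / t))⁻¹), mul_assoc (w t⁻¹ * w u⁻¹), c2]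
          simp only [mul_assoc]
      _ = x (-t⁻¹) * (x (u / t) * (w (u / t))⁻¹ * x (u / t)) * (w t⁻¹ * w u⁻¹) * x (-u⁻¹) := by
          rw [b2]; group
      _ = _ := by rw [← b1, h.xa]; group
  have := mul_left_cancel (mul_right_cancel this)
  rw [← this]; group

theorem relC [Finite k] (h : St2 x y) (t u : k) (ht : t ≠ 0) (hu : u ≠ 0) :
    w t * w u = w (-t / u) * w (-1) := by
  classical
  haveI := Fintype.ofFinite k
  let H : k → Γ := fun t => w t * (w 1)⁻¹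
  have Hc : ∀ {t u : k}, t ≠ 0 → u ≠ 0 → Commute (H t) (H u) := fun ht hu => by
    simp only [H, ← h.wn]
    exact h.ww_comm ht (neg_ne_zero.2 one_ne_zero) hu (neg_ne_zero.2 one_ne_zero)
  have Hs : ∀ {t v : k}, t ≠ 0 → v ≠ 0 → H (t ^ 2 * v) = H (t ^ 2) * H v := by
    intro t v ht hv
    have e1 := h.ww ht (inv_ne_zero hv)
    have e2 := h.ww ht one_ne_zero
    have e3 := h.ww one_ne_zero (inv_ne_zero hv)
    rw [div_inv_eq_mul] at e1 e3
    rw [div_one] at e2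
    rw [one_pow, one_mul] at e3
    have c := h.ww_comm (inv_ne_zero hv) (neg_ne_zero.2 ht) one_ne_zero (neg_ne_zero.2 ht)
    rw [h.wn] at c
    simp only [H]
    rw [← e1, ← e2, ← e3]
    calc _ = w t * (w v⁻¹ * (w t)⁻¹ * (w 1 * (w t)⁻¹)) * w t * (w 1)⁻¹ * (w 1)⁻¹ := by group
      _ = _ := by rw [c.eq]; group
  have Hm : ∀ {t u : k}, t ≠ 0 → u ≠ 0 → H (t * u) = H t * H u := by
    intro t u ht hu
    by_cases s1 : IsSquare t
    · obtain ⟨r, rfl⟩ := s1
      rw [← sq]; exact Hs (left_ne_zero_of_mul ht) hu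
    by_cases s2 : IsSquare u
    · obtain ⟨r, rfl⟩ := s2
      rw [← sq, mul_comm, Hs (left_ne_zero_of_mul hu) ht]
      exact (Hc (pow_ne_zero 2 (left_ne_zero_of_mul hu)) ht).eq
    have nsq : ∀ {a b : k}, ¬ IsSquare a → ¬ IsSquare b → IsSquare (a * b) := by
      intro a b ha hb
      have a0 : a ≠ 0 := by rintro rfl; exact ha IsSquare.zero
      have b0 : b ≠ 0 := by rintro rfl; exact hb IsSquare.zero
      rw [← quadraticChar_one_iff_isSquare (mul_ne_zero a0 b0), map_mul,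
        quadraticChar_neg_one_iff_not_isSquare.2 ha, quadraticChar_neg_one_iff_not_isSquare.2 hb]
      norm_num
    have ns : ∀ {a s : k}, ¬ IsSquare a → s ≠ 0 → IsSquare s → ¬ IsSquare (a * s) := by
      intro a s ha hs h1 h2
      apply ha
      have := h2.mul h1.inv
      rwa [mul_inv_cancel_right₀ hs] at this
    obtain ⟨a, ha, hb⟩ : ∃ a : k, ¬ IsSquare a ∧ ¬ IsSquare (1 - a) := by
      by_contra hc
      push Not at hc
      let f : {s : k // s ≠ 0 ∧ IsSquare s} → {s : k // s ≠ 0 ∧ IsSquare s} := fun s =>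
        ⟨1 - t * s.1, fun e => ns s1 s.2.1 s.2.2 (by rw [← sub_eq_zero.1 e]; exact IsSquare.one),
          hc _ (ns s1 s.2.1 s.2.2)⟩
      have hf : Function.Injective f := fun s s' e => by
        have e := congrArg Subtype.val e
        simp only [f, sub_right_inj] at e
        exact Subtype.ext (mul_left_cancel₀ ht e)
      obtain ⟨s, hs⟩ := Finite.injective_iff_surjective.1 hf ⟨1, one_ne_zero, IsSquare.one⟩
      have e := congrArg Subtype.val hs
      simp only [f, sub_eq_self] at e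
      exact mul_ne_zero ht s.2.1 e
    have a0 : a ≠ 0 := by rintro rfl; exact ha IsSquare.zero
    have b0 : 1 - a ≠ 0 := fun e => hb (e ▸ IsSquare.zero)
    set b := 1 - a with hbd
    have r0 : H (a⁻¹ * b) = H a⁻¹ * H b := by
      have e1 := h.rel_sum a0 b0 (by rw [hbd]; ring)
      have e2 := h.ww (neg_ne_zero.2 one_ne_zero) b0
      rw [h.wn, show (-1) ^ 2 / b = b⁻¹ by field_simp] at e2
      simp only [H]
      rw [← e2] at e1
      rw [show a⁻¹ * b = b / a by field_simp]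
      calc _ = w (b / a) * w 1 * (w 1)⁻¹ * (w 1)⁻¹ := by group
        _ = _ := by rw [← e1]; group
    obtain ⟨r, hr⟩ := nsq s1 ha
    obtain ⟨s, hs⟩ := nsq s2 (fun e : IsSquare b⁻¹ => hb (by simpa using e.inv))
    have r0' : r ≠ 0 := left_ne_zero_of_mul (hr ▸ mul_ne_zero ht a0)
    have s0' : s ≠ 0 := left_ne_zero_of_mul (hs ▸ mul_ne_zero hu (inv_ne_zero b0))
    have et : t = r ^ 2 * a⁻¹ := by rw [sq, ← hr]; field_simp
    have eu : u = s ^ 2 * b := by rw [sq, ← hs]; field_simp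
    have ia := inv_ne_zero a0
    rw [et, eu, show r ^ 2 * a⁻¹ * (s ^ 2 * b) = r ^ 2 * (s ^ 2 * (a⁻¹ * b)) by ring,
      Hs r0' (mul_ne_zero (pow_ne_zero 2 s0') (mul_ne_zero ia b0)), Hs s0' (mul_ne_zero ia b0), r0,
      Hs r0' ia, Hs s0' b0, ← mul_assoc (H (s ^ 2)), (Hc (pow_ne_zero 2 s0') ia).eq]
    group
  have := Hm (div_ne_zero (neg_ne_zero.2 ht) hu) (neg_ne_zero.2 hu)
  rw [show -t / u * -u = t by field_simp] at this
  simp only [H, h.wn] at this ⊢
  calc w t * w u = (w t * (w 1)⁻¹) * w 1 * w u := by group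
    _ = _ := by rw [this]; group

end St2

end CfsgH1
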