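import Cfsg.Agent.H1.Sn1

/-! Abelian subgroups of symmetric groups. -/

set_option autoImplicit false

namespace CfsgH1.Sn

open Equiv Equiv.Perm MulAction

section
variable {α : Type*} [Fintype α] [DecidableEq α] {G : Type*} [Group G] [MulAction G α]

/-- Induction over invariant sets, one orbit at a time. -/
theorem inv_ind (P : Finset α → Prop) (h0 : P ∅)
    (hs : ∀ (S O : Finset α) (x : α), (O : Set α) = orbit G x → O ⊆ S → P (S \ O) → P S) :
    ∀ S : Finset α, (∀ (g : G), ∀ x ∈ S, g • x ∈ S) → P S := by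
  classical
  intro S
  induction S using Finset.strongInduction with
  | H S ih =>
    intro hS
    obtain rfl | ⟨x, hx⟩ := S.eq_empty_or_nonempty
    · exact h0
    have h1 : (orbit G x).toFinset ⊆ S := fun y hy => by
      obtain ⟨g, rfl⟩ := Set.mem_toFinset.1 hy
      exact hS g x hx
    refine hs S _ x (Set.coe_toFinset _) h1 (ih _ (Finset.sdiff_ssubset h1 ⟨x, by simp⟩) fun g y hy => ?_)
    rw [Finset.mem_sdiff, Set.mem_toFinset] at hy ⊢
    exact ⟨hS g y hy.1, fun h => hy.2 (by simpa using mem_orbit_of_mem_orbit g⁻¹ h)⟩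

theorem fix_step [IsMulCommutative G] [Finite G] {S O : Finset α} {x : α} (h : (O : Set α) = orbit G x) :
    (fixingSubgroup G (S : Set α)).index ≤ (fixingSubgroup G ((S \ O : Finset α) : Set α)).index * O.card := by
  rw [← Set.ncard_coe_finset, h, ← index_stabilizer]
  refine le_trans (Subgroup.index_antitone fun g hg y => ?_) Subgroup.index_inf_le
  by_cases hy : y.1 ∈ O
  · obtain ⟨k, e⟩ : y.1 ∈ orbit G x := h ▸ hy
    rw [← e, smul_smul, mul_comm', mul_smul, show g • x = x from hg.2]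
  · exact hg.1 ⟨y, by simp [hy, y.2]⟩

theorem three_part [IsMulCommutative G] [Finite G] : ∀ S : Finset α, (∀ (g : G), ∀ x ∈ S, g • x ∈ S) →
    (∀ x ∈ S, (orbit G x).ncard = 3) → ∃ a, S.card = 3 * a ∧ (fixingSubgroup G (S : Set α)).index ≤ 3 ^ a := by
  refine inv_ind _ (fun _ => ⟨0, rfl, by simp⟩) fun S O x h1 h2 ih h3 => ?_
  obtain ⟨a, h4, h5⟩ := ih fun y hy => h3 y (Finset.mem_sdiff.1 hy).1
  have h6 : O.card = 3 := by rw [← Set.ncard_coe_finset, h1, h3 x (h2 (Finset.mem_coe.1 (h1 ▸ mem_orbit_self x)))]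
  refine ⟨a + 1, by rw [← Finset.card_sdiff_add_card_eq_card h2, h4, h6]; ring, ?_⟩
  exact (fix_step h1).trans (Nat.mul_le_mul h5 h6.le)

theorem sq_le_two_pow (j : ℕ) (h : j ≠ 3) : j ^ 2 ≤ 2 ^ j := by
  rcases Nat.lt_or_ge j 4 with h1 | h1
  · interval_cases j <;> simp at h ⊢
  · induction j, h1 using Nat.le_induction with
    | base => norm_num
    | succ j h1 ih => have := ih (by omega); rw [pow_succ 2]; nlinarith

theorem other_part [IsMulCommutative G] [Finite G] : ∀ S : Finset α, (∀ (g : G), ∀ x ∈ S, g • x ∈ S) →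
    (∀ x ∈ S, (orbit G x).ncard ≠ 3) → (fixingSubgroup G (S : Set α)).index ^ 2 ≤ 2 ^ S.card := by
  refine inv_ind _ (fun _ => by simp) fun S O x h1 h2 ih h3 => ?_
  have h6 : O.card ≠ 3 := by
    rw [← Set.ncard_coe_finset, h1]; exact h3 x (h2 (Finset.mem_coe.1 (h1 ▸ mem_orbit_self x)))
  refine (Nat.pow_le_pow_left (fix_step h1) 2).trans ?_
  rw [mul_pow, ← Finset.card_sdiff_add_card_eq_card h2, pow_add]
  exact Nat.mul_le_mul (ih fun y hy => h3 y (Finset.mem_sdiff.1 hy).1) (sq_le_two_pow _ h6)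

/-- The points in orbits of length three. -/
noncomputable def thr (G : Type*) [Group G] [MulAction G α] : Finset α :=
  open Classical in Finset.univ.filter fun x => (orbit G x).ncard = 3

theorem mem_thr {x : α} : x ∈ thr G ↔ (orbit G x).ncard = 3 := by simp [thr]

theorem smul_thr (g : G) (x : α) : g • x ∈ thr G ↔ x ∈ thr G := by rw [mem_thr, mem_thr, orbit_smul]

theorem split (A : Subgroup (Perm α)) [IsMulCommutative A] : ∃ a, (thr A : Finset α).card = 3 * a ∧
    (fixingSubgroup A ((thr A : Finset α) : Set α)).index ≤ 3 ^ a ∧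
    (fixingSubgroup A (((thr A)ᶜ : Finset α) : Set α)).index ^ 2 ≤ 2 ^ (Fintype.card α - 3 * a) ∧ 3 * a ≤ Fintype.card α ∧
    Nat.card A ≤ (fixingSubgroup A ((thr A : Finset α) : Set α)).index *
      (fixingSubgroup A (((thr A)ᶜ : Finset α) : Set α)).index := by
  obtain ⟨a, h1, h2⟩ := three_part (α := α) (thr A) (fun g x => (smul_thr g x).2) fun _ => mem_thr.1
  refine ⟨a, h1, h2, ?_, h1 ▸ Finset.card_le_univ _, ?_⟩
  · rw [← h1, ← Finset.card_compl]
    exact other_part _ (fun g x => by simp [smul_thr]) fun x => by simp [mem_thr]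
  · refine le_trans (le_of_eq ?_) Subgroup.index_inf_le
    rw [← fixingSubgroup_union, ← Subgroup.index_bot]
    congr 1
    exact (eq_bot_iff.2 fun g hg => Subtype.ext (Equiv.ext fun x => hg ⟨x, by simp [em]⟩)).symm

theorem le_of_sq {h r c b : ℕ} (h1 : h ^ 2 ≤ 2 ^ (3 * b + r)) (h2 : 2 ^ r ≤ c ^ 2) : h ≤ c * 3 ^ b := by
  refine (Nat.pow_le_pow_iff_left two_ne_zero).1 (h1.trans ?_)
  rw [pow_add, pow_mul, mul_pow, mul_comm, ← pow_mul 3, mul_comm b, pow_mul]
  exact Nat.mul_le_mul h2 (Nat.pow_le_pow_left (by norm_num) _)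

theorem bound0 {k : ℕ} (hk : Fintype.card α = 3 * k) (A : Subgroup (Perm α)) [IsMulCommutative A] : Nat.card A ≤ 3 ^ k := by
  obtain ⟨a, -, h1, h2, h3, h4⟩ := split A
  obtain ⟨b, rfl⟩ : ∃ b, k = a + b := ⟨k - a, by omega⟩
  rw [show Fintype.card α - 3 * a = 3 * b + 0 by omega] at h2
  simpa [pow_add] using h4.trans (Nat.mul_le_mul h1 (le_of_sq (c := 1) h2 le_rfl))

theorem bound1 {k : ℕ} (hk : Fintype.card α = 3 * k + 4) (A : Subgroup (Perm α)) [IsMulCommutative A] :
    Nat.card A ≤ 4 * 3 ^ k := by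
  obtain ⟨a, -, h1, h2, h3, h4⟩ := split A
  refine h4.trans ?_
  rcases Nat.lt_or_ge k a with h | h
  · obtain rfl : a = k + 1 := by omega
    rw [show Fintype.card α - 3 * (k + 1) = 1 by omega] at h2
    refine (Nat.mul_le_mul h1 (show _ ≤ 1 by nlinarith)).trans ?_
    omega
  · obtain ⟨b, rfl⟩ : ∃ b, k = a + b := ⟨k - a, by omega⟩
    rw [show Fintype.card α - 3 * a = 3 * b + 4 by omega] at h2
    exact (Nat.mul_le_mul h1 (le_of_sq (c := 4) h2 le_rfl)).trans (by rw [pow_add]; ring_nf; rfl)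

theorem bound2 {k : ℕ} (hk : Fintype.card α = 3 * k + 2) (A : Subgroup (Perm α)) [IsMulCommutative A] :
    Nat.card A ≤ 2 * 3 ^ k := by
  obtain ⟨a, -, h1, h2, h3, h4⟩ := split A
  obtain ⟨b, rfl⟩ : ∃ b, k = a + b := ⟨k - a, by omega⟩
  rw [show Fintype.card α - 3 * a = 3 * b + 2 by omega] at h2
  exact h4.trans ((Nat.mul_le_mul h1 (le_of_sq (c := 2) h2 le_rfl)).trans (by rw [pow_add]; ring_nf; rfl))

theorem cube_thr [IsMulCommutative G] [Finite G] (g : G) {x : α} (hx : x ∈ thr G) : g ^ 3 • x = x := by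
  have := (stabilizer G x).pow_index_mem g
  rwa [index_stabilizer, mem_thr.1 hx] at this

theorem le_two_trivial {g : Perm α} (hg : g ∈ alternatingGroup α) (h : g.support.card ≤ 2) : g = 1 := by
  by_contra e
  have := (card_support_eq_two.1 (le_antisymm h (one_lt_card_support_of_ne_one e))).sign_eq
  rw [mem_alternatingGroup.1 hg] at this
  cases this

theorem bound2' {k : ℕ} (hk : Fintype.card α = 3 * k + 8) (A : Subgroup (Perm α)) [IsMulCommutative A]
    (hA : A ≤ alternatingGroup α) : Nat.card A ≤ 16 * 3 ^ k := by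
  obtain ⟨a, h0, h1, h2, h3, h4⟩ := split A
  rcases Nat.lt_or_ge k a with h | h
  · obtain rfl | rfl : a = k + 1 ∨ a = k + 2 := by omega
    · rw [show Fintype.card α - 3 * (k + 1) = 5 by omega] at h2
      refine h4.trans ((Nat.mul_le_mul h1 (show _ ≤ 5 by nlinarith)).trans ?_)
      omega
    · rw [← Subgroup.index_bot, ← show fixingSubgroup A ((thr A : Finset α) : Set α) = ⊥ from
        eq_bot_iff.2 fun g hg => Subtype.ext (le_two_trivial (hA g.2) ((Finset.card_le_card (t := (thr A)ᶜ)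
          fun x hx => Finset.mem_compl.2 fun e => mem_support.1 hx (hg ⟨x, e⟩)).trans (by rw [Finset.card_compl]; omega)))]
      rw [pow_add] at h1
      omega
  · obtain ⟨b, rfl⟩ : ∃ b, k = a + b := ⟨k - a, by omega⟩
    rw [show Fintype.card α - 3 * a = 3 * b + 8 by omega] at h2
    exact h4.trans ((Nat.mul_le_mul h1 (le_of_sq (c := 16) h2 le_rfl)).trans (by rw [pow_add]; ring_nf; rfl))

end

/-- There is an abelian subgroup of order `c` in degree `n`, made of even permutations if `e` holds. -/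
def Ab (e : Prop) (n c : ℕ) : Prop := ∃ A : Subgroup (Perm (Fin n)), IsMulCommutative A ∧ Nat.card A = c ∧
  (e → A ≤ alternatingGroup (Fin n))

theorem Ab.add {e : Prop} {n m c d : ℕ} (h1 : Ab e n c) (h2 : Ab e m d) : Ab e (n + m) (c * d) := by
  obtain ⟨A, _, rfl, hA⟩ := h1
  obtain ⟨B, _, rfl, hB⟩ := h2
  let φ : A × B →* Perm (Fin (n + m)) := (finSumFinEquiv.permCongrHom.toMonoidHom.comp (sumCongrHom _ _)).comp
    (A.subtype.prodMap B.subtype)
  have : Function.Injective φ := (finSumFinEquiv.permCongrHom.injective.comp sumCongrHom_injective).comp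
    (Subtype.val_injective.prodMap Subtype.val_injective)
  refine ⟨φ.range, ⟨⟨?_⟩⟩, by rw [← Nat.card_prod]; exact (Nat.card_congr (MonoidHom.ofInjective this).toEquiv).symm, ?_⟩
  · rintro ⟨_, a, rfl⟩ ⟨_, b, rfl⟩
    exact Subtype.ext (by simp only [Subgroup.coe_mul, ← map_mul, mul_comm' a])
  · rintro he _ ⟨⟨a, b⟩, rfl⟩
    simp [φ, mem_alternatingGroup, mem_alternatingGroup.1 (hA he a.2), mem_alternatingGroup.1 (hB he b.2)]

theorem Ab.three (e : Prop) : Ab e 3 3 := ⟨alternatingGroup _, by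
  have := alternatingGroup.isCyclic_of_card_le_three (α := Fin 3) (by simp)
  exact IsCyclic.isMulCommutative, by have := two_mul_card_alt (n := 3) (by norm_num); simp only [Nat.factorial] at this; omega,
  fun _ => le_rfl⟩

theorem Ab.pow (e : Prop) (k : ℕ) : Ab e (3 * k) (3 ^ k) := by
  induction k with
  | zero => exact ⟨⊥, inferInstance, by simp, fun _ => bot_le⟩
  | succ k ih => exact ih.add (Ab.three e)

theorem Ab.two : Ab False 2 2 := ⟨⊤, ⟨⟨fun a b => Subtype.ext ((by decide : ∀ a b : Perm (Fin 2), a * b = b * a) _ _)⟩⟩,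
  by rw [Subgroup.card_top, Nat.card_perm, Nat.card_fin]; rfl, False.elim⟩

theorem Ab.four (e : Prop) : Ab e 4 4 := by
  have := alternatingGroup.kleinFour_isKleinFour (α := Fin 4) (by simp)
  refine ⟨(alternatingGroup.kleinFour (Fin 4)).map (alternatingGroup _).subtype, ?_, ?_, fun _ => Subgroup.map_subtype_le _⟩
  · have := IsKleinFour.isMulCommutative (G := alternatingGroup.kleinFour (Fin 4))
    infer_instance
  · rw [Subgroup.card_subtype, this.card_four]

theorem Ab.alt {n c : ℕ} (h : Ab True n c) : ∃ A : Subgroup (alternatingGroup (Fin n)), IsMulCommutative A ∧ Nat.card A = c := by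
  obtain ⟨A, _, rfl, hA⟩ := h
  exact ⟨A.subgroupOf _, inferInstance, Nat.card_congr (Subgroup.subgroupOfEquivOfLe (hA trivial)).toEquiv⟩

end CfsgH1.Sn
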