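import Cfsg.Agent.H1.Sn1
import Cfsg.Agent.H1.Frattini
import Cfsg.Agent.H5.Sy4
import Cfsg.Agent.H8.PermModule

/-! Overgroups of Sylow 2-subgroups in symmetric and alternating groups. -/

set_option autoImplicit false

namespace CfsgH1.Sn

open Equiv Equiv.Perm MulAction CfsgH5.Sy

variable {α : Type*} [Fintype α] [DecidableEq α]

/-- The subgroup contains all double transpositions on the four points. -/
def Bl (K : Subgroup (Perm α)) (Δ : Finset α) : Prop :=
  Δ.card = 4 ∧ ∀ a ∈ Δ, ∀ b ∈ Δ, ∀ c ∈ Δ, ∀ d ∈ Δ, [a, b, c, d].Nodup → swap a b * swap c d ∈ K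

omit [Fintype α] in
theorem Bl.conj {K L : Subgroup (Perm α)} {Δ : Finset α} (h : Bl K Δ) (g : Perm α) (hg : ∀ x ∈ K, g * x * g⁻¹ ∈ L) :
    Bl L (Δ.map g.toEmbedding) := by
  refine ⟨by rw [Finset.card_map, h.1], ?_⟩
  simp only [Finset.forall_mem_map]
  intro a ha b hb c hc d hd e
  have := hg _ (h.2 a ha b hb c hc d hd (List.Nodup.of_map g e))
  simpa [swap_apply_apply, mul_assoc] using this

omit [Fintype α] in
theorem bl_cards {Δ Γ : Finset α} (h1 : Δ.card = 4) (h2 : Γ.card = 4) {j : ℕ} (h : (Δ ∩ Γ).card = j) :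
    (Δ \ Γ).card = 4 - j ∧ (Γ \ Δ).card = 4 - j := by
  have := Finset.card_sdiff_add_card_inter Δ Γ
  have := Finset.card_sdiff_add_card_inter Γ Δ
  rw [Finset.inter_comm] at this
  omega

theorem Bl.three {K : Subgroup (Perm α)} {Δ Γ : Finset α} (h1 : Bl K Δ) (h2 : Bl K Γ)
    (h : (Δ ∩ Γ).card = 1 ∨ (Δ ∩ Γ).card = 3) : ∃ c ∈ K, c.IsThreeCycle := by
  rcases h with h | h <;> obtain ⟨h3, h4⟩ := bl_cards h1.1 h2.1 h
  · obtain ⟨a, e0⟩ := Finset.card_eq_one.1 h
    obtain ⟨b, c, d, n1, n2, n3, e1⟩ := Finset.card_eq_three.1 h3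
    obtain ⟨e, f, g, m1, m2, m3, e2⟩ := Finset.card_eq_three.1 h4
    simp only [Finset.ext_iff, Finset.mem_inter, Finset.mem_sdiff, Finset.mem_insert, Finset.mem_singleton] at e0 e1 e2
    have := (e0 a).2 (by simp)
    have := (e1 b).2 (by simp)
    have := (e1 c).2 (by simp)
    have := (e1 d).2 (by simp)
    have := (e2 e).2 (by simp)
    have := (e2 f).2 (by simp)
    have := (e2 g).2 (by simp)
    clear e0 e1 e2 h h3 h4
    have x := h1.2 a (by grind) b (by grind) c (by grind) d (by grind) (by simp; grind)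
    have y := h2.2 a (by grind) e (by grind) f (by grind) g (by grind) (by simp; grind)
    have hn : [a, b, c, d, e, f, g].Nodup := by simp; grind (splits := 40)
    simp only [List.nodup_cons, List.mem_cons, List.not_mem_nil, or_false, not_or] at hn
    refine ⟨swap e b * swap e a, ?_, isThreeCycle_swap_mul_swap_same (by grind) (by grind) (by grind)⟩
    convert mul_mem (mul_mem (mul_mem x y) x) y using 1
    ext1 z
    simp only [Perm.mul_apply]
    by_cases hz : z ∈ [a, b, c, d, e, f, g] <;> simp only [List.mem_cons, List.not_mem_nil, or_false, not_or] at hz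
    · rcases hz with rfl | rfl | rfl | rfl | rfl | rfl | rfl <;> grind
    · grind
  · obtain ⟨a, b, c, n1, n2, n3, e0⟩ := Finset.card_eq_three.1 h
    obtain ⟨d, e1⟩ := Finset.card_eq_one.1 h3
    obtain ⟨e, e2⟩ := Finset.card_eq_one.1 h4
    simp only [Finset.ext_iff, Finset.mem_inter, Finset.mem_sdiff, Finset.mem_insert, Finset.mem_singleton] at e0 e1 e2
    have := (e0 a).2 (by simp)
    have := (e0 b).2 (by simp)
    have := (e0 c).2 (by simp)
    have := (e1 d).2 (by simp)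
    have := (e2 e).2 (by simp)
    clear e0 e1 e2 h h3 h4
    have x := h1.2 a (by grind) b (by grind) c (by grind) d (by grind) (by simp; grind)
    have y := h2.2 a (by grind) b (by grind) c (by grind) e (by grind) (by simp; grind)
    have hn : [a, b, c, d, e].Nodup := by simp; grind (splits := 40)
    simp only [List.nodup_cons, List.mem_cons, List.not_mem_nil, or_false, not_or] at hn
    refine ⟨swap c d * swap c e, ?_, isThreeCycle_swap_mul_swap_same (by grind) (by grind) (by grind)⟩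
    convert mul_mem x y using 1
    ext1 z
    simp only [Perm.mul_apply]
    by_cases hz : z ∈ [a, b, c, d, e] <;> simp only [List.mem_cons, List.not_mem_nil, or_false, not_or] at hz
    · rcases hz with rfl | rfl | rfl | rfl | rfl <;> grind
    · grind

omit [Fintype α] in
theorem Bl.two {K : Subgroup (Perm α)} {Δ Γ : Finset α} (h1 : Bl K Δ) (h2 : Bl K Γ) (h : (Δ ∩ Γ).card = 2) :
    ∃ c ∈ K, c ≠ 1 ∧ c ^ 3 = 1 := by
  obtain ⟨h3, h4⟩ := bl_cards h1.1 h2.1 h
  obtain ⟨c, d, n0, e0⟩ := Finset.card_eq_two.1 h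
  obtain ⟨a, b, n1, e1⟩ := Finset.card_eq_two.1 h3
  obtain ⟨e, f, n2, e2⟩ := Finset.card_eq_two.1 h4
  simp only [Finset.ext_iff, Finset.mem_inter, Finset.mem_sdiff, Finset.mem_insert, Finset.mem_singleton] at e0 e1 e2
  have := (e0 c).2 (by simp)
  have := (e0 d).2 (by simp)
  have := (e1 a).2 (by simp)
  have := (e1 b).2 (by simp)
  have := (e2 e).2 (by simp)
  have := (e2 f).2 (by simp)
  clear e0 e1 e2 h h3 h4
  have x := h1.2 a (by grind) c (by grind) b (by grind) d (by grind) (by simp; grind)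
  have y := h2.2 c (by grind) e (by grind) d (by grind) f (by grind) (by simp; grind)
  have hn : [a, b, c, d, e, f].Nodup := by simp; grind (splits := 40)
  simp only [List.nodup_cons, List.mem_cons, List.not_mem_nil, or_false, not_or] at hn
  refine ⟨_, mul_mem x y, fun h => ?_, Equiv.ext fun z => ?_⟩
  · have := Equiv.ext_iff.1 h c
    simp only [Perm.mul_apply, Perm.one_apply] at this
    grind
  · simp only [pow_succ, pow_zero, Perm.mul_apply, Perm.one_apply]
    by_cases hz : z ∈ [a, b, c, d, e, f] <;> simp only [List.mem_cons, List.not_mem_nil, or_false, not_or] at hz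
    · rcases hz with rfl | rfl | rfl | rfl | rfl | rfl <;> grind
    · grind

/-- The four-group in degree four. -/
def V0 : Subgroup (Perm (Fin 4)) where
  carrier := {g | g ^ 2 = 1 ∧ sign g = 1}
  one_mem' := by decide
  mul_mem' := fun {a b} => by simp only [Set.mem_setOf_eq]; revert a b; decide +kernel
  inv_mem' := fun {a} => by simp only [Set.mem_setOf_eq]; revert a; decide +kernel

omit [Fintype α] in
theorem via_swap {β : Type*} [DecidableEq β] (ι : β ↪ α) (i j : β) : viaEmbeddingHom ι (swap i j) = swap (ι i) (ι j) := by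
  ext x
  by_cases h : x ∈ Set.range ι
  · obtain ⟨y, rfl⟩ := h
    rw [viaEmbeddingHom_apply, viaEmbedding_apply, ι.injective.swap_apply]
  · rw [viaEmbeddingHom_apply, viaEmbedding_apply_of_notMem _ _ _ h, swap_apply_of_ne_of_ne] <;>
      exact fun e => h ⟨_, e.symm⟩

theorem exists_bl (h : 4 ≤ Fintype.card α) : ∃ (V : Subgroup (Perm α)) (Δ : Finset α),
    IsPGroup 2 V ∧ V ≤ alternatingGroup α ∧ Bl V Δ := by
  obtain ⟨ι⟩ : Nonempty (Fin 4 ↪ α) := Function.Embedding.nonempty_of_card_le (by simpa)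
  refine ⟨V0.map (viaEmbeddingHom ι), Finset.univ.map ι, IsPGroup.map (H := V0) (fun g => ⟨1, Subtype.ext g.2.1⟩) _,
    (Subgroup.map_mono (K := V0) fun g hg => hg.2).trans (map_alt_le _), by simp, ?_⟩
  simp only [Finset.forall_mem_map]
  intro a _ b _ c _ d _ e
  refine ⟨swap a b * swap c d, ?_, by rw [map_mul, via_swap, via_swap]⟩
  have := List.Nodup.of_map ι (l := [a, b, c, d]) e
  exact (by decide +kernel : ∀ a b c d : Fin 4, [a, b, c, d].Nodup →
    (swap a b * swap c d) ^ 2 = 1 ∧ sign (swap a b * swap c d) = 1) a b c d this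

theorem jordan4 {R K : Subgroup (Perm α)} (hR : IsPGroup 2 R) (hK : R ≤ K) {ω : α} (h1 : ∀ r ∈ R, r ω = ω)
    (h2 : ∀ x y, x ≠ ω → y ≠ ω → ∃ r ∈ R, r x = y) {Δ : Finset α} (h3 : Bl R Δ) {g : Perm α} (hg : g ∈ K) (h4 : g ω ≠ ω) :
    alternatingGroup α ≤ K := by
  have t1 : ∀ x, ∃ k ∈ K, k x = ω := fun x => by
    by_cases e : x = ω
    · exact ⟨1, one_mem _, e⟩
    obtain ⟨r, hr, e⟩ := h2 x (g⁻¹ ω) e fun e => h4 (Perm.inv_eq_iff_eq.1 e).symm
    exact ⟨g * r, mul_mem hg (hK hr), by simp [e]⟩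
  have t2 : IsMultiplyPretransitive K α 2 := is_two_pretransitive_iff.2 fun {a b c d} e1 e2 => by
    obtain ⟨u, hu, rfl⟩ := t1 a
    obtain ⟨v, hv, e⟩ := t1 c
    obtain ⟨r, hr, e3⟩ := h2 (u b) (v d) (by simpa using e1.symm) (by rw [← e]; simpa using e2.symm)
    exact ⟨⟨v⁻¹ * r * u, mul_mem (mul_mem (inv_mem hv) (hK hr)) hu⟩,
      by simp [Subgroup.mk_smul, h1 r hr, Equiv.symm_apply_eq, e], by simp [Subgroup.mk_smul, e3]⟩
  suffices ∃ c ∈ K, c.IsThreeCycle from this.elim fun c hc =>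
    alternatingGroup_le_of_isPreprimitive_of_isThreeCycle_mem (isPreprimitive_of_is_two_pretransitive t2) hc.2 hc.1
  by_contra hn
  have up : ∀ {Γ}, Bl R Γ → Bl K Γ := fun h => ⟨h.1, fun a ha b hb c hc d hd e => hK (h.2 a ha b hb c hc d hd e)⟩
  have hω : ∀ {Γ}, Bl R Γ → ω ∉ Γ := fun {Γ} h e => by
    obtain ⟨b, c, d, n1, n2, n3, e1⟩ := Finset.card_eq_three.1 (show (Γ.erase ω).card = 3 by rw [Finset.card_erase_of_mem e, h.1])
    simp only [Finset.ext_iff, Finset.mem_erase, Finset.mem_insert, Finset.mem_singleton] at e1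
    have := (e1 b).2 (by simp)
    have := (e1 c).2 (by simp)
    have := (e1 d).2 (by simp)
    have := h1 _ (h.2 ω e b (by grind) c (by grind) d (by grind) (by simp; grind))
    simp only [Perm.mul_apply] at this
    grind
  obtain ⟨t, ht⟩ := Finset.card_pos.1 (h3.1.symm ▸ (by norm_num) : 0 < Δ.card)
  obtain ⟨k, hk, e⟩ := t1 t
  have hB := (up h3).conj k fun x hx => mul_mem (mul_mem hk hx) (inv_mem hk)
  have hB1 : ω ∈ Δ.map k.toEmbedding := Finset.mem_map.2 ⟨t, ht, e⟩
  generalize Δ.map k.toEmbedding = B at hB hB1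
  have cards : ∀ {X Y : Finset α}, Bl K X → Bl K Y → (X ∩ Y).Nonempty → (∃ x ∈ X, x ∉ Y) → (X ∩ Y).card = 2 :=
    fun {X Y} a b c ⟨x, d1, d2⟩ => by
      have := Finset.card_pos.2 c
      have := Finset.card_lt_card (show X ∩ Y ⊂ X from ⟨Finset.inter_subset_left, fun h => d2 (Finset.mem_inter.1 (h d1)).2⟩)
      have := mt (a.three b) hn
      have := a.1
      omega
  have blk : ∀ x ∈ B.erase ω, ∃ Γ, Bl R Γ ∧ x ∈ Γ ∧ (B.erase ω ∩ Γ).card = 2 := fun x hx => by
    obtain ⟨r, hr, e⟩ := h2 t x (fun e => hω h3 (e ▸ ht)) (Finset.ne_of_mem_erase hx)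
    have := h3.conj r fun x hx => mul_mem (mul_mem hr hx) (inv_mem hr)
    have h5 : x ∈ Δ.map r.toEmbedding := Finset.mem_map.2 ⟨t, ht, e⟩
    refine ⟨_, this, h5, ?_⟩
    rw [Finset.erase_inter, Finset.erase_eq_of_notMem fun h => hω this (Finset.mem_inter.1 h).2]
    exact cards hB (up this) ⟨x, Finset.mem_inter.2 ⟨Finset.mem_of_mem_erase hx, h5⟩⟩ ⟨ω, hB1, hω this⟩
  have hT : (B.erase ω).card = 3 := by rw [Finset.card_erase_of_mem hB1, hB.1]
  generalize B.erase ω = T at blk hT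
  obtain ⟨a, ha⟩ := Finset.card_pos.1 (hT.symm ▸ (by norm_num) : 0 < T.card)
  obtain ⟨X, x1, -, x3⟩ := blk a ha
  obtain ⟨c, hc, c1⟩ := Finset.exists_mem_notMem_of_card_lt_card (show (T ∩ X).card < T.card by omega)
  obtain ⟨Y, y1, y2, y3⟩ := blk c hc
  obtain ⟨w, hw⟩ : (T ∩ Y ∩ (T ∩ X)).Nonempty := Finset.card_pos.1 (by
    have := Finset.card_union_add_card_inter (T ∩ Y) (T ∩ X)
    have := Finset.card_le_card (Finset.union_subset (Finset.inter_subset_left (s₁ := T) (s₂ := Y))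
      (Finset.inter_subset_left (s₂ := X)))
    omega)
  obtain ⟨z, z1, z2, z3⟩ := y1.two x1 (cards (up y1) (up x1) ⟨w, by simp at hw ⊢; tauto⟩ ⟨c, y2, by simpa [hc] using c1⟩)
  obtain ⟨j, hj⟩ := hR ⟨z, z1⟩
  exact z2 ((pow_eq_one_iff_of_coprime (Nat.Coprime.pow_right j (by norm_num))).1 ⟨z3, congrArg Subtype.val hj⟩)

theorem exists_fpf {m : ℕ} (h : Fintype.card α = 2 * m) (hm : 0 < m) {R : Subgroup (Perm α)} (hR : IsPGroup 2 R) :
    ∃ z : Perm α, (∀ x, z x ≠ x) ∧ (∀ x, z (z x) = x) ∧ ∀ r ∈ R, r * z = z * r := by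
  obtain ⟨z, hz⟩ := (exists_with_cycleType_iff α (m := Multiset.replicate m 2)).2
    ⟨by simp [h, mul_comm], fun a ha => (Multiset.eq_of_mem_replicate ha).ge⟩
  have h1 : z ^ 2 = 1 := by
    rw [← orderOf_dvd_iff_pow_eq_one, ← lcm_cycleType, hz, Multiset.lcm_dvd]
    exact fun a ha => (Multiset.eq_of_mem_replicate ha).dvd
  have h2 : z.support = Finset.univ := Finset.eq_univ_of_card _ (by rw [← sum_cycleType, hz]; simp [h, mul_comm])
  have h3 : Nat.card (Subgroup.centralizer {z}) = 2 ^ m * m.factorial := by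
    rw [nat_card_centralizer, hz]; simp [h, mul_comm, Multiset.toFinset_replicate, hm.ne']
  obtain ⟨S⟩ : Nonempty (Sylow 2 (Subgroup.centralizer {z})) := inferInstance
  obtain ⟨Q, hQ⟩ := hR.exists_le_sylow
  obtain ⟨g, rfl⟩ := exists_smul_eq (Perm α) (Sylow.ofCard ((S : Subgroup (Subgroup.centralizer {z})).map (Subgroup.centralizer {z}).subtype) (by
    rw [Subgroup.card_subtype, S.card_eq_multiplicity, h3, Nat.card_perm, Nat.card_eq_fintype_card, h,
      Nat.factorization_factorial_mul Nat.prime_two, Nat.factorization_mul (by positivity) m.factorial_ne_zero]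
    simp [add_comm, Nat.prime_two.factorization_self])) Q
  refine ⟨g * z * g⁻¹, fun x e => mem_support.1 (h2 ▸ Finset.mem_univ (g⁻¹ x)) (Perm.eq_inv_iff_eq.2 e),
    fun x => by simpa [sq, Equiv.eq_symm_apply] using Equiv.ext_iff.1 h1 (g⁻¹ x), fun r hr => ?_⟩
  obtain ⟨_, ⟨y, -, rfl⟩, rfl⟩ := hQ hr
  simpa [mul_assoc] using congrArg (· * g⁻¹) (Subgroup.mem_centralizer_singleton_iff.1 y.2)

theorem exists_pairs {m : ℕ} (h : Fintype.card α = 2 * m) (hm : 0 < m) {R : Subgroup (Perm α)} (hR : IsPGroup 2 R) :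
    ∃ (f : α → Finset α), R ≤ Wf f ∧ ∀ x, Nat.card {y // f y = f x} = 2 := by
  obtain ⟨z, h1, h2, h3⟩ := exists_fpf h hm hR
  have e : ∀ x y, ({x, z x} : Finset α) = {y, z y} ↔ x = y ∨ x = z y := fun x y =>
    ⟨fun h => by simpa using (h ▸ Finset.mem_insert_self _ _ : x ∈ ({y, z y} : Finset α)), by
      rintro (rfl | rfl)
      · rfl
      · rw [h2, Finset.pair_comm]⟩
  refine ⟨fun x => {x, z x}, fun r hr x y => ?_, fun x => ?_⟩
  · have : z (r y) = r (z y) := (Equiv.ext_iff.1 (h3 r hr) y).symm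
    exact (e x y).trans (Iff.trans (by simp [this]) (e _ _).symm)
  · exact (Nat.card_congr (Equiv.subtypeEquivRight fun y => by simp [e])).trans (Set.ncard_pair (h1 x).symm)

theorem alt_le_pairs {f : α → Finset α} (hf : ∀ x, Nat.card {y // f y = f x} = 2) (h4 : 4 < Fintype.card α)
    {K : Subgroup (Perm α)} (hK : Wf f ⊓ alternatingGroup α ≤ K) {c : Perm α} (hc : c.IsThreeCycle) (hcK : c ∈ K) :
    alternatingGroup α ≤ K := by
  classical
  obtain ⟨x, hx⟩ := Finset.card_pos.1 (hc.card_support.symm ▸ (by norm_num) : 0 < c.support.card)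
  obtain ⟨y, hy⟩ : ∃ y, f y ≠ f (c y) := by
    by_contra! e
    have := Set.ncard_le_ncard (s := c.support) (t := {y | f y = f x}) fun y hy => by
      rw [hc.support_eq_iff_mem_support.2 hx] at hy
      simp only [Finset.coe_insert, Finset.coe_singleton, Set.mem_insert_iff, Set.mem_singleton_iff] at hy
      rcases hy with rfl | rfl | rfl <;> simp [← e]
    rw [Set.ncard_coe_finset, hc.card_support] at this
    exact absurd (this.trans (hf x).le) (by norm_num)
  refine alt_le_of_three (Set.rangeFactorization f) 2 le_rfl ?_ h4 K (fun g hg => hK ⟨fun x y => ?_, hg.2⟩) c hc hcK y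
    fun e => hy (congrArg Subtype.val e)
  · rintro ⟨_, x, rfl⟩
    exact (Nat.card_congr (Equiv.subtypeEquivRight fun y => Subtype.ext_iff)).trans (hf x)
  · simpa only [Subtype.ext_iff, Set.rangeFactorization_coe] using hg.1 x y

theorem alt_not_W {β : Type*} (h4 : 4 ≤ Fintype.card α) {f : α → β} {u v w : α} (h1 : u ≠ v) (h2 : f u = f v) (h3 : f u ≠ f w) :
    ¬ alternatingGroup α ≤ Wf f := fun h => by
  have : u ≠ w := fun e => h3 (e ▸ rfl)
  obtain ⟨g, hg, e⟩ := alt_ext (T := {u, v}) (by have := Finset.card_le_two (a := u) (b := v); omega) (swap v w)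
  have h4 := (h hg u v).1 h2
  rw [e u (by simp), e v (by simp), swap_apply_of_ne_of_ne h1 this, swap_apply_left] at h4
  exact h3 h4

theorem same_side (p : α → Prop) (T : Finset α) {k : ℕ} (h : 2 * k < T.card) :
    ∃ S ⊆ T, S.card = k + 1 ∧ ∀ x ∈ S, ∀ y ∈ S, p x = p y := by
  classical
  have := Finset.card_filter_add_card_filter_not (s := T) p
  rcases (show k + 1 ≤ (T.filter p).card ∨ k + 1 ≤ (T.filter fun x => ¬ p x).card by omega) with h | h <;>
    obtain ⟨S, h1, h2⟩ := Finset.exists_subset_card_eq h <;>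
    exact ⟨S, h1.trans (Finset.filter_subset _ _), h2, fun x hx y hy => by
      simp [(Finset.mem_filter.1 (h1 hx)).2, (Finset.mem_filter.1 (h1 hy)).2]⟩

theorem exists_halves (h : 1 < Fintype.card α) {R : Subgroup (Perm α)} (hR : IsPGroup 2 R) :
    ∃ p : α → Prop, R ≤ Wf p ∧ ∃ x y, p x ≠ p y := by
  obtain ⟨x, y, hxy⟩ := Fintype.exists_pair_of_one_lt_card h
  by_cases ht : ∀ y, y ∈ orbit R x
  · obtain ⟨a, ha⟩ := ht y
    obtain ⟨M, hM, h1⟩ := (eq_top_or_exists_le_coatom (stabilizer R x)).resolve_left fun e =>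
      hxy ((e ▸ Subgroup.mem_top a : a ∈ stabilizer R x).symm.trans ha)
    have h2 := index_eq_of_isCoatom_of_isPGroup hR hM
    have h3 : ∀ a : R, a • x ∈ orbit M x ↔ a ∈ M := fun a => ⟨fun ⟨b, e⟩ => by
      simpa using M.mul_mem b.2 (h1 (show ((b : R)⁻¹ * a) • x = x by rw [mul_smul, inv_smul_eq_iff]; exact e.symm)), fun h => ⟨⟨a, h⟩, rfl⟩⟩
    obtain ⟨b, hb⟩ : ∃ b, b ∉ M := by by_contra! e; exact hM.1 (eq_top_iff.2 fun b _ => e b)
    refine ⟨(· ∈ orbit M x), fun r hr u v => ?_, x, b • x, by simp [h3, hb]⟩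
    obtain ⟨c, rfl⟩ := ht u
    obtain ⟨d, rfl⟩ := ht v
    have e : ∀ c : R, r (c • x) = ((⟨r, hr⟩ : R) * c) • x := fun _ => rfl
    simp only [e, h3, Subgroup.mul_mem_iff_of_index_two h2, eq_iff_iff]
    tauto
  · push Not at ht
    obtain ⟨y, hy⟩ := ht
    have e : ∀ r ∈ R, ∀ u, r u ∈ orbit R x ↔ u ∈ orbit R x := fun r hr u =>
      ⟨fun h => by simpa [Subgroup.smul_def] using mem_orbit_of_mem_orbit (⟨r, hr⟩ : R)⁻¹ h, mem_orbit_of_mem_orbit (⟨r, hr⟩ : R)⟩
    exact ⟨(· ∈ orbit R x), fun r hr u v => by simp only [e r hr], x, y, by simp [hy]⟩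

section
variable {G : Type*} [Group G] [Finite G] [MulAction G α] [FaithfulSMul G α]

theorem top_of_alt (h : 1 < Fintype.card α) (R : Sylow 2 G) {K : Subgroup G} (hK : R ≤ K)
    (hA : alternatingGroup α ≤ K.map (toPermHom G α)) : K = ⊤ := by
  have := Fintype.one_lt_card_iff_nontrivial.1 h
  have h1 := Subgroup.card_dvd_of_injective (toPermHom G α) toPerm_injective
  obtain ⟨c, hc⟩ := Subgroup.card_dvd_of_le hA
  rw [Subgroup.card_map_of_injective toPerm_injective] at hc
  rw [← two_mul_nat_card_alternatingGroup, ← K.index_mul_card, hc, mul_comm _ c, ← mul_assoc] at h1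
  have h2 := (Dvd.intro _ rfl).trans (Nat.dvd_of_mul_dvd_mul_right Nat.card_pos h1)
  exact Subgroup.index_eq_one.1 ((Nat.prime_two.eq_one_or_self_of_dvd _ h2).resolve_right fun e =>
    R.not_dvd_index (e.symm.dvd.trans (Subgroup.index_dvd_of_le hK)))

theorem uniq_max (h5 : 5 ≤ Fintype.card α) (hA : alternatingGroup α ≤ (toPermHom G α).range) (R : Sylow 2 G) :
    (∃! M : Subgroup G, IsCoatom M ∧ (R : Subgroup G) ≤ M) ↔ ∃ k : ℕ, 2 ≤ k ∧ Fintype.card α = 2 ^ k + 1 := by
  classical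
  let φ := toPermHom G α
  have hR : IsPGroup 2 ((R : Subgroup G).map φ) := R.2.map _
  have lift : ∀ {T : Finset α}, T.card ≤ 2 → ∀ σ : Perm α, ∃ g : G, ∀ x ∈ T, g • x = σ x := fun {T} h σ => by
    obtain ⟨_, h1, h2⟩ := alt_ext (T := T) (by omega) σ
    obtain ⟨g, rfl⟩ := hA h1
    exact ⟨g, h2⟩
  have fix : ¬ 2 ∣ Fintype.card α → ∃ ω : α, (R : Subgroup G) ≤ stabilizer G ω := fun h => by
    obtain ⟨ω, h⟩ := R.2.nonempty_fixed_point_of_prime_not_dvd_card α (by rwa [Nat.card_eq_fintype_card])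
    exact ⟨ω, fun g hg => h ⟨g, hg⟩⟩
  have nt : ∀ ω : α, stabilizer G ω ≠ ⊤ := fun ω e => by
    obtain ⟨y, hy⟩ := Fintype.exists_ne_of_one_lt_card (by omega) ω
    obtain ⟨g, hg⟩ := lift (T := {ω}) (by simp) (swap ω y)
    exact hy ((by simpa using hg : g • ω = y).symm.trans (e ▸ Subgroup.mem_top g : g ∈ stabilizer G ω))
  have nW : ∀ {W : Subgroup (Perm α)}, ¬ alternatingGroup α ≤ W → W.comap φ ≠ ⊤ := fun {W} h e => h fun x hx => by
    obtain ⟨g, rfl⟩ := hA hx
    exact (e ▸ Subgroup.mem_top g : g ∈ W.comap φ)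
  constructor
  · rintro ⟨M, hM, hu⟩
    have le : ∀ H : Subgroup G, H ≠ ⊤ → R ≤ H → H ≤ M := fun H h1 h2 => by
      obtain ⟨N, h3, h4⟩ := (eq_top_or_exists_le_coatom H).resolve_left h1
      exact hu N ⟨h3, h2.trans h4⟩ ▸ h4
    have le' : ∀ {W : Subgroup (Perm α)}, ¬ alternatingGroup α ≤ W → (R : Subgroup G).map φ ≤ W →
        W ⊓ alternatingGroup α ≤ M.map φ := fun h1 h2 x hx => by
      obtain ⟨g, rfl⟩ := hA hx.2
      exact ⟨g, le _ (nW h1) (Subgroup.map_le_iff_le_comap.1 h2) hx.1, rfl⟩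
    have side : ∀ {p : α → Prop} {x y}, p x ≠ p y → ¬ alternatingGroup α ≤ Wf p := fun {p x y} h => by
      obtain ⟨S, -, h1, h2⟩ := same_side p Finset.univ (k := 1) (by simp; omega)
      obtain ⟨u, v, h3, rfl⟩ := Finset.card_eq_two.1 h1
      by_cases e : p u = p x
      · exact alt_not_W (by omega) h3 (h2 u (by simp) v (by simp)) (e ▸ h)
      · exact alt_not_W (by omega) h3 (h2 u (by simp) v (by simp)) e
    have swp : ∀ {p : α → Prop} {a b}, p a = p b → ∀ x, p (swap a b x) = p x := fun h x => by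
      rw [swap_apply_def]; split_ifs <;> simp [*]
    by_cases h2 : 2 ∣ Fintype.card α
    · exfalso
      obtain ⟨m, hm⟩ := h2
      obtain ⟨f, h3, h4⟩ := exists_pairs hm (by omega) hR
      obtain ⟨p, h6, x, y, h7⟩ := exists_halves (by omega) hR
      obtain ⟨S, -, h1, h2⟩ := same_side p Finset.univ (k := 2) (by simp; omega)
      obtain ⟨a, b, c, n1, n2, n3, rfl⟩ := Finset.card_eq_three.1 h1
      have h8 := isThreeCycle_swap_mul_swap_same n1 n2 n3
      refine hM.1.1 (top_of_alt (by omega) R hM.2 (alt_le_pairs h4 (by omega) (le' (fun h => ?_) h3) h8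
        (le' (side h7) h6 ⟨fun u v => ?_, h8.mem_alternatingGroup⟩)))
      · obtain ⟨u, v, h9, -⟩ := Nat.card_eq_two_iff.1 (h4 x)
        obtain ⟨w, hw⟩ : ∃ w, f u ≠ f w := by
          by_contra! e
          have := (Nat.card_congr (Equiv.subtypeUnivEquiv fun y => (e y).symm.trans u.2)).symm.trans (h4 x)
          rw [Nat.card_eq_fintype_card] at this
          omega
        exact alt_not_W (by omega) (Subtype.val_injective.ne h9) (u.2.trans v.2.symm) hw h
      · simp only [Perm.mul_apply, swp (h2 a (by simp) b (by simp)), swp (h2 a (by simp) c (by simp))]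
    · obtain ⟨ω, h3⟩ := fix h2
      obtain ⟨x, hx⟩ := Fintype.exists_ne_of_one_lt_card (by omega) ω
      have h4 : ω ∉ orbit (R : Subgroup G) x := fun ⟨r, e⟩ => hx ((eq_inv_smul_iff.2 e).trans (h3 r⁻¹.2))
      by_cases h6 : ∀ y, y ≠ ω → y ∈ orbit (R : Subgroup G) x
      · obtain ⟨k, hk⟩ := R.2.card_orbit x
        have h7 : orbit (R : Subgroup G) x = {ω}ᶜ := Set.ext fun y => ⟨fun h e => h4 (e ▸ h), h6 y⟩
        rw [h7, Nat.card_coe_set_eq, Set.ncard_compl, Set.ncard_singleton, Nat.card_eq_fintype_card] at hk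
        refine ⟨k, not_lt.1 fun h => ?_, by omega⟩
        interval_cases k <;> omega
      exfalso
      push Not at h6
      obtain ⟨y, h6, h7⟩ := h6
      have e : ∀ r : (R : Subgroup G), ∀ u, r • u ∈ orbit (R : Subgroup G) x ↔ u ∈ orbit (R : Subgroup G) x := fun r u =>
        ⟨fun h => by simpa using mem_orbit_of_mem_orbit r⁻¹ h, mem_orbit_of_mem_orbit r⟩
      obtain ⟨S, h8, h9, h10⟩ := same_side (· ∈ orbit (R : Subgroup G) x) ({ω, y}ᶜ) (k := 1) (by
        rw [Finset.card_compl, Finset.card_pair h6.symm]; omega)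
      obtain ⟨u, v, h11, rfl⟩ := Finset.card_eq_two.1 h9
      obtain ⟨g, hg, e1⟩ := le' (W := Wf (· ∈ orbit (R : Subgroup G) x)) (side (x := x) (y := ω) (by simp [h4])) (by
        rintro _ ⟨r, hr, rfl⟩ a b
        exact (congrArg₂ (· = ·) (propext (e ⟨r, hr⟩ a)) (propext (e ⟨r, hr⟩ b))).symm.to_iff) (x := swap ω y * swap u v)
        ⟨fun a b => by simp only [Perm.mul_apply, swp (h10 u (by simp) v (by simp)),
          swp (p := (· ∈ orbit (R : Subgroup G) x)) (a := ω) (b := y) (by simp [h4, h7])], by simp [mem_alternatingGroup, h6.symm, h11]⟩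
      have : IsMultiplyPretransitive G α 2 := is_two_pretransitive_iff.2 fun {a b c d} e1 e2 => by
        obtain ⟨σ, hσ⟩ := Perm.exists_extending_pair (f := ![a, b]) (g := ![c, d])
          (fun i j => by fin_cases i <;> fin_cases j <;> simp <;> grind) (fun i j => by fin_cases i <;> fin_cases j <;> simp <;> grind)
        obtain ⟨g, hg⟩ := lift (T := {a, b}) Finset.card_le_two σ
        exact ⟨g, (hg a (by simp)).trans (hσ 0), (hg b (by simp)).trans (hσ 1)⟩
      have := isPreprimitive_of_is_two_pretransitive this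
      have : Nontrivial α := ⟨x, ω, hx⟩
      rw [hu _ ⟨IsPreprimitive.isCoatom_stabilizer_of_isPreprimitive G ω, h3⟩ |>.symm] at hg
      have h12 := h8 (Finset.mem_insert_self _ _)
      have h13 := h8 (Finset.mem_insert_of_mem (Finset.mem_singleton_self _))
      simp only [Finset.mem_compl, Finset.mem_insert, Finset.mem_singleton, not_or] at h12 h13
      have h14 := (Equiv.ext_iff.1 e1 ω).symm.trans hg
      rw [Perm.mul_apply, swap_apply_of_ne_of_ne (Ne.symm h12.1) (Ne.symm h13.1), swap_apply_left] at h14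
      exact h6 h14
  · rintro ⟨k, hk, h⟩
    obtain ⟨ω, h3⟩ := fix (by rw [h, Nat.dvd_add_right (dvd_pow_self 2 (by omega))]; norm_num)
    have : IsPretransitive (stabilizer G ω) (SubMulAction.ofStabilizer G ω) := ⟨fun x y => by
      obtain ⟨g, hg⟩ := lift (T := {ω, x.1}) Finset.card_le_two (swap x y)
      exact ⟨⟨g, (hg ω (by simp)).trans (swap_apply_of_ne_of_ne (Ne.symm x.2) (Ne.symm y.2))⟩,
        Subtype.ext ((hg x (by simp)).trans (swap_apply_left _ _))⟩⟩
    have h4 := CfsgH8.sylow_transitive_of_prime_pow_degree (α := SubMulAction.ofStabilizer G ω) (f := k)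
      (by rw [SubMulAction.nat_card_ofStabilizer_eq, Nat.card_eq_fintype_card, h]; rfl) (R.subtype h3)
    obtain ⟨V, Δ, h6, h7, h8⟩ := exists_bl (α := α) (by omega)
    obtain ⟨Q, hQ⟩ := (h6.comap_of_injective φ toPerm_injective).exists_le_sylow
    obtain ⟨c, rfl⟩ := exists_smul_eq G Q R
    have h9 : Bl (((c • Q : Sylow 2 G) : Subgroup G).map φ) _ := h8.conj (φ c) fun x hx => by
      obtain ⟨g, rfl⟩ := hA (h7 hx)
      exact ⟨c * g * c⁻¹, ⟨g, hQ hx, rfl⟩, by simp only [map_mul, map_inv, φ]⟩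
    have key : ∀ K : Subgroup G, (c • Q : Sylow 2 G) ≤ K → K ≠ ⊤ → K ≤ stabilizer G ω := fun K h1 h2 g hg => by
      by_contra e
      refine h2 (top_of_alt (by omega) _ h1 (jordan4 hR (Subgroup.map_mono h1) (ω := ω) ?_ (fun x y hx hy => ?_) h9 ⟨g, hg, rfl⟩ e))
      · rintro _ ⟨r, hr, rfl⟩
        exact h3 hr
      · obtain ⟨r, hr⟩ := h4.exists_smul_eq ⟨x, hx⟩ ⟨y, hy⟩
        exact ⟨_, ⟨r.1.1, r.2, rfl⟩, congrArg Subtype.val hr⟩
    exact ⟨_, ⟨⟨nt ω, fun K hK => by_contra fun e => hK.not_ge (key K (h3.trans hK.le) e)⟩, h3⟩,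
      fun M hM => (hM.1.le_iff.1 (key M hM.2 hM.1.1)).resolve_left (nt ω) |>.symm⟩

end

end CfsgH1.Sn
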