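import Cfsg.Agent.S4014
import Cfsg.Agent.H5.Sy2

/-! Small Sylow subgroups and automorphisms of alternating groups. -/

set_option autoImplicit false

namespace CfsgH1.Sn

open Equiv Equiv.Perm MulAction CfsgH5.Sy

variable {α : Type*} [Fintype α] [DecidableEq α]

omit [DecidableEq α] in
theorem ab_of_lt {p : ℕ} [Fact p.Prime] {G : Type} [Group G] [Finite G] [MulAction G α] [FaithfulSMul G α]
    (hG : IsPGroup p G) (h : Fintype.card α < p ^ 2) (a b : G) : a * b = b * a :=
  commutatorElement_eq_one_iff_mul_comm.1 (FaithfulSMul.eq_of_smul_eq_smul fun x : α => by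
    refine (Cfsg.Agent.S4014.upper 1 G hG (stabilizer G x) ?_ (Subgroup.commutator_mem_commutator
      (Subgroup.mem_top a) (Subgroup.mem_top b))).trans (one_smul _ _).symm
    rw [index_stabilizer]
    exact lt_of_le_of_lt (by simpa using Set.ncard_le_card (orbit G x)) h)

theorem alt_conj {x y : alternatingGroup α} (h : IsConj x.1 y.1) {t : Perm α} (ht : sign t = -1) (hc : t * x = x * t) :
    IsConj x y := by
  obtain ⟨σ, hσ⟩ := isConj_iff.1 h
  rcases Int.units_eq_one_or (sign σ) with e | e
  · exact isConj_iff.2 ⟨⟨σ, e⟩, Subtype.ext hσ⟩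
  · refine isConj_iff.2 ⟨⟨σ * t, by simp [mem_alternatingGroup, e, ht]⟩, Subtype.ext ?_⟩
    show σ * t * x.1 * (σ * t)⁻¹ = _
    rw [mul_assoc σ, hc, ← mul_assoc, mul_inv_rev, ← mul_assoc, mul_inv_cancel_right]
    exact hσ

theorem conj33 {x y : alternatingGroup (Fin 6)} (hx : x.1.cycleType = {3, 3}) (hy : y.1.cycleType = {3, 3}) : IsConj x y := by
  let z : alternatingGroup (Fin 6) := ⟨swap 0 1 * swap 1 2 * (swap 3 4 * swap 4 5), mem_alternatingGroup.2 (by decide)⟩
  have hz : z.1.cycleType = {3, 3} := by decide +kernel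
  have h : ∀ x : alternatingGroup (Fin 6), x.1.cycleType = {3, 3} → IsConj z x := fun x hx =>
    alt_conj (isConj_iff_cycleType_eq.2 (hz.trans hx.symm)) (t := swap 0 3 * swap 1 4 * swap 2 5) (by decide) (by decide)
  exact (h x hx).symm.trans (h y hy)

theorem aut_pow_four {n : ℕ} (hn : 5 ≤ n) (φ : MulAut (alternatingGroup (Fin n))) : ∃ a, φ ^ 4 = MulAut.conj a := by
  have key : ∀ t : alternatingGroup (Fin n), IsThreeCycle t.1 → IsThreeCycle ((φ ^ 2) t).1 := fun t ht => by
    by_cases h6 : n = 6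
    · subst h6
      have ty : ∀ (ψ : MulAut (alternatingGroup (Fin 6))) (s : alternatingGroup (Fin 6)), IsThreeCycle s.1 →
          IsThreeCycle (ψ s).1 ∨ (ψ s).1.cycleType = {3, 3} := fun ψ s hs => by
        have ho : orderOf (ψ s).1 = 3 := by rw [Subgroup.orderOf_coe, ψ.orderOf_eq, ← Subgroup.orderOf_coe, hs.orderOf]
        obtain ⟨k, hk⟩ := cycleType_prime_order (σ := (ψ s).1) (by rw [ho]; exact Nat.prime_three)
        have h1 := sum_cycleType_le (ψ s).1
        rw [ho] at hk
        rw [hk, Multiset.sum_replicate, Fintype.card_fin, smul_eq_mul] at h1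
        obtain rfl | rfl : k = 0 ∨ k = 1 := by omega
        exacts [Or.inl hk, Or.inr hk]
      refine (ty _ t ht).elim id fun h2 => (ty φ t ht).elim (fun h1 => ?_) fun h1 => ?_
      · have := φ.toMonoidHom.map_isConj (alternatingGroup.isThreeCycle_isConj (by simp) ht h1)
        exact (isConj_iff_cycleType_eq.1 ((alternatingGroup _).subtype.map_isConj this)).symm.trans h1
      · have := φ.symm.toMonoidHom.map_isConj (conj33 h1 h2)
        have := isConj_iff_cycleType_eq.1 ((alternatingGroup _).subtype.map_isConj this)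
        simp only [sq, MulEquiv.coe_toMonoidHom, MulAut.mul_apply, MulEquiv.symm_apply_apply, Subgroup.coe_subtype] at this
        rw [h1, ht.cycleType] at this
        exact absurd this (by decide)
    · exact three_of_aut (by simpa) _ t ht
  obtain ⟨π, hπ⟩ := inner_of_three (by simp; omega) (φ ^ 2) key
  refine ⟨⟨π * π, by simp [mem_alternatingGroup]⟩, MulEquiv.ext fun g => Subtype.ext ?_⟩
  rw [show 4 = 2 + 2 from rfl, pow_add, MulAut.mul_apply, hπ, hπ]
  simp [mul_assoc]

theorem conj_inj {n : ℕ} (hn : 4 ≤ n) : Function.Injective (MulAut.conj (G := alternatingGroup (Fin n))) :=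
  (injective_iff_map_eq_one _).2 fun a h => Subtype.ext (cent_triv (by simpa) _ fun b hb =>
    congrArg Subtype.val (mul_inv_eq_iff_eq_mul.1 (MulEquiv.congr_fun h ⟨b, hb⟩)))

end CfsgH1.Sn
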