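import Cfsg.Agent.H1.Sn4
import Cfsg.Agent.H1.Sn3
import Cfsg.Agent.H9.Comp2
import Cfsg.Agent.H3.Burnside

/-! Permutation groups whose generalized Fitting subgroup is quasisimple. -/

set_option autoImplicit false

namespace CfsgH1.Sn

open Equiv Equiv.Perm MulAction CfsgH5.Sy CfsgH9
open scoped Pointwise commutatorElement

theorem perf_fix {G β : Type*} [Group G] [MulAction G β] {L : Subgroup G} (hL : ⁅L, L⁆ = L) {x : β} {S : Finset β}
    (h1 : S.card ≤ 4) (h2 : ∀ g ∈ L, g • x ∈ S) {g : G} (hg : g ∈ L) : g • x = x := by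
  have h3 : orbit L x ⊆ S := by rintro _ ⟨g, rfl⟩; exact h2 g g.2
  have : Finite (orbit L x) := S.finite_toSet.subset h3
  have : Group.IsSolvable (Perm (orbit L x)) := CfsgH3.burnside_paqb 2 3 3 1 Nat.prime_two Nat.prime_three (by
    rw [Nat.card_perm]
    exact Nat.factorial_dvd_factorial ((Set.ncard_le_ncard h3).trans (by simpa)))
  obtain ⟨n, hn⟩ := this
  have h4 : ∀ k, derivedSeries L k = ⊤ := fun k => by
    induction k with
    | zero => rfl
    | succ k ih =>
      rw [derivedSeries_succ, ih, ← Subgroup.map_subtype_inj, Subgroup.map_commutator, ← MonoidHom.range_eq_map,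
        Subgroup.range_subtype, hL]
  have h5 : toPermHom L (orbit L x) ⟨g, hg⟩ = 1 := Subgroup.mem_bot.1 (hn ▸ map_derivedSeries_le_derivedSeries
    (toPermHom L (orbit L x)) n ⟨⟨g, hg⟩, (h4 n).ge trivial, rfl⟩)
  exact congrArg Subtype.val (Equiv.ext_iff.1 h5 ⟨x, mem_orbit_self x⟩)

theorem conj_in {G : Type*} [Group G] [Finite G] {p : ℕ} (hp : p.Prime) {K T Q : Subgroup G} (h : ¬ p ∣ T.relIndex K) (h1 : Q ≤ K)
    (hQ : IsPGroup p Q) : ∃ g ∈ K, ∀ x ∈ Q, g * x * g⁻¹ ∈ T := by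
  have := Fact.mk hp
  obtain ⟨y, hy⟩ := (hQ.comap_subtype (K := K)).nonempty_fixed_point_of_prime_not_dvd_card (K ⧸ T.subgroupOf K) h
  obtain ⟨g, rfl⟩ := QuotientGroup.mk_surjective y
  exact ⟨g⁻¹, inv_mem g.2, fun x hx => by
    rw [inv_inv, mul_assoc]; exact (QuotientGroup.eq (s := T.subgroupOf K)).1 (hy ⟨⟨x, h1 hx⟩, hx⟩).symm⟩

variable {α : Type*} [Fintype α] [DecidableEq α]

/-- The even permutations supported on a set. -/
def AS (S : Finset α) : Subgroup (Perm α) := (alternatingGroup S).map (ofSubtype : Perm S →* Perm α)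

theorem mem_AS {S : Finset α} {g : Perm α} : g ∈ AS S ↔ g.support ⊆ S ∧ sign g = 1 := by
  rw [AS, alternatingGroup.map_ofSubtype, Subgroup.mem_inf, mem_range_ofSubtype_iff, mem_alternatingGroup]
  exact Iff.rfl

/-- The identification with an alternating group. -/
noncomputable def ASe (S : Finset α) : AS S ≃* alternatingGroup (Fin S.card) :=
  ((alternatingGroup S).equivMapOfInjective _ ofSubtype_injective).symm.trans S.equivFin.altCongrHom

theorem AS_qs {S : Finset α} (h : 5 ≤ S.card) : QS (AS S) :=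
  have := alternatingGroup.isSimpleGroup (α := Fin S.card) (by simpa)
  qs_iff.2 ((isQuasisimple_congr (ASe S)).2 (qs_top.1 (qs_of_simple fun e => by
    have := alternatingGroup.isMulCommutative_iff_card_le_three.1 e
    simp at this
    omega)))

theorem comm_of_disj {S : Finset α} {g h : Perm α} (h1 : g.support ⊆ S) (h2 : h.support ⊆ Sᶜ) : g * h = h * g :=
  (disjoint_iff_disjoint_support.2 (Disjoint.mono h1 h2 disjoint_compl_right)).commute

/-- `L` is a quasisimple normal subgroup of `H` containing its centralizer. -/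
structure Qs (H L : Subgroup (Perm α)) : Prop where
  comp : Comp L H
  cent : H ⊓ Subgroup.centralizer L ≤ L

theorem qs_Fs {H : Subgroup (Perm α)} (h : Cfsg.IsQuasisimple (Cfsg.generalizedFittingSubgroup H)) : Qs H (Fs H) :=
  ⟨⟨sn_Fs H, (QS.map_iff H.subtype_injective).2 (qs_iff.2 h)⟩, centralizer_Fs_le H⟩

variable {H L : Subgroup (Perm α)}

theorem Qs.small (h : Qs H L) {z : Perm α} (hz : z ∈ H) (h4 : z.support.card ≤ 4) (hc : ∀ l ∈ L, l * z = z * l) : z = 1 :=
  Equiv.ext fun x => by_contra fun e => e (perf_fix h.comp.perf (x := x) h4 (fun l hl => mem_support.2 fun a =>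
    e (l.injective ((Equiv.ext_iff.1 (hc l hl) x).trans a))) (h.cent ⟨hz, hc⟩))

theorem Qs.core (h : Qs H L) {N K : Subgroup (Perm α)} (h1 : L ≤ N) {v : Perm α} (hv : v ∈ H)
    (h3 : ∀ g ∈ N, g * v * g⁻¹ ∈ K) : L ≤ K ∨ ∀ l ∈ L, l * v = v * l := by
  let A := H ⊓ ⨅ g : N, K.comap (MulAut.conj g.1).toMonoidHom
  have m : ∀ {x}, x ∈ A ↔ x ∈ H ∧ ∀ g ∈ N, g * x * g⁻¹ ∈ K := by simp [A, Subgroup.mem_iInf]
  refine (h.comp.le_or_comm_of_normalizes (A := A) inf_le_left fun l hl => Subgroup.mem_normalizer_fintype fun x hx =>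
    m.2 ⟨mul_mem (mul_mem (h.comp.le hl) (m.1 hx).1) (inv_mem (h.comp.le hl)), fun g a => ?_⟩).imp
      (fun e l hl => by simpa using (m.1 (e hl)).2 1 N.one_mem) fun e l hl => comm_bot_iff_forall.1 e l hl v (m.2 ⟨hv, h3⟩)
  simpa [mul_assoc] using (m.1 hx).2 _ (mul_mem a (h1 hl))

theorem Qs.three (h : Qs H L) {c : Perm α} (hc : c.IsThreeCycle) (hH : c ∈ H) : ∃ S : Finset α, L = AS S ∧
    (∀ d ∈ H, d.IsThreeCycle → d.support ⊆ S) ∧ ∀ g ∈ H, g • S = S := by
  classical
  let N := Subgroup.closure {d : Perm α | d.IsThreeCycle ∧ d ∈ H}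
  have h1 : N ≤ H := (Subgroup.closure_le _).2 fun _ a => a.2
  have h2 : ∀ g ∈ H, ∀ d, d.IsThreeCycle → d ∈ H → (g * d * g⁻¹).IsThreeCycle ∧ g * d * g⁻¹ ∈ H := fun g a d b e =>
    ⟨cycleType_conj.trans b, mul_mem (mul_mem a e) (inv_mem a)⟩
  have h3 : ∀ d ∈ H, d.IsThreeCycle → ¬ ∀ l ∈ L, l * d = d * l := fun d a b e =>
    b.isCycle.ne_one (h.small a (by rw [b.card_support]; omega) e)
  have h4 : L ≤ N := (h.core h.comp.le hH fun g a => Subgroup.subset_closure (h2 g a c hc hH)).resolve_right (h3 c hH hc)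
  obtain ⟨x, hx⟩ := hc.isCycle.nonempty_support
  let S := (orbit N x).toFinset
  have m : ∀ {y}, y ∈ S ↔ y ∈ orbit N x := Set.mem_toFinset
  have h5 : ∀ d ∈ H, d.IsThreeCycle → ∀ y ∈ d.support, y ∈ S → d.support ⊆ S := fun d a b y e1 e2 w e3 => by
    obtain ⟨i, rfl⟩ := b.isCycle.exists_pow_eq (mem_support.1 e1) (mem_support.1 e3)
    exact m.2 (mapsTo_smul_orbit (⟨d ^ i, pow_mem (Subgroup.subset_closure (by exact ⟨b, a⟩)) i⟩ : N) x (m.1 e2))
  have h6 : L ≤ (ofSubtype : Perm S →* Perm α).range := (h.core h4 hH fun g a => mem_range_ofSubtype_iff.2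
    (h5 _ (h2 g (h1 a) c hc hH).2 (h2 g (h1 a) c hc hH).1 (g x) (by simpa [support_conj] using hx)
      (m.2 ⟨⟨g, a⟩, rfl⟩))).resolve_right (h3 c hH hc)
  have h7 : ∀ d ∈ H, d.IsThreeCycle → d.support ⊆ S := fun d a b => by_contra fun e => h3 d a b fun l hl =>
    comm_of_disj (mem_range_ofSubtype_iff.1 (h6 hl)) fun y hy => Finset.mem_compl.2 fun f => e (h5 d a b y hy f)
  have h8 : N = (Subgroup.closure {d : Perm S | d.IsThreeCycle ∧ ofSubtype d ∈ H}).map ofSubtype := by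
    rw [MonoidHom.map_closure]
    refine congrArg Subgroup.closure (Set.ext fun d => ⟨fun a => ?_, ?_⟩)
    · obtain ⟨e, rfl⟩ := mem_range_ofSubtype_iff.2 (h7 d a.2 a.1)
      exact ⟨e, ⟨cycleType_ofSubtype.symm.trans a.1, a.2⟩, rfl⟩
    · rintro ⟨e, a, rfl⟩
      exact ⟨cycleType_ofSubtype.trans a.1, a.2⟩
  have h9 : AS S ≤ N := h8 ▸ Subgroup.map_mono (trans_three _ (fun _ a => a.1) (by
    obtain ⟨e, rfl⟩ := mem_range_ofSubtype_iff.2 (h7 c hH hc)
    exact ⟨e, cycleType_ofSubtype.symm.trans hc, hH⟩) ⟨fun u v => by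
      obtain ⟨⟨g, a⟩, e⟩ := (orbit_eq_iff.2 (m.1 u.2)).ge (m.1 v.2)
      obtain ⟨g, b, rfl⟩ := h8.le a
      exact ⟨⟨g, b⟩, Subtype.ext ((ofSubtype_apply_coe g u).symm.trans e)⟩⟩)
  have a1 : L ≤ AS S := fun l hl => mem_AS.2 ⟨mem_range_ofSubtype_iff.1 (h6 hl),
    (Subgroup.closure_le (alternatingGroup α)).2 (fun _ a => a.1.mem_alternatingGroup) (h4 hl)⟩
  have a2 : 5 ≤ S.card := by
    by_contra! e
    refine h.comp.ne_bot (eq_bot_iff.2 fun l hl => Equiv.ext fun y => by_contra fun f => f (perf_fix h.comp.perf (S := S)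
      (by omega) (fun g hg => m.2 (mapsTo_smul_orbit (⟨g, h4 hg⟩ : N) x (m.1 ((mem_AS.1 (a1 hl)).1 (mem_support.2 f))))) hl))
  refine ⟨S, ((AS_qs a2).sn (h.comp.mono a1 (h9.trans h1)).sn).resolve_right fun e => h.comp.qs.comm_ne_bot
    (le_bot_iff.1 (e ▸ Subgroup.commutator_mono le_rfl a1)), h7, fun g a => ?_⟩
  refine Finset.eq_of_subset_of_card_le (fun _ b => ?_) (Finset.card_smul_finset g S).ge
  obtain ⟨y, b', rfl⟩ := Finset.mem_smul_finset.1 b
  obtain ⟨k, rfl⟩ := m.1 b'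
  have := m.1 (h7 _ (h2 g a c hc hH).2 (h2 g a c hc hH).1 (show g x ∈ _ by simpa [support_conj] using hx))
  refine m.2 ((orbit_eq_iff.2 this).le ⟨⟨g * k * g⁻¹, ?_⟩, by simp [Subgroup.smul_def]⟩)
  exact Subgroup.closure_induction (p := fun k _ => g * k * g⁻¹ ∈ N) (fun d b => Subgroup.subset_closure (h2 g a d b.1 b.2))
    (by simp) (fun u v _ _ b e => by simpa [mul_assoc] using mul_mem b e) (fun u _ b => by simpa [mul_assoc] using inv_mem b) k.2

theorem Qs.out {S : Finset α} (h : Qs H (AS S)) (hS : ∀ g ∈ H, g • S = S) {p : ℕ} (hp : p.Prime) {T K : Subgroup (Perm α)}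
    (h1 : T ≤ H) (h2 : T ≤ K) (h3 : ¬ p ∣ T.relIndex K) {x : Perm α} (hx : x ∈ K) (h4 : orderOf x = p) (h5 : x.support.card ≤ 4) :
    ¬ x.support ⊆ Sᶜ := fun h6 => by
  have := Fact.mk hp
  obtain ⟨g, a, b⟩ := conj_in hp (K := K ⊓ stabilizer _ S) (T := T) (Q := Subgroup.zpowers x) (fun e => h3 (e.trans (Dvd.intro _
    (Subgroup.relIndex_mul_relIndex _ _ _ (le_inf h2 fun g a => hS g (h1 a)) inf_le_left)))) (Subgroup.zpowers_le.2 ⟨hx, by
      refine Finset.eq_of_subset_of_card_le (fun _ b => ?_) (Finset.card_smul_finset x S).ge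
      obtain ⟨y, b', rfl⟩ := Finset.mem_smul_finset.1 b
      rwa [Perm.smul_def, notMem_support.1 fun e => Finset.mem_compl.1 (h6 e) b']⟩)
        (.of_card (n := 1) (by rw [Nat.card_zpowers, h4, pow_one]))
  have := h.small (h1 (b x (Subgroup.mem_zpowers x))) (by rwa [card_support_conj]) fun l hl => comm_of_disj (mem_AS.1 hl).1 fun y hy => by
    rw [support_conj, Finset.mem_map_equiv] at hy
    exact Finset.mem_compl.2 fun e => Finset.mem_compl.1 (h6 hy) (Finset.inv_smul_mem_iff.2 ((show g • S = S from a.2).symm ▸ e))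
  rw [mul_inv_eq_one, mul_eq_left] at this
  exact hp.ne_one (by rw [← h4, this, orderOf_one])

theorem exists_supp {S : Finset α} (m : Multiset ℕ) (h1 : m.sum ≤ S.card) (h2 : ∀ a ∈ m, 2 ≤ a) :
    ∃ g : Perm α, g.cycleType = m ∧ g.support ⊆ S := by
  obtain ⟨g, hg⟩ := (exists_with_cycleType_iff S (m := m)).2 ⟨by simpa, h2⟩
  exact ⟨ofSubtype g, cycleType_ofSubtype.trans hg, mem_range_ofSubtype_iff.1 ⟨g, rfl⟩⟩

/-- The even part of the base group attached to an involution. -/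
def Ez (z : Perm α) (hz : ∀ x, z (z x) = x) : Subgroup (Perm α) where
  carrier := {g | g ∈ alternatingGroup α ⊓ Subgroup.centralizer {z} ∧ ∀ x, g x = x ∨ g x = z x}
  one_mem' := ⟨one_mem _, fun _ => .inl rfl⟩
  mul_mem' := fun {g h} a b => ⟨mul_mem a.1 b.1, fun x => by
    have := a.2 (h x)
    have := b.2 x
    have := hz x
    simp only [Perm.mul_apply]
    grind⟩
  inv_mem' := fun {g} a => ⟨inv_mem a.1, fun x => by
    have := a.2 (g⁻¹ x)
    have := hz (g⁻¹ x)
    simp only [Perm.coe_inv, Equiv.apply_symm_apply] at *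
    grind⟩

theorem mem_Ez {z g : Perm α} {hz : ∀ x, z (z x) = x} : g ∈ Ez z hz ↔ (sign g = 1 ∧ g * z = z * g) ∧ ∀ x, g x = x ∨ g x = z x :=
  and_congr_left' (and_congr_right' Subgroup.mem_centralizer_singleton_iff)

theorem Ez_two {z : Perm α} (hz : ∀ x, z (z x) = x) : IsPGroup 2 (Ez z hz) := fun ⟨g, a⟩ => ⟨1, Subtype.ext (Equiv.ext fun x => by
  have := Equiv.ext_iff.1 (mem_Ez.1 a).1.2 x
  have := (mem_Ez.1 a).2 x
  have := hz x
  simp only [Perm.mul_apply, pow_one, sq, Subgroup.coe_mul, Subgroup.coe_one, Perm.one_apply] at *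
  grind)⟩

theorem swap_Ez {z : Perm α} (hz : ∀ x, z (z x) = x) {a b : α} (h : [a, z a, b, z b].Nodup) : swap a (z a) * swap b (z b) ∈ Ez z hz := by
  simp only [List.nodup_cons, List.mem_cons, List.not_mem_nil, or_false, not_or] at h
  refine mem_Ez.2 ⟨⟨by simp [h], ?_⟩, fun x => by simp only [Perm.mul_apply]; grind⟩
  rw [← mul_assoc, mul_swap_eq_swap_mul z, mul_assoc, mul_assoc, mul_swap_eq_swap_mul z, hz, hz, swap_comm (z a), swap_comm (z b)]

theorem Ez_conj {z g x : Perm α} {hz : ∀ x, z (z x) = x} {hz' : ∀ x, (g * z * g⁻¹) ((g * z * g⁻¹) x) = x} (h : x ∈ Ez z hz) :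
    g * x * g⁻¹ ∈ Ez (g * z * g⁻¹) hz' :=
  mem_Ez.2 ⟨⟨by simp [(mem_Ez.1 h).1.1], by rw [conj_mul, conj_mul, (mem_Ez.1 h).1.2]⟩,
    fun y => ((mem_Ez.1 h).2 (g⁻¹ y)).imp (fun e => (congrArg g e).trans (by simp)) (congrArg g)⟩

omit [Fintype α] in
theorem Bl.smul {Δ : Finset α} (h : Bl H Δ) {g : Perm α} (hg : g ∈ H) : Bl H (g • Δ) := by
  have := h.conj g fun x hx => mul_mem (mul_mem hg hx) (inv_mem hg)
  rwa [Finset.map_eq_image] at this

omit [Fintype α] in
theorem Bl.ex {Δ : Finset α} (h : Bl H Δ) : ∃ a ∈ Δ, ∃ b ∈ Δ, ∃ c ∈ Δ, ∃ d ∈ Δ, [a, b, c, d].Nodup := by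
  obtain ⟨a, b, c, d, e, f⟩ := Finset.card_eq_four.1 h.1
  exact ⟨a, by grind, b, by grind, c, by grind, d, by grind, by simp; grind⟩

theorem supp_two (a b c d : α) : (swap a b * swap c d).support ⊆ {a, b, c, d} := fun x hx => by
  rw [mem_support, Perm.mul_apply] at hx
  grind

theorem Qs.exists_three (h : Qs H L) (h8 : 8 ≤ Fintype.card α) {z : Perm α} (hz : ∀ x, z (z x) = x)
    (h1 : z.cycleType = Multiset.replicate (Fintype.card α / 2) 2) (hE : Ez z hz ≤ H) {Δ₀ : Finset α} (h0 : Bl H Δ₀) :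
    ∃ c ∈ H, c.IsThreeCycle := by
  by_contra hn
  have h2 : z.support.card = Fintype.card α / 2 * 2 := by simp [← sum_cycleType, h1]
  have fx : ∀ x y, z x = x → z y = y → x = y := fun x y a b => Finset.card_le_one.1 (show z.supportᶜ.card ≤ 1 by
    rw [Finset.card_compl]; omega) x (by simpa) y (by simpa)
  have sm : ∀ {a b c d}, [a, b, c, d].Nodup → swap a b * swap c d ∈ H → ¬ ∀ l ∈ L, l * (swap a b * swap c d) = swap a b * swap c d * l :=
    fun {a b c d} e1 e2 e3 => by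
      have := Equiv.ext_iff.1 (h.small e2 ((Finset.card_le_card (supp_two a b c d)).trans Finset.card_le_four) e3) a
      simp only [Perm.mul_apply, Perm.one_apply] at this
      grind
  have nc : ¬ L ≤ Subgroup.centralizer {z} := fun e => by
    obtain ⟨a, ha⟩ := Finset.card_pos.1 (show 0 < z.support.card by omega)
    obtain ⟨b, hb, e1⟩ := Finset.exists_mem_notMem_of_card_lt_card (show ({a, z a} : Finset α).card < z.support.card from
      Finset.card_le_two.trans_lt (by omega))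
    have e2 : [a, z a, b, z b].Nodup := by
      have := hz a
      have := hz b
      simp at ha hb e1 ⊢
      grind
    have := (Ez_two hz).isNilpotent
    exact sm e2 (hE (swap_Ez hz e2)) fun l hl => comm_bot_iff_forall.1 (h.comp.comm_of_solvable hE (fun l hl =>
      Subgroup.mem_normalizer_fintype fun x hx => by
        have e3 : l * z * l⁻¹ = z := mul_inv_eq_of_eq_mul (Subgroup.mem_centralizer_singleton_iff.1 (e hl))
        have := Ez_conj (g := l) (hz' := by rwa [e3]) hx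
        simp only [e3] at this
        exact this) inferInstance) l hl _ (swap_Ez hz e2)
  have cd : ∀ {X Y}, Bl H X → Bl H Y → (X ∩ Y).card ≠ 1 ∧ (X ∩ Y).card ≠ 3 := fun a b => not_or.1 (mt (a.three b) hn)
  have sp : ∀ {Δ}, Bl H Δ → ∀ a ∈ Δ, z a ∉ Δ → ∀ b, z b ≠ b → (b ∈ Δ ↔ z b ∉ Δ) := fun {Δ} hΔ a a1 a2 b hb => by
    by_contra e
    have := hz a
    have := hz b
    have e2 : [a, z a, b, z b].Nodup := by simp; grind
    refine (cd hΔ (hΔ.smul (hE (swap_Ez hz e2)))).2 ?_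
    rw [show Δ ∩ (swap a (z a) * swap b (z b)) • Δ = Δ.erase a from Finset.ext fun x => ?_, Finset.card_erase_of_mem a1, hΔ.1]
    simp only [Finset.mem_inter, ← Finset.inv_smul_mem_iff, Perm.smul_def, mul_inv_rev, swap_inv, Perm.mul_apply, Finset.mem_erase]
    simp only [List.nodup_cons, List.mem_cons, List.not_mem_nil, or_false, not_or] at e2
    grind
  obtain ⟨a, a1, b, b1, c, c1, d, d1, e0⟩ := h0.ex
  by_cases hA : ∀ Δ, Bl H Δ → ∀ a ∈ Δ, z a ∈ Δ
  · refine (h.core h.comp.le (h0.2 a a1 b b1 c c1 d d1 e0) fun g hg => ?_).elim nc (sm e0 (h0.2 a a1 b b1 c c1 d d1 e0))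
    have e1 : g • Δ₀ = {g a, g b, g c, g d} := (Finset.eq_of_subset_of_card_le (by
      simp [Finset.insert_subset_iff, ← Perm.smul_def, *]) (by
        rw [(h0.smul hg).1]; simpa using (List.toFinset_card_of_nodup (e0.map g.injective)).ge)).symm
    have e2 := hA _ (h0.smul hg)
    rw [show g * (swap a b * swap c d) * g⁻¹ = swap (g a) (g b) * swap (g c) (g d) by simp [swap_apply_apply, mul_assoc],
      Subgroup.mem_centralizer_singleton_iff, ← mul_assoc, mul_swap_eq_swap_mul z, mul_assoc, mul_assoc, mul_swap_eq_swap_mul z,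
      ← mul_assoc, ← mul_assoc, mul_left_inj]
    replace e0 : [g a, g b, g c, g d].Nodup := e0.map g.injective
    rw [e1] at e2
    generalize g a = a, g b = b, g c = c, g d = d at e0 e2
    simp only [List.nodup_cons, List.mem_cons, List.not_mem_nil, or_false, not_or, Finset.mem_insert, Finset.mem_singleton,
      forall_eq_or_imp, forall_eq] at e0 e2
    have := hz a
    have := hz b
    have := hz c
    have := hz d
    have := fx a
    have := fx b
    have := fx c
    have e3 : (z a = b ∧ z c = d) ∨ (z a = c ∧ z b = d) ∨ (z a = d ∧ z b = c) := by grind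
    ext1 x
    simp only [Perm.mul_apply]
    rcases e3 with ⟨rfl, rfl⟩ | ⟨rfl, rfl⟩ | ⟨rfl, rfl⟩ <;> grind
  push Not at hA
  obtain ⟨Δ, e1, u, u1, u2⟩ := hA
  have h3 : z.support.card ≤ 8 := by
    have := Finset.card_le_card (show z.support ⊆ Δ ∪ z • Δ from fun x hx => by
      have := sp e1 u u1 u2 x (mem_support.1 hx)
      have : z x ∈ Δ → x ∈ z • Δ := fun e => Finset.mem_smul_finset.2 ⟨_, e, hz x⟩
      grind)
    have := Finset.card_union_le Δ (z • Δ)
    rw [Finset.card_smul_finset, e1.1] at this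
    omega
  have h4 : z ∈ H := hE (mem_Ez.2 ⟨⟨by rw [sign_of_cycleType, h1, show Fintype.card α / 2 = 4 by omega]; decide, rfl⟩, fun _ => .inr rfl⟩)
  have h5 : ∀ X Y Z, Bl H X → Bl H Y → Bl H Z → Disjoint X Z → Disjoint Y Z → X = Y := fun X Y Z x1 y1 z1 e1 e2 => by
    have := Finset.card_union_add_card_inter X Y
    have := Finset.card_le_univ (X ∪ Y ∪ Z)
    rw [Finset.card_union_of_disjoint (Finset.disjoint_union_left.2 ⟨e1, e2⟩)] at this
    have := cd x1 y1
    have := x1.1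
    have := y1.1
    have := z1.1
    have := Finset.card_le_card (Finset.inter_subset_left (s₁ := X) (s₂ := Y))
    exact Finset.eq_of_subset_of_card_le (Finset.inter_eq_left.1 (Finset.eq_of_subset_of_card_le Finset.inter_subset_left
      (by omega))) (by omega)
  have h6 : ∀ X, Bl H X → z • X = X ∨ Disjoint (z • X) X := fun X x1 => by
    by_cases e : ∀ a ∈ X, z a ∈ X
    · refine .inl (Finset.eq_of_subset_of_card_le (fun _ b => ?_) (Finset.card_smul_finset z X).ge)
      obtain ⟨y, b', rfl⟩ := Finset.mem_smul_finset.1 b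
      exact e y b'
    push Not at e
    obtain ⟨v, v1, v2⟩ := e
    have : (z • X ∩ X).card ≤ 1 := Finset.card_le_one.2 fun x hx y hy => by
      have := sp x1 v v1 v2 x
      have := sp x1 v v1 v2 y
      have := fx x y
      simp only [Finset.mem_inter, ← Finset.inv_smul_mem_iff, Perm.smul_def, show z⁻¹ = z from inv_eq_of_mul_eq_one_left (Equiv.ext hz)] at hx hy
      grind
    have := (cd (x1.smul h4) x1).1
    exact .inr (Finset.disjoint_iff_inter_eq_empty.2 (Finset.card_eq_zero.1 (by omega)))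
  let X : Set (Finset α) := {Γ | Bl H Γ ∧ (Γ = Δ₀ ∨ Disjoint Γ Δ₀)}
  have h7 : L ≤ stabilizer _ X := (h.core h.comp.le h4 fun g hg => (mem_stabilizer_set_iff_smul_set_subset X.toFinite).2 (by
    rintro _ ⟨Γ, a, rfl⟩
    have b := a.1.smul (mul_mem (mul_mem hg h4) (inv_mem hg))
    refine ⟨b, ?_⟩
    rcases h6 _ (a.1.smul (inv_mem hg)) with e | e
    · simpa only [mul_smul, e, smul_inv_smul] using a.2
    · replace e : Disjoint (g • z • g⁻¹ • Γ) (g • g⁻¹ • Γ) := (Finset.disjoint_image (MulAction.injective g)).2 e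
      rw [smul_inv_smul, smul_smul, smul_smul] at e
      exact a.2.elim (fun f => .inr (f ▸ e)) fun f => .inl (h5 _ _ _ b h0 a.1 e f.symm))).resolve_right fun e =>
        nc fun l hl => Subgroup.mem_centralizer_singleton_iff.2 (e l hl)
  have h8 : ∀ l ∈ L, l • Δ₀ = Δ₀ := fun l hl => by
    have m : ∀ g ∈ L, g • Δ₀ ∈ X := fun g hg => (show g • X = X from h7 hg).le ⟨_, ⟨h0, .inl rfl⟩, rfl⟩
    by_contra e
    exact e (perf_fix h.comp.perf (S := {Δ₀, l • Δ₀}) (Finset.card_le_two.trans (by omega)) (fun g hg => by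
      simpa using (m g hg).2.imp_right fun f => h5 _ _ _ (m g hg).1 (m l hl).1 h0 f ((m l hl).2.resolve_left e)) hl)
  refine sm e0 (h0.2 a a1 b b1 c c1 d d1 e0) fun l hl => (comm_of_disj (S := Δ₀) ((supp_two a b c d).trans (by
    simp [Finset.insert_subset_iff, *])) fun y hy => Finset.mem_compl.2 fun f => mem_support.1 hy ?_).symm
  exact perf_fix h.comp.perf h0.1.le (fun g hg => h8 g hg ▸ Finset.smul_mem_smul_finset f) hl

end CfsgH1.Sn
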