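import Cfsg.Prelude.Def_Sporadic_a

/-! Counting blocks in Steiner systems. -/

set_option autoImplicit false

namespace CfsgH1.St

open Cfsg Finset

variable {α : Type*} [Fintype α] [DecidableEq α]

/-- The blocks as a finite set. -/
noncomputable def bl (B : Set (Finset α)) : Finset (Finset α) := (Set.toFinite B).toFinset

omit [DecidableEq α] in
@[simp] theorem mem_bl {B : Set (Finset α)} {b : Finset α} : b ∈ bl B ↔ b ∈ B := by simp [bl]

omit [DecidableEq α] in
theorem ncard_eq {B : Set (Finset α)} (p : Finset α → Prop) [DecidablePred p] :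
    {c | c ∈ B ∧ p c}.ncard = ((bl B).filter p).card := by
  rw [← Set.ncard_coe_finset]; congr 1; ext c; simp

/-- The number of members containing `s` and missing `u`. -/
def lam (F : Finset (Finset α)) (s u : Finset α) : ℕ := (F.filter fun b => s ⊆ b ∧ Disjoint u b).card

omit [Fintype α] in
theorem lam_rec (F : Finset (Finset α)) (s u : Finset α) (p : α) :
    lam F s u = lam F (insert p s) u + lam F s (insert p u) := by
  unfold lam
  rw [← card_filter_add_card_filter_not (s := F.filter fun b => s ⊆ b ∧ Disjoint u b) (fun b => p ∈ b),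
    filter_filter, filter_filter]
  congr 2
  · ext b; simp only [mem_filter, insert_subset_iff]; tauto
  · ext b; simp only [mem_filter, disjoint_insert_left]; tauto

/-- The difference triangle. -/
def T (a : ℕ → ℕ) : ℕ → ℕ → ℤ
  | i, 0 => a i
  | i, j + 1 => T a i j - T a (i + 1) j

omit [Fintype α] in
theorem lam_tri {F : Finset (Finset α)} {Y : Finset α} {a : ℕ → ℕ}
    (ha : ∀ s ⊆ Y, lam F s ∅ = a s.card) (u : Finset α) :
    ∀ s, s ⊆ Y → u ⊆ Y → Disjoint s u → (lam F s u : ℤ) = T a s.card u.card := by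
  induction u using Finset.induction_on with
  | empty => intro s hs _ _; rw [ha s hs]; rfl
  | insert p u hp ih =>
    intro s hs hu hd
    rw [insert_subset_iff] at hu
    rw [disjoint_insert_right] at hd
    have h1 := ih s hs hu.2 hd.2
    have h2 := ih (insert p s) (insert_subset hu.1 hs) hu.2 (disjoint_insert_left.2 ⟨hp, hd.2⟩)
    rw [card_insert_of_notMem hd.1] at h2
    rw [card_insert_of_notMem hp, T, ← h1, ← h2, lam_rec F s u p]
    push_cast; ring

omit [Fintype α] in
theorem inter_eq_iff {Y s b : Finset α} (hs : s ⊆ Y) : Y ∩ b = s ↔ s ⊆ b ∧ Disjoint (Y \ s) b := by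
  constructor
  · rintro rfl
    refine ⟨inter_subset_right, disjoint_left.2 fun x hx hb => ?_⟩
    simp only [mem_sdiff, mem_inter] at hx; tauto
  · rintro ⟨h1, h2⟩
    ext x
    have : x ∈ Y \ s → x ∉ b := fun h => disjoint_left.1 h2 h
    have h3 := @hs x
    have h4 := @h1 x
    simp only [mem_sdiff, mem_inter] at this ⊢; tauto

omit [Fintype α] in
theorem meet_tri {F : Finset (Finset α)} {Y : Finset α} {a : ℕ → ℕ}
    (ha : ∀ s ⊆ Y, lam F s ∅ = a s.card) {s : Finset α} (hs : s ⊆ Y) :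
    ((F.filter fun b => Y ∩ b = s).card : ℤ) = T a s.card (Y.card - s.card) := by
  rw [← card_sdiff_of_subset hs, ← lam_tri ha _ s hs sdiff_subset disjoint_sdiff]
  unfold lam
  congr 2
  ext b; simp only [mem_filter, inter_eq_iff hs]

omit [Fintype α] in
theorem meetc_tri {F : Finset (Finset α)} {Y : Finset α} {a : ℕ → ℕ}
    (ha : ∀ s ⊆ Y, lam F s ∅ = a s.card) (j : ℕ) :
    ((F.filter fun b => (Y ∩ b).card = j).card : ℤ) = Y.card.choose j * T a j (Y.card - j) := by
  rw [card_eq_sum_card_fiberwise (f := fun b => Y ∩ b) (t := powersetCard j Y)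
    (fun b hb => by simp only [coe_filter, Set.mem_setOf_eq] at hb; simp [mem_powersetCard, hb.2])]
  push_cast
  rw [sum_congr rfl (g := fun _ => T a j (Y.card - j)), sum_const, card_powersetCard, nsmul_eq_mul]
  intro s hs
  rw [mem_powersetCard] at hs
  rw [← hs.2, ← meet_tri ha hs.1, filter_filter]
  congr 2
  ext b
  simp only [mem_filter]
  exact ⟨fun h => ⟨h.1, h.2.2⟩, fun h => ⟨h.1, by rw [h.2], h.2⟩⟩

variable {t k : ℕ} {B : Set (Finset α)}

omit [Fintype α] [DecidableEq α] in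
theorem eq_of (hB : IsSteinerSystem t k B) {b c s : Finset α} (hb : b ∈ B) (hc : c ∈ B) (h1 : s ⊆ b)
    (h2 : s ⊆ c) (hs : t ≤ s.card) : b = c := by
  obtain ⟨u, hu, e⟩ := exists_subset_card_eq hs
  exact (hB.2 u e).unique ⟨hb, hu.trans h1⟩ ⟨hc, hu.trans h2⟩

omit [Fintype α] in
theorem inter_lt (hB : IsSteinerSystem t k B) {b c : Finset α} (hb : b ∈ B) (hc : c ∈ B) (h : b ≠ c) :
    (b ∩ c).card < t := by
  by_contra h1
  exact h (eq_of hB hb hc inter_subset_left inter_subset_right (by omega))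

theorem lam_count (hB : IsSteinerSystem t k B) {s : Finset α} (hs : s.card ≤ t) :
    lam (bl B) s ∅ * (k - s.card).choose (t - s.card) = (Fintype.card α - s.card).choose (t - s.card) := by
  rw [← card_compl, ← card_powersetCard, ← mul_one (card (powersetCard _ _))]
  refine card_mul_eq_card_mul (fun b u => u ⊆ b) (fun b hb => ?_) fun u hu => ?_
  · simp only [mem_filter, mem_bl] at hb
    rw [← hB.1 b hb.1, ← card_sdiff_of_subset hb.2.1, ← card_powersetCard]
    congr 1
    ext u
    simp only [mem_bipartiteAbove, mem_powersetCard, subset_sdiff, subset_compl_iff_disjoint_right]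
    tauto
  · rw [mem_powersetCard, subset_compl_iff_disjoint_right] at hu
    obtain ⟨b, hb, h1⟩ := hB.2 (u ∪ s) (by rw [card_union_of_disjoint hu.1, hu.2]; omega)
    rw [card_eq_one]
    refine ⟨b, eq_singleton_iff_unique_mem.2 ⟨?_, fun c hc => h1 c ?_⟩⟩
    · simp only [mem_bipartiteBelow, mem_filter, mem_bl, disjoint_empty_left, and_true]
      exact ⟨⟨hb.1, (union_subset_iff.1 hb.2).2⟩, (union_subset_iff.1 hb.2).1⟩
    · simp only [mem_bipartiteBelow, mem_filter, mem_bl, disjoint_empty_left, and_true] at hc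
      exact ⟨hc.1.1, union_subset hc.2 hc.1.2⟩

/-- The number of blocks through `i` points (of a block when `i` exceeds `t`). -/
def A (v t k i : ℕ) : ℕ := if i ≤ t then (v - i).descFactorial (t - i) / (k - i).descFactorial (t - i) else 1

theorem lam_small (hB : IsSteinerSystem t k B) (htk : t ≤ k) {v : ℕ} (hv : Fintype.card α = v) {s : Finset α}
    (hs : s.card ≤ t) : lam (bl B) s ∅ = A v t k s.card := by
  rw [A, if_pos hs, Nat.descFactorial_eq_factorial_mul_choose, Nat.descFactorial_eq_factorial_mul_choose,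
    Nat.mul_div_mul_left _ _ (Nat.factorial_pos _), ← hv, ← lam_count hB hs,
    Nat.mul_div_cancel _ (Nat.choose_pos (by omega))]

theorem lam_sub (hB : IsSteinerSystem t k B) (htk : t ≤ k) {v : ℕ} (hv : Fintype.card α = v) {b : Finset α}
    (hb : b ∈ B) : ∀ s ⊆ b, lam (bl B) s ∅ = A v t k s.card := by
  intro s hs
  by_cases h : s.card ≤ t
  · exact lam_small hB htk hv h
  · rw [A, if_neg h, lam, card_eq_one]
    refine ⟨b, eq_singleton_iff_unique_mem.2 ⟨by simp [hb, hs], fun c hc => ?_⟩⟩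
    simp only [mem_filter, mem_bl] at hc
    exact eq_of hB hc.1 hb hc.2.1 hs (by omega)

theorem lam_le (hB : IsSteinerSystem t k B) (htk : t ≤ k) {v : ℕ} (hv : Fintype.card α = v) {Y : Finset α}
    (hY : Y.card ≤ t) : ∀ s ⊆ Y, lam (bl B) s ∅ = A v t k s.card := fun _ hs =>
  lam_small hB htk hv ((card_le_card hs).trans hY)

theorem card_bl (hB : IsSteinerSystem t k B) (htk : t ≤ k) {v : ℕ} (hv : Fintype.card α = v) :
    (bl B).card = A v t k 0 := by
  have := lam_small hB htk hv (s := ∅) (by simp)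
  simpa [lam] using this

theorem inter_pos (hB : IsSteinerSystem t k B) (htk : t ≤ k) {v : ℕ} (hv : Fintype.card α = v)
    {b c : Finset α} (hb : b ∈ B) (hc : c ∈ B) : 0 < T (A v t k) (b ∩ c).card (k - (b ∩ c).card) := by
  rw [← hB.1 b hb]
  have := meet_tri (lam_sub hB htk hv hb) (inter_subset_left (s₁ := b) (s₂ := c))
  rw [hB.1 b hb] at this ⊢
  rw [← this]
  exact_mod_cast card_pos.2 ⟨c, by simp [hc]⟩

/-- Allowed intersection sizes from the triangle. -/
theorem inter_of (hB : IsSteinerSystem t k B) (htk : t ≤ k) {v : ℕ} (hv : Fintype.card α = v)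
    {b c : Finset α} (hb : b ∈ B) (hc : c ∈ B) (h : b ≠ c) {P : ℕ → Prop}
    (hP : ∀ i < t, 0 < T (A v t k) i (k - i) → P i) : P (b ∩ c).card :=
  hP _ (inter_lt hB hb hc h) (inter_pos hB htk hv hb hc)

theorem i24 (hα : Fintype.card α = 24) (hB : IsSteinerSystem 5 8 B) {b c : Finset α} (hb : b ∈ B) (hc : c ∈ B)
    (h : b ≠ c) : (b ∩ c).card = 0 ∨ (b ∩ c).card = 2 ∨ (b ∩ c).card = 4 :=
  inter_of hB (by norm_num) hα hb hc h (P := fun i => i = 0 ∨ i = 2 ∨ i = 4) (by decide +kernel)

theorem i23 (hα : Fintype.card α = 23) (hB : IsSteinerSystem 4 7 B) {b c : Finset α} (hb : b ∈ B) (hc : c ∈ B)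
    (h : b ≠ c) : (b ∩ c).card = 1 ∨ (b ∩ c).card = 3 :=
  inter_of hB (by norm_num) hα hb hc h (P := fun i => i = 1 ∨ i = 3) (by decide +kernel)

theorem i22 (hα : Fintype.card α = 22) (hB : IsSteinerSystem 3 6 B) {b c : Finset α} (hb : b ∈ B) (hc : c ∈ B)
    (h : b ≠ c) : (b ∩ c).card = 0 ∨ (b ∩ c).card = 2 :=
  inter_of hB (by norm_num) hα hb hc h (P := fun i => i = 0 ∨ i = 2) (by decide +kernel)

theorem i21 (hα : Fintype.card α = 21) (hB : IsSteinerSystem 2 5 B) {b c : Finset α} (hb : b ∈ B) (hc : c ∈ B)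
    (h : b ≠ c) : (b ∩ c).card = 1 :=
  inter_of hB (by norm_num) hα hb hc h (P := fun i => i = 1) (by decide +kernel)

theorem i12 (hα : Fintype.card α = 12) (hB : IsSteinerSystem 5 6 B) {b c : Finset α} (hb : b ∈ B) (hc : c ∈ B)
    (h : b ≠ c) : (b ∩ c).card = 0 ∨ (b ∩ c).card = 2 ∨ (b ∩ c).card = 3 ∨ (b ∩ c).card = 4 :=
  inter_of hB (by norm_num) hα hb hc h (P := fun i => i = 0 ∨ i = 2 ∨ i = 3 ∨ i = 4) (by decide +kernel)

theorem i11 (hα : Fintype.card α = 11) (hB : IsSteinerSystem 4 5 B) {b c : Finset α} (hb : b ∈ B) (hc : c ∈ B)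
    (h : b ≠ c) : (b ∩ c).card = 1 ∨ (b ∩ c).card = 2 ∨ (b ∩ c).card = 3 :=
  inter_of hB (by norm_num) hα hb hc h (P := fun i => i = 1 ∨ i = 2 ∨ i = 3) (by decide +kernel)

theorem meet_blk (hB : IsSteinerSystem t k B) (htk : t ≤ k) {v : ℕ} (hv : Fintype.card α = v)
    {b s : Finset α} (hb : b ∈ B) (hs : s ⊆ b) {i n : ℕ} (hi : s.card = i) (hn : T (A v t k) i (k - i) = n) :
    {c | c ∈ B ∧ b ∩ c = s}.ncard = n := by
  have := meet_tri (lam_sub hB htk hv hb) hs
  rw [hB.1 b hb, hi, hn] at this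
  rw [ncard_eq]; exact_mod_cast this

theorem compl12 (hα : Fintype.card α = 12) (hB : IsSteinerSystem 5 6 B) {b : Finset α} (hb : b ∈ B) :
    bᶜ ∈ B := by
  have := meet_blk hB (by norm_num) hα hb (empty_subset b) card_empty (n := 1) (by decide +kernel)
  obtain ⟨c, hc⟩ := Set.ncard_eq_one.1 this
  have h1 : c ∈ {c | c ∈ B ∧ b ∩ c = ∅} := by rw [hc]; rfl
  have : c = bᶜ := eq_of_subset_of_card_le
    (subset_compl_iff_disjoint_left.2 (disjoint_iff_inter_eq_empty.2 h1.2))
    (by rw [card_compl, hα, hB.1 b hb, hB.1 c h1.1])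
  exact this ▸ h1.1

omit [Fintype α] in
theorem card_sd (s t : Finset α) : (symmDiff s t).card + 2 * (s ∩ t).card = s.card + t.card := by
  have h1 := card_sdiff_add_card_inter s t
  have h2 := card_sdiff_add_card_inter t s
  rw [inter_comm] at h2
  rw [symmDiff_def, sup_eq_union, card_union_of_disjoint disjoint_sdiff_sdiff]
  omega

omit [Fintype α] in
theorem derived (hB : IsSteinerSystem (t + 1) (k + 1) B) (p : α) :
    IsSteinerSystem t k {b' : Finset {a : α // a ≠ p} | ∃ b ∈ B, p ∈ b ∧ b' = Finset.subtype (fun a => a ≠ p) b} := by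
  constructor
  · rintro _ ⟨b, hb, hp, rfl⟩
    rw [card_subtype, filter_ne', card_erase_of_mem hp, hB.1 b hb]; rfl
  · intro s hs
    have hp : p ∉ s.map (Function.Embedding.subtype _) := by
      simp only [mem_map, not_exists, not_and]
      exact fun a _ e => a.2 e
    obtain ⟨b, hb, h1⟩ := hB.2 (insert p (s.map (Function.Embedding.subtype _)))
      (by rw [card_insert_of_notMem hp, card_map, hs])
    rw [insert_subset_iff] at hb
    refine ⟨_, ⟨⟨b, hb.1, hb.2.1, rfl⟩, fun a ha => mem_subtype.2 (hb.2.2 (mem_map_of_mem _ ha))⟩, ?_⟩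
    rintro _ ⟨⟨c, hc, hpc, rfl⟩, h2⟩
    rw [h1 c ⟨hc, insert_subset hpc fun x hx => ?_⟩]
    obtain ⟨a, ha, rfl⟩ := mem_map.1 hx
    exact mem_subtype.1 (h2 ha)

end CfsgH1.St
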