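import Cfsg.Agent.H1.St1

/-! Families closed under symmetric difference; codes of length 24; the graphs on 77 and 100 vertices. -/

set_option autoImplicit false

namespace CfsgH1.St

open Cfsg Finset

variable {α : Type*} [Fintype α] [DecidableEq α]

omit [Fintype α] in
theorem sd_inter (a b y : Finset α) :
    (symmDiff a b ∩ y).card + 2 * ((a ∩ y) ∩ (b ∩ y)).card = (a ∩ y).card + (b ∩ y).card := by
  rw [← card_sd]; congr 2
  ext x; simp only [mem_inter, mem_symmDiff]; tauto

theorem sd24 (hα : Fintype.card α = 24) {B : Set (Finset α)} (hB : IsSteinerSystem 5 8 B) {b c : Finset α}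
    (hb : b ∈ B) (hc : c ∈ B) (h4 : (b ∩ c).card = 4) : symmDiff b c ∈ B := by
  by_contra hn
  have c1 : (b \ c).card = 4 := by have := card_sdiff_add_card_inter b c; rw [hB.1 b hb] at this; omega
  have c2 : (c \ b).card = 4 := by
    have := card_sdiff_add_card_inter c b; rw [hB.1 c hc, inter_comm] at this; omega
  have key : ∀ v ∈ c \ b, ∃ d ∈ B, b \ c ⊆ d ∧ v ∈ d ∧ (d ∩ c).card = 2 ∧ d ∩ c ⊆ c \ b := by
    intro v hv
    rw [mem_sdiff] at hv
    obtain ⟨d, ⟨hd, h1⟩, -⟩ := hB.2 (insert v (b \ c)) (by rw [card_insert_of_notMem (by simp [hv.2]), c1])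
    rw [insert_subset_iff] at h1
    have e1 : b ∩ d = b \ c := by
      symm
      refine eq_of_subset_of_card_le (subset_inter sdiff_subset h1.2) ?_
      have := inter_lt hB hb hd (fun e => hv.2 (e ▸ h1.1)); omega
    have e2 : d ∩ c ⊆ c \ b := fun x hx => by
      have := Finset.ext_iff.1 e1 x
      simp only [mem_inter, mem_sdiff] at this hx ⊢; tauto
    refine ⟨d, hd, h1.2, h1.1, ?_, e2⟩
    have hdc : d ≠ c := by
      rintro rfl
      obtain ⟨x, hx⟩ : (b \ d).Nonempty := card_pos.1 (by omega)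
      exact (mem_sdiff.1 hx).2 (h1.2 hx)
    have p1 : 0 < (d ∩ c).card := card_pos.2 ⟨v, mem_inter.2 ⟨h1.1, hv.1⟩⟩
    rcases i24 hα hB hd hc hdc with h | h | h
    · omega
    · exact h
    · exfalso
      apply hn
      have e3 : d ∩ c = c \ b := eq_of_subset_of_card_le e2 (by omega)
      have : symmDiff b c = d := by
        refine eq_of_subset_of_card_le ?_ ?_
        · rw [symmDiff_def, sup_eq_union]
          exact union_subset h1.2 (e3 ▸ inter_subset_left)
        · have := card_sd b c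
          rw [hB.1 b hb, hB.1 c hc] at this; rw [hB.1 d hd]; omega
      rwa [this]
  obtain ⟨v, hv⟩ : (c \ b).Nonempty := card_pos.1 (by omega)
  obtain ⟨d, hd, d1, d2, d3, d4⟩ := key v hv
  obtain ⟨w, hw⟩ : ((c \ b) \ d).Nonempty := by
    rw [← card_pos]
    have := card_sdiff_add_card_inter (c \ b) d
    have h := card_le_card (show (c \ b) ∩ d ⊆ d ∩ c from fun x hx => by
      simp only [mem_inter, mem_sdiff] at hx ⊢; tauto)
    omega
  rw [mem_sdiff] at hw
  obtain ⟨d', hd', f1, f2, f3, f4⟩ := key w hw.1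
  have hdd : d ≠ d' := fun e => hw.2 (e ▸ f2)
  have g1 : d ∩ d' = b \ c := by
    symm
    refine eq_of_subset_of_card_le (subset_inter d1 f1) ?_
    have := inter_lt hB hd hd' hdd; omega
  have g2 : c \ b ⊆ d ∪ d' := by
    have : (d ∩ c) ∪ (d' ∩ c) = c \ b := by
      refine eq_of_subset_of_card_le (union_subset d4 f4) ?_
      rw [card_union_of_disjoint, d3, f3, c2]
      refine disjoint_left.2 fun x h1 h2 => ?_
      have := Finset.ext_iff.1 g1 x
      simp only [mem_inter, mem_sdiff] at this h1 h2; tauto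
    rw [← this]
    exact union_subset_union inter_subset_left inter_subset_left
  obtain ⟨u, hu, u3⟩ := exists_subset_card_eq (show 3 ≤ (b \ c).card by omega)
  have hvw : v ≠ w := fun e => hw.2 (e ▸ d2)
  have nv : v ∉ u := fun h => (mem_sdiff.1 hv).2 (mem_sdiff.1 (hu h)).1
  have nw : w ∉ u := fun h => (mem_sdiff.1 hw.1).2 (mem_sdiff.1 (hu h)).1
  have hvd' : v ∉ d' := fun h => by
    have := Finset.ext_iff.1 g1 v
    simp only [mem_inter, mem_sdiff] at this hv; tauto
  obtain ⟨e, ⟨he, e1⟩, -⟩ := hB.2 (insert v (insert w u)) (by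
    rw [card_insert_of_notMem (by simp [hvw, nv]), card_insert_of_notMem nw, u3])
  rw [insert_subset_iff, insert_subset_iff] at e1
  obtain ⟨ev, ew, eu⟩ := e1
  have k1 : e ∩ d = insert v u := by
    symm
    refine eq_of_subset_of_card_le (subset_inter (insert_subset ev eu) (insert_subset d2 (hu.trans d1))) ?_
    have := inter_lt hB he hd (fun h => hw.2 (h ▸ ew))
    rw [card_insert_of_notMem nv]; omega
  have k2 : e ∩ d' = insert w u := by
    symm
    refine eq_of_subset_of_card_le (subset_inter (insert_subset ew eu) (insert_subset f2 (hu.trans f1))) ?_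
    have := inter_lt hB he hd' (fun h => hvd' (h ▸ ev))
    rw [card_insert_of_notMem nw]; omega
  have k3 : (e ∩ b) \ c = u := by
    ext x
    have a1 := Finset.ext_iff.1 k1 x
    have a2 := @d1 x
    have a3 := @hu x
    have a4 := @eu x
    have a5 : x = v → x ∉ b := fun h => h ▸ (mem_sdiff.1 hv).2
    simp only [mem_inter, mem_sdiff, mem_insert] at a1 a2 a3 ⊢
    clear * - a1 a2 a3 a4 a5; tauto
  have k4 : (e ∩ c) \ b = {v, w} := by
    ext x
    have a1 := Finset.ext_iff.1 k1 x
    have a2 := Finset.ext_iff.1 k2 x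
    have a3 := @hu x
    have a4 := @g2 x
    have a5 : x = v → x ∈ e ∧ x ∈ c ∧ x ∉ b := fun h => h ▸ ⟨ev, mem_sdiff.1 hv⟩
    have a6 : x = w → x ∈ e ∧ x ∈ c ∧ x ∉ b := fun h => h ▸ ⟨ew, mem_sdiff.1 hw.1⟩
    simp only [mem_inter, mem_sdiff, mem_insert, mem_union, mem_singleton] at a1 a2 a3 a4 ⊢
    clear * - a1 a2 a3 a4 a5 a6; tauto
  have m1 := card_sdiff_add_card_inter (e ∩ b) c
  have m2 := card_sdiff_add_card_inter (e ∩ c) b
  rw [k3, u3] at m1
  rw [k4, card_pair hvw, inter_right_comm] at m2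
  have m3 := i24 hα hB he hb (fun h => (mem_sdiff.1 hv).2 (h ▸ ev))
  obtain ⟨x, hx⟩ : u.Nonempty := card_pos.1 (by omega)
  have m4 := i24 hα hB he hc (fun h => (mem_sdiff.1 (hu hx)).2 (h ▸ eu hx))
  omega

/-- Sums of members of a family. -/
inductive Cl (F : Set (Finset α)) : Finset α → Prop
  | emp : Cl F ∅
  | add {b a : Finset α} : b ∈ F → Cl F a → Cl F (symmDiff b a)

omit [Fintype α] in
theorem Cl.xor {F : Set (Finset α)} {a b : Finset α} (ha : Cl F a) (hb : Cl F b) : Cl F (symmDiff a b) := by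
  induction ha with
  | emp => simpa [← bot_eq_empty] using hb
  | add h _ ih => rw [symmDiff_assoc]; exact Cl.add h ih

omit [Fintype α] in
theorem Cl.of {F : Set (Finset α)} {a : Finset α} (ha : a ∈ F) : Cl F a := by
  simpa [← bot_eq_empty] using Cl.add ha Cl.emp

omit [Fintype α] in
theorem Cl.even {F : Set (Finset α)} {a y : Finset α} (h : ∀ b ∈ F, Even (b ∩ y).card) (ha : Cl F a) :
    Even (a ∩ y).card := by
  induction ha with
  | emp => simp
  | @add b a hb _ ih =>
    have h1 := sd_inter b a y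
    have h2 := h b hb
    rw [Nat.even_iff] at *; omega

omit [Fintype α] in
theorem Cl.four {F : Set (Finset α)} (h8 : ∀ b ∈ F, b.card = 8) (h : ∀ b ∈ F, ∀ c ∈ F, Even (b ∩ c).card)
    {a : Finset α} (ha : Cl F a) : 4 ∣ a.card := by
  induction ha with
  | emp => simp
  | @add b a hb ha ih =>
    have h1 := card_sd b a
    have h2 := ha.even (y := b) fun c hc => h c hc b hb
    rw [inter_comm, Nat.even_iff] at h2
    rw [h8 b hb] at h1; omega

/-- The abstract properties of the length-24 code, relative to a set `Z` of points. -/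
structure Gk (Z : Finset α) (C : Finset α → Prop) : Prop where
  emp : C ∅
  xor : ∀ a b, C a → C b → C (symmDiff a b)
  wt : ∀ a, C a → a ≠ ∅ → 8 ≤ a.card
  ev : ∀ a b, C a → C b → Even (a ∩ b).card
  ex : ∀ s, s.card = 5 → Z ⊆ s → ∃ b, C b ∧ b.card = 8 ∧ s ⊆ b

omit [Fintype α] in
theorem Gk.eq {Z : Finset α} {C : Finset α → Prop} (h : Gk Z C) {a b : Finset α} (ha : C a) (hb : C b)
    (a8 : a.card = 8) (b8 : b.card = 8) (h5 : 5 ≤ (a ∩ b).card) : a = b := by
  by_contra hn
  have := h.wt _ (h.xor a b ha hb) (fun e => hn (symmDiff_eq_bot.1 e))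
  have := card_sd a b
  omega

omit [Fintype α] in
theorem Gk.mono {Z Y : Finset α} {C : Finset α → Prop} (h : Gk Z C) (hY : Z ⊆ Y) : Gk Y C :=
  ⟨h.emp, h.xor, h.wt, h.ev, fun s hs h1 => h.ex s hs (hY.trans h1)⟩

theorem no_four (hα : Fintype.card α = 24) {Z : Finset α} (hZ : Z.card ≤ 3) {F : Set (Finset α)}
    (h8 : ∀ b ∈ F, b.card = 8) (hu : ∀ b ∈ F, ∀ c ∈ F, 5 ≤ (b ∩ c).card → b = c)
    (hx : ∀ s, s.card = 5 → Z ⊆ s → ∃ b ∈ F, s ⊆ b) {w : Finset α} (hw : w.card = 4)
    (he : ∀ b ∈ F, Even (b ∩ w).card) : False := by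
  obtain ⟨Y0, y1, y2, y3⟩ : ∃ Y0, Z ⊆ Y0 ∧ Y0.card ≤ 4 ∧ Odd (Y0 ∩ w).card := by
    rcases Nat.even_or_odd (Z ∩ w).card with h | h
    · obtain ⟨q, hq, hq'⟩ := exists_mem_notMem_of_card_lt_card (show Z.card < w.card by omega)
      refine ⟨insert q Z, subset_insert _ _, by rw [card_insert_of_notMem hq']; omega, ?_⟩
      rw [insert_inter_of_mem hq, card_insert_of_notMem (by simp [hq'])]
      exact h.add_one
    · exact ⟨Z, Subset.rfl, by omega, h⟩
  obtain ⟨Y, a1, a2, a3⟩ := exists_subsuperset_card_eq (subset_union_left (s₁ := Y0) (s₂ := wᶜ)) y2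
    (le_trans (by rw [card_compl, hα, hw]; norm_num) (card_le_card subset_union_right))
  have e : Y ∩ w = Y0 ∩ w := by
    ext x
    have := @a1 x; have := @a2 x
    simp only [mem_inter, mem_union, mem_compl] at *; tauto
  have key : ∀ p, ∃ b, p ∉ Y → b ∈ F ∧ insert p Y ⊆ b := fun p => by
    by_cases hp : p ∈ Y
    · exact ⟨∅, fun h => absurd hp h⟩
    · obtain ⟨b, hb⟩ := hx (insert p Y) (by rw [card_insert_of_notMem hp, a3])
        ((y1.trans a1).trans (subset_insert _ _))
      exact ⟨b, fun _ => hb⟩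
  choose f hf using key
  have h1 : Yᶜ ⊆ (w \ Y).biUnion fun q => f q \ Y := by
    intro p hp
    rw [mem_compl] at hp
    obtain ⟨b1, b2⟩ := hf p hp
    rw [insert_subset_iff] at b2
    have : ¬ (f p ∩ w ⊆ Y ∩ w) := fun h => by
      have h2 := he _ b1
      rw [Subset.antisymm h (inter_subset_inter_right b2.2), e] at h2
      exact (Nat.not_even_iff_odd.2 y3) h2
    obtain ⟨q, q1, q2⟩ := not_subset.1 this
    rw [mem_inter] at q1 q2
    have q3 : q ∉ Y := fun h => q2 ⟨h, q1.2⟩
    have : f p = f q := hu _ b1 _ (hf q q3).1 (by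
      rw [← show (insert q Y).card = 5 by rw [card_insert_of_notMem q3, a3]]
      exact card_le_card (subset_inter (insert_subset q1.1 b2.2) (hf q q3).2))
    exact mem_biUnion.2 ⟨q, mem_sdiff.2 ⟨q1.2, q3⟩, mem_sdiff.2 ⟨this ▸ b2.1, hp⟩⟩
  have h2 := (card_le_card h1).trans (card_biUnion_le_card_mul _ _ 4 fun q hq => by
    have := hf q (mem_sdiff.1 hq).2
    rw [card_sdiff_of_subset ((subset_insert _ _).trans this.2), h8 _ this.1, a3])
  have h3 := card_le_card (sdiff_subset (s := w) (t := Y))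
  rw [card_compl, hα, a3] at h2
  omega

theorem Gk.of_family (hα : Fintype.card α = 24) {Z : Finset α} (hZ : Z.card ≤ 3) {F : Set (Finset α)}
    (h8 : ∀ b ∈ F, b.card = 8) (hu : ∀ b ∈ F, ∀ c ∈ F, 5 ≤ (b ∩ c).card → b = c)
    (he : ∀ b ∈ F, ∀ c ∈ F, Even (b ∩ c).card) (hx : ∀ s, s.card = 5 → Z ⊆ s → ∃ b ∈ F, s ⊆ b) :
    Gk Z (Cl F) := by
  have ev : ∀ a b, Cl F a → Cl F b → Even (a ∩ b).card := fun a b ha hb =>
    ha.even fun c hc => by rw [inter_comm]; exact hb.even fun d hd => he d hd c hc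
  refine ⟨Cl.emp, fun _ _ => Cl.xor, fun a ha h0 => ?_, ev, fun s hs h => ?_⟩
  · have h1 := ha.four h8 he
    have h2 : a.card ≠ 4 := fun h => no_four hα hZ h8 hu hx h fun b hb => ev _ _ (Cl.of hb) ha
    have h3 := card_pos.2 (nonempty_iff_ne_empty.2 h0)
    omega
  · obtain ⟨b, hb, h1⟩ := hx s hs h
    exact ⟨b, Cl.of hb, h8 b hb, h1⟩

/-! ### Cosets of a code of length 24, size 4096 and distance 8 -/

theorem coset (hα : Fintype.card α = 24) {C : Finset (Finset α)} (hC : C.card = 4096)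
    (hx : ∀ a ∈ C, ∀ b ∈ C, symmDiff a b ∈ C) (hw : ∀ a ∈ C, a ≠ ∅ → 8 ≤ a.card) (w : Finset α) :
    (∃ u, (univ.filter fun u => symmDiff u w ∈ C ∧ u.card ≤ 4) = {u} ∧ u.card ≤ 3) ∨
      ((univ.filter fun u => symmDiff u w ∈ C ∧ u.card ≤ 4).card = 6 ∧
        ∀ u ∈ univ.filter fun u => symmDiff u w ∈ C ∧ u.card ≤ 4, u.card = 4 ∧
          ∀ u' ∈ univ.filter fun u => symmDiff u w ∈ C ∧ u.card ≤ 4, u ≠ u' → Disjoint u u') := by
  let f : ℕ → ℕ := fun n => if n ≤ 3 then 6 else if n = 4 then 1 else 0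
  let N : Finset α → Finset (Finset α) := fun w => univ.filter fun u => symmDiff u w ∈ C ∧ u.card ≤ 4
  have d : ∀ w, ∀ u ∈ N w, ∀ u' ∈ N w, u ≠ u' → u.card = 4 ∧ Disjoint u u' := by
    intro w u hu u' hu' h
    simp only [N, mem_filter, mem_univ, true_and] at hu hu'
    have h1 := hx _ hu.1 _ hu'.1
    rw [symmDiff_symmDiff_symmDiff_comm, symmDiff_self, symmDiff_bot] at h1
    have h2 := hw _ h1 (fun e => h (symmDiff_eq_bot.1 e))
    have h3 := card_sd u u'
    exact ⟨by omega, disjoint_iff_inter_eq_empty.2 (card_eq_zero.1 (by omega))⟩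
  have alt : ∀ w, (∃ u, N w = {u} ∧ u.card ≤ 3) ∨ ((N w).card ≤ 6 ∧ ∀ u ∈ N w, u.card = 4) := by
    intro w
    by_cases h : ∃ u ∈ N w, u.card ≤ 3
    · obtain ⟨u, hu, h3⟩ := h
      refine Or.inl ⟨u, eq_singleton_iff_unique_mem.2 ⟨hu, fun u' hu' => ?_⟩, h3⟩
      by_contra hn
      have := (d w u hu u' hu' (Ne.symm hn)).1; omega
    · push Not at h
      have h4 : ∀ u ∈ N w, u.card = 4 := fun u hu => by
        have := h u hu
        simp only [N, mem_filter] at hu; omega
      refine Or.inr ⟨?_, h4⟩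
      have h1 := card_biUnion (s := N w) (t := id) (fun u hu u' hu' h => (d w u hu u' hu' h).2)
      have h2 := card_le_univ ((N w).biUnion id)
      rw [h1, sum_const_nat (m := 4) (fun u hu => by exact h4 u hu), hα] at h2
      omega
  have s1 : ∀ w, ∑ u, (if symmDiff u w ∈ C then f u.card else 0) = ∑ u ∈ N w, f u.card := by
    intro w
    rw [sum_filter]
    refine sum_congr rfl fun u _ => ?_
    by_cases h1 : symmDiff u w ∈ C
    · by_cases h2 : u.card ≤ 4
      · simp [h1, h2]
      · have : ¬ u.card ≤ 3 := by omega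
        have : u.card ≠ 4 := by omega
        simp [f, *]
    · simp [h1]
  have s2 : ∀ w, (∀ u ∈ N w, u.card = 4) → ∑ u ∈ N w, f u.card = (N w).card := fun w h => by
    rw [sum_congr rfl (g := fun _ => 1) (fun u hu => by simp [f, h u hu])]; simp
  have le : ∀ w ∈ (univ : Finset (Finset α)), ∑ u ∈ N w, f u.card ≤ 6 := by
    intro w _
    rcases alt w with ⟨u, e, h⟩ | ⟨h1, h2⟩
    · rw [e, sum_singleton]; simp [f, h]
    · rwa [s2 w h2]
  have tot : ∑ w, ∑ u ∈ N w, f u.card = ∑ _w : Finset α, 6 := by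
    simp only [← s1]
    rw [sum_comm]
    have : ∀ u : Finset α, ∑ w, (if symmDiff u w ∈ C then f u.card else 0) = 4096 * f u.card := by
      intro u
      rw [← sum_filter, sum_const, smul_eq_mul, ← hC]
      congr 1
      exact card_bij (fun w _ => symmDiff u w) (fun w hw => (mem_filter.1 hw).2)
        (fun a _ b _ h => symmDiff_right_injective u h)
        (fun c hc => ⟨symmDiff u c, by simpa using hc, by simp⟩)
    simp only [this]
    rw [← mul_sum, sum_const, card_univ, Fintype.card_finset, ← powerset_univ, sum_powerset_apply_card,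
      card_univ, hα]
    decide +kernel
  have := (sum_eq_sum_iff_of_le le).1 tot w (mem_univ _)
  rcases alt w with h | ⟨h1, h2⟩
  · exact Or.inl h
  · exact Or.inr ⟨by rwa [s2 w h2] at this, fun u hu => ⟨h2 u hu, fun u' hu' h => (d w u hu u' hu' h).2⟩⟩

theorem code_ex (hα : Fintype.card α = 24) {C : Finset (Finset α)} (hC : C.card = 4096) (h0 : ∅ ∈ C)
    (hx : ∀ a ∈ C, ∀ b ∈ C, symmDiff a b ∈ C) (hw : ∀ a ∈ C, a ≠ ∅ → 8 ≤ a.card) {s : Finset α}
    (hs : s.card = 5) : ∃ b ∈ C, b.card = 8 ∧ s ⊆ b := by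
  obtain ⟨p, T, hp, rfl, h4⟩ := card_eq_succ.1 hs
  have hT : T ∈ univ.filter fun u => symmDiff u T ∈ C ∧ u.card ≤ 4 := by simp [h0, h4]
  rcases coset hα hC hx hw T with ⟨u, e, h⟩ | ⟨h1, h2⟩
  · rw [e, mem_singleton] at hT; subst hT; omega
  · have h3 := card_biUnion (t := id) (fun u hu u' hu' h => (h2 u hu).2 u' hu' h)
    rw [sum_const_nat (m := 4) (fun u hu => by exact (h2 u hu).1), h1] at h3
    have h5 := eq_univ_of_card _ (h3.trans hα.symm)
    obtain ⟨u, hu, hpu⟩ := mem_biUnion.1 (h5 ▸ mem_univ p)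
    have h6 := (h2 u hu).2 T hT (fun e => hp (e ▸ hpu))
    refine ⟨_, (mem_filter.1 hu).2.1, ?_, ?_⟩
    · rw [h6.symmDiff_eq_sup, sup_eq_union, card_union_of_disjoint h6, (h2 u hu).1, h4]
    · rw [h6.symmDiff_eq_sup, sup_eq_union]
      exact insert_subset (mem_union_left _ hpu) subset_union_right

/-! ### The system with 77 blocks -/

section S22

variable {B : Set (Finset α)}

theorem deg22 (hα : Fintype.card α = 22) (hB : IsSteinerSystem 3 6 B) {b : Finset α} (hb : b ∈ B) :
    ((bl B).filter fun c => Disjoint b c).card = 16 := by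
  have := meet_blk hB (by norm_num) hα hb (empty_subset b) card_empty (n := 16) (by decide +kernel)
  rw [ncard_eq] at this
  simpa only [disjoint_iff_inter_eq_empty] using this

theorem pt22 (hα : Fintype.card α = 22) (hB : IsSteinerSystem 3 6 B) {b : Finset α} (hb : b ∈ B) {p : α}
    (hp : p ∉ b) : ((bl B).filter fun c => p ∈ c ∧ Disjoint b c).card = 6 := by
  have h := lam_tri (F := (bl B).filter fun c => p ∈ c) (Y := b)
    (a := fun i => if i ≤ 2 then A 22 3 6 (i + 1) else 0) (fun s hs => by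
      have e : lam ((bl B).filter fun c => p ∈ c) s ∅ = lam (bl B) (insert p s) ∅ := by
        simp only [lam, filter_filter, insert_subset_iff, and_assoc]
      have c1 := card_insert_of_notMem (fun h => hp (hs h))
      rw [e]
      split_ifs with h
      · rw [lam_small hB (by norm_num) hα (by omega), c1]
      · rw [lam, card_eq_zero, filter_eq_empty_iff]
        intro c hc h1
        rw [insert_subset_iff] at h1
        exact hp (eq_of hB (mem_bl.1 hc) hb h1.1.2 hs (by omega) ▸ h1.1.1)) b ∅ (empty_subset _) Subset.rfl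
    (disjoint_empty_left _)
  rw [hB.1 b hb, card_empty, show T _ 0 6 = ((6 : ℕ) : ℤ) by decide +kernel, Nat.cast_inj] at h
  simpa only [lam, filter_filter, empty_subset, true_and] using h

theorem com22 (hα : Fintype.card α = 22) (hB : IsSteinerSystem 3 6 B) {b c : Finset α} (hb : b ∈ B)
    (hc : c ∈ B) (h : b ≠ c) :
    ((bl B).filter fun d => Disjoint b d ∧ Disjoint c d).card = 2 * (b ∩ c).card := by
  set D := (bl B).filter fun d => Disjoint b d with hD
  have h1 : ∑ d ∈ D, (c ∩ d).card = 6 * (c \ b).card := by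
    have : ∀ d ∈ D, (c ∩ d).card = ∑ p ∈ c \ b, if p ∈ d then 1 else 0 := by
      intro d hd
      rw [← card_filter]; congr 1
      ext x
      have : x ∈ b → x ∉ d := fun h => disjoint_left.1 (mem_filter.1 hd).2 h
      simp only [mem_inter, mem_filter, mem_sdiff]; tauto
    rw [sum_congr rfl this, sum_comm, mul_comm, ← smul_eq_mul, ← sum_const]
    refine sum_congr rfl fun p hp => ?_
    rw [← card_filter, hD, filter_filter, ← pt22 hα hB hb (mem_sdiff.1 hp).2]
    congr 1; ext d; simp only [mem_filter]; tauto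
  have h2 : ∀ d ∈ D, (c ∩ d).card + (if Disjoint c d then 2 else 0) = 2 + if d = c then 4 else 0 := by
    intro d hd
    have hd' := mem_bl.1 (mem_filter.1 hd).1
    by_cases e : d = c
    · subst e
      have : ¬ Disjoint d d := fun h => by
        have := hB.1 d hd'
        rw [disjoint_self.1 h] at this; simp at this
      rw [if_neg this, if_pos rfl, inter_self, hB.1 d hd']
    · rw [if_neg e]
      rcases i22 hα hB hc hd' (Ne.symm e) with h | h
      · rw [if_pos (disjoint_iff_inter_eq_empty.2 (card_eq_zero.1 h)), h]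
      · rw [if_neg (fun h' => by rw [disjoint_iff_inter_eq_empty.1 h'] at h; simp at h), h]
  have h3 := sum_congr rfl h2
  rw [sum_add_distrib, sum_add_distrib, h1, sum_const, deg22 hα hB hb, ← sum_filter, sum_const,
    sum_ite_eq', hD, filter_filter] at h3
  have h4 := card_sdiff_add_card_inter c b
  rw [hB.1 c hc, inter_comm] at h4
  simp only [smul_eq_mul, mem_filter, mem_bl, hc, true_and] at h3
  rcases i22 hα hB hb hc h with e | e
  · rw [if_pos (disjoint_iff_inter_eq_empty.2 (card_eq_zero.1 e))] at h3; omega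
  · rw [if_neg (fun h' => by rw [disjoint_iff_inter_eq_empty.1 h'] at e; simp at e)] at h3; omega

end S22

end CfsgH1.St
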