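import Cfsg.Agent.H1.Un2

/-! Normal forms of the Witt designs inside the length-24 code; their automorphism groups. -/

set_option autoImplicit false
set_option maxRecDepth 100000

namespace CfsgH1.Un

open CfsgH7 CfsgH7.Gol CfsgH1.St Cfsg Finset MulAction
open scoped Pointwise

section Gen

variable {β γ : Type*} [Fintype β] [DecidableEq β] [Fintype γ] [DecidableEq γ]

/-- The family `B` is carried by `ι` onto the subsets of `D` with property `P`. -/
structure NF (ι : β ↪ GolayPt) (D : Finset GolayPt) (P : Finset GolayPt → Prop) (B : Set (Finset β)) : Prop where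
  rng : univ.map ι = D
  mem : ∀ b, b ∈ B ↔ P (b.map ι)

variable {ι : β ↪ GolayPt} {D : Finset GolayPt} {P : Finset GolayPt → Prop} {B : Set (Finset β)}

omit [DecidableEq β] in
theorem pre_of (h : univ.map ι = D) {s : Finset GolayPt} (hs : s ⊆ D) : ∃ b : Finset β, b.map ι = s := by
  obtain ⟨u, _, e⟩ := subset_map_iff.1 (h ▸ hs)
  exact ⟨u, e.symm⟩

omit [DecidableEq β] in
theorem pt_of (h : univ.map ι = D) {p : GolayPt} (hp : p ∈ D) : ∃ a, ι a = p := by
  simpa using (h ▸ hp : p ∈ univ.map ι)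

omit [DecidableEq β] in
theorem sub_of (h : univ.map ι = D) (b : Finset β) : b.map ι ⊆ D := h ▸ map_subset_map.2 (subset_univ b)

omit [DecidableEq β] in
theorem mem_of (h : univ.map ι = D) (a : β) : ι a ∈ D := h ▸ mem_map_of_mem _ (mem_univ a)

omit [DecidableEq β] in
theorem NF.iso {ι' : γ ↪ GolayPt} {B' : Set (Finset γ)} (h : NF ι D P B) (h' : NF ι' D P B') :
    SetSystemIso B B' := by
  choose f hf using fun a => pt_of h'.rng (mem_of h.rng a)
  have hb : Function.Bijective f := ⟨fun a b e => ι.injective (by rw [← hf, e, hf]), fun c => by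
    obtain ⟨a, e⟩ := pt_of h.rng (mem_of h'.rng c)
    exact ⟨a, ι'.injective (by rw [hf, e])⟩⟩
  have key : ∀ b : Finset β, (b.image f).map ι' = b.map ι := fun b => by
    rw [map_eq_image, map_eq_image, image_image]; congr 1; funext a; exact hf a
  refine ⟨Equiv.ofBijective f hb, Set.ext fun c => ⟨?_, fun hc => ?_⟩⟩
  · rintro ⟨b, h1, rfl⟩
    rw [h'.mem, Equiv.coe_ofBijective, key, ← h.mem]; exact h1
  · obtain ⟨b, e⟩ := pre_of h.rng (sub_of h'.rng c)
    refine ⟨b, by rw [h.mem, e, ← h'.mem]; exact hc, map_injective ι' ?_⟩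
    rw [← e, ← key]; rfl

theorem mem_aut {σ : Equiv.Perm β} : σ ∈ setSystemAut B ↔ ∀ b ∈ B, σ • b ∈ B := by
  constructor
  · intro h s hs
    have h' : σ • B = B := h
    rw [← h']; exact Set.smul_mem_smul_set hs
  · intro h
    show σ • B = B
    refine Set.eq_of_subset_of_ncard_le ?_ (by rw [Set.ncard_smul_set]) (Set.toFinite _)
    rintro _ ⟨s, hs, rfl⟩
    exact h s hs

omit [Fintype β] in
theorem map_smul {σ : Equiv.Perm β} {g : Equiv.Perm GolayPt} (h : ∀ a, g (ι a) = ι (σ a)) (b : Finset β) :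
    (σ • b).map ι = g • b.map ι := by
  rw [map_eq_image, map_eq_image, smul_finset_def, smul_finset_def, image_image, image_image]
  congr 1; funext a; exact (h a).symm

theorem NF.aut (h : NF ι D P B) {K : Subgroup M24}
    (h1 : ∀ σ ∈ setSystemAut B, ∃ g ∈ K, ∀ a, g • ι a = ι (σ a))
    (h2 : ∀ g ∈ K, (∀ p ∈ D, g • p = p) → g = 1)
    (h3 : ∀ g ∈ K, g • D = D ∧ ∀ s, P s → P (g • s)) :
    ∃ φ : K ≃* setSystemAut B, ∀ (g : K) a, ι ((φ g : Equiv.Perm β) a) = (g : M24) • ι a := by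
  choose f hf using fun (g : K) a => pt_of h.rng ((h3 g g.2).1 ▸ smul_mem_smul_finset (a := (g : M24)) (mem_of h.rng a))
  letI : MulAction K β :=
    { smul := f
      one_smul := fun a => ι.injective (by show ι (f 1 a) = _; rw [hf]; rfl)
      mul_smul := fun x y a => ι.injective (by
        show ι (f (x * y) a) = ι (f x (f y a)); rw [hf, hf, hf]; rfl) }
  have e : ∀ (g : K) a, ι (toPermHom K β g a) = (g : M24) • ι a := hf
  have hm : ∀ g, toPermHom K β g ∈ setSystemAut B := fun g => mem_aut.2 fun b hb => by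
    rw [h.mem, map_smul (g := (g : M24)) (fun a => (e g a).symm)]
    exact (h3 g g.2).2 _ ((h.mem b).1 hb)
  refine ⟨MulEquiv.ofBijective ((toPermHom K β).codRestrict _ hm) ⟨?_, fun σ => ?_⟩, e⟩
  · rw [injective_iff_map_eq_one]
    intro g hg
    refine Subtype.ext (h2 g g.2 fun p hp => ?_)
    obtain ⟨a, rfl⟩ := pt_of h.rng hp
    rw [← e, show toPermHom K β g = 1 from congrArg Subtype.val hg]; rfl
  · obtain ⟨g, hg, h4⟩ := h1 σ σ.2
    exact ⟨⟨g, hg⟩, Subtype.ext (Equiv.ext fun a => ι.injective ((e _ a).trans (h4 a)))⟩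

omit [Fintype β] in
theorem mpt_of {K : Subgroup M24} (φ : K ≃* setSystemAut B)
    (hφ : ∀ (g : K) a, ι ((φ g : Equiv.Perm β) a) = (g : M24) • ι a) (k : ℕ)
    (h : ∀ x y : Fin k ↪ β, ∃ g ∈ K, ∀ i, g • ι (x i) = ι (y i)) :
    IsMultiplyPretransitive (setSystemAut B) β k := ⟨fun x y => by
  obtain ⟨g, hg, e⟩ := h x y
  exact ⟨φ ⟨g, hg⟩, Function.Embedding.ext fun i => ι.injective ((hφ _ _).trans (e i))⟩⟩

omit [DecidableEq β] in
theorem via_fz (h : univ.map ι = D) (σ : Equiv.Perm β) : Fz Dᶜ (σ.viaEmbedding ι) := fun p hp =>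
  σ.viaEmbedding_apply_of_notMem ι p (by rintro ⟨a, rfl⟩; exact mem_compl.1 hp (mem_of h a))

theorem core24 {Z : Finset GolayPt} (hZ : Z.card ≤ 5) (hn : Nf Z) {C : Finset GolayPt → Prop} (hC : Gk Z C) :
    ∃ π, Fz Z π ∧ ∀ s, Z ⊆ s → s.card = 8 → (C (π • s) ↔ s ∈ octads) := by
  obtain ⟨π, h1, h2⟩ := hn C hC
  refine ⟨π, h1, fun s a1 a2 => ⟨fun h => ?_, fun h => h2 s h.1 a1⟩⟩
  obtain ⟨u, u1, u2, u3⟩ := exists_subsuperset_card_eq a1 hZ (by omega)
  obtain ⟨o, ho, h3⟩ := oct_ex u3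
  rwa [(gk_inv C π hC h1).eq h (h2 o ho.1 (u1.trans h3)) a2 ho.2 (u3 ▸ card_le_card (subset_inter u2 h3))]

theorem norm24 {Z : Finset GolayPt} (hZ : Z.card ≤ 3) (hn : Nf Z) {t k : ℕ} (hβ : Fintype.card β + Z.card = 24)
    (hB : IsSteinerSystem t k B) (ht : t + Z.card = 5) (hk : k + Z.card = 8)
    (hev : ∀ b ∈ B, ∀ c ∈ B, b ≠ c → Even (Z.card + (b ∩ c).card)) :
    ∃ ι : β ↪ GolayPt, NF ι Zᶜ (fun s => Z ∪ s ∈ octads) B := by
  obtain ⟨ι, hι⟩ := Function.Embedding.exists_of_card_eq_finset (α := β) (s := Zᶜ)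
    (by rw [card_compl, cardP]; omega)
  have dj : ∀ b : Finset β, Disjoint Z (b.map ι) := fun b => disjoint_compl_right.mono_right (sub_of hι b)
  have c1 : ∀ b : Finset β, (Z ∪ b.map ι).card = Z.card + b.card := fun b => by
    rw [card_union_of_disjoint (dj b), card_map]
  have c2 : ∀ b c : Finset β, ((Z ∪ b.map ι) ∩ (Z ∪ c.map ι)).card = Z.card + (b ∩ c).card := fun b c => by
    rw [← union_inter_distrib_left, ← map_inter, c1]
  have hG := Gk.of_family cardP hZ (F := {x | ∃ b ∈ B, x = Z ∪ b.map ι})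
    (by rintro _ ⟨b, hb, rfl⟩; rw [c1, hB.1 b hb]; omega)
    (by
      rintro _ ⟨b, hb, rfl⟩ _ ⟨c, hc, rfl⟩ h
      rw [c2] at h
      rw [eq_of hB hb hc inter_subset_left inter_subset_right (by omega)])
    (by
      rintro _ ⟨b, hb, rfl⟩ _ ⟨c, hc, rfl⟩
      rw [c2]
      by_cases e : b = c
      · rw [← e, inter_self, hB.1 b hb, add_comm, hk]; decide
      · exact hev b hb c hc e)
    (by
      intro s hs h
      obtain ⟨u, e⟩ := pre_of hι (s := s \ Z) (fun x hx => mem_compl.2 (mem_sdiff.1 hx).2)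
      obtain ⟨b, hb, -⟩ := hB.2 u (by rw [← card_map ι, e, card_sdiff_of_subset h]; omega)
      refine ⟨_, ⟨b, hb.1, rfl⟩, ?_⟩
      rw [← union_sdiff_of_subset h, ← e]
      exact union_subset_union_right (map_subset_map.2 hb.2))
  obtain ⟨π, h1, h2⟩ := core24 (by omega) hn hG
  have e1 : ∀ b : Finset β, π • b.map (ι.trans π⁻¹.toEmbedding) = b.map ι := fun b => by
    rw [← map_map, map_eq_image, smul_finset_def, image_image]
    exact (image_congr fun x _ => by simp).trans image_id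
  have e2 : ∀ b : Finset β, π • (Z ∪ b.map (ι.trans π⁻¹.toEmbedding)) = Z ∪ b.map ι := fun b => by
    rw [smul_finset_union, h1.smul, e1]
  have e3 : ∀ b : Finset β, (Z ∪ b.map (ι.trans π⁻¹.toEmbedding)).card = Z.card + b.card := fun b => by
    rw [← card_smul_finset π, e2, c1]
  refine ⟨ι.trans π⁻¹.toEmbedding, ?_, fun b => ⟨fun hb => ?_, fun hb => ?_⟩⟩
  · apply MulAction.injective π
    simp only [e1, hι]
    ext p
    rw [← inv_smul_mem_iff, mem_compl, mem_compl, inv_smul_mem_iff, h1.smul]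
  · rw [← h2 _ subset_union_left (by rw [e3, hB.1 b hb]; omega), e2]
    exact Cl.of ⟨b, hb, rfl⟩
  · have a1 := (h2 _ subset_union_left hb.2).2 hb
    have a2 := hb.2
    rw [e3] at a2
    rw [e2] at a1
    obtain ⟨u, u1, u2⟩ := exists_subset_card_eq (show t ≤ b.card by omega)
    obtain ⟨c, hc, -⟩ := hB.2 u u2
    have a3 := hG.eq a1 (Cl.of ⟨c, hc.1, rfl⟩) (by rw [c1, a2]) (by rw [c1, hB.1 c hc.1]; omega) (by
      rw [c2]; have := card_le_card (subset_inter u1 hc.2); omega)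
    have a4 := congrArg (· \ Z) a3
    simp only [union_sdiff_cancel_left (dj _)] at a4
    rw [map_injective ι a4]; exact hc.1

theorem cZ0 : (S 0).card = 0 := by decide +kernel
theorem cZ1 : (S 0x800000).card = 1 := by decide +kernel
theorem cZ2 : (S 0x800001).card = 2 := by decide +kernel
theorem cZ3 : (S 0x800003).card = 3 := by decide +kernel

theorem n24 (hβ : Fintype.card β = 24) (hB : IsSteinerSystem 5 8 B) :
    ∃ ι : β ↪ GolayPt, NF ι (S 0)ᶜ (fun s => S 0 ∪ s ∈ octads) B :=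
  norm24 (by rw [cZ0]; norm_num) nf0 (by rw [cZ0, hβ]) hB (by rw [cZ0]) (by rw [cZ0]) fun b hb c hc h => by
    have := i24 hβ hB hb hc h
    rw [cZ0, Nat.even_iff]; omega

theorem n23 (hβ : Fintype.card β = 23) (hB : IsSteinerSystem 4 7 B) :
    ∃ ι : β ↪ GolayPt, NF ι (S 0x800000)ᶜ (fun s => S 0x800000 ∪ s ∈ octads) B :=
  norm24 (by rw [cZ1]; norm_num) nf1 (by rw [cZ1, hβ]) hB (by rw [cZ1]) (by rw [cZ1]) fun b hb c hc h => by
    have := i23 hβ hB hb hc h
    rw [cZ1, Nat.even_iff]; omega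

theorem n22 (hβ : Fintype.card β = 22) (hB : IsSteinerSystem 3 6 B) :
    ∃ ι : β ↪ GolayPt, NF ι (S 0x800001)ᶜ (fun s => S 0x800001 ∪ s ∈ octads) B :=
  norm24 (by rw [cZ2]; norm_num) nf2 (by rw [cZ2, hβ]) hB (by rw [cZ2]) (by rw [cZ2]) fun b hb c hc h => by
    have := i22 hβ hB hb hc h
    rw [cZ2, Nat.even_iff]; omega

theorem n21 (hβ : Fintype.card β = 21) (hB : IsSteinerSystem 2 5 B) :
    ∃ ι : β ↪ GolayPt, NF ι (S 0x800003)ᶜ (fun s => S 0x800003 ∪ s ∈ octads) B :=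
  norm24 (by rw [cZ3]) nf3 (by rw [cZ3, hβ]) hB (by rw [cZ3]) (by rw [cZ3]) fun b hb c hc h => by
    have := i21 hβ hB hb hc h
    rw [cZ3, Nat.even_iff]; omega

/-- The extension of an automorphism keeps the octads through `Z`. -/
theorem via_oct {Z : Finset GolayPt} (h : NF ι Zᶜ (fun s => Z ∪ s ∈ octads) B) {σ : Equiv.Perm β}
    (hσ : σ ∈ setSystemAut B) {o : Finset GolayPt} (ho : o ∈ octads) (hZ : Z ⊆ o) :
    σ.viaEmbedding ι • o ∈ octads := by
  obtain ⟨b, e⟩ := pre_of h.rng (s := o \ Z) (fun x hx => mem_compl.2 (mem_sdiff.1 hx).2)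
  have h1 : b ∈ B := by rw [h.mem, e, union_sdiff_of_subset hZ]; exact ho
  have h2 := (h.mem _).1 (mem_aut.1 hσ b h1)
  have h3 := via_fz h.rng σ
  rw [compl_compl] at h3
  rw [map_smul (σ.viaEmbedding_apply ι), e] at h2
  rwa [← union_sdiff_of_subset hZ, smul_finset_union, h3.smul]

theorem m24_of {g : Equiv.Perm GolayPt} (h : ∀ l ∈ L12, g • S l ∈ U) : g ∈ M24 :=
  mem_M24.2 fun s hs => span_of (C := fun a => g • a ∈ U) (by norm_num) sp12
    (by rw [smul_finset_empty]; exact U_empty) (fun a b ha hb => by rw [smul_finset_symmDiff]; exact U_xor ha hb)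
    h hs (by rw [S_zero]; exact empty_subset _)

theorem L12_oct : ∀ l ∈ L12, S l ∈ octads ∧ S 0x800000 ⊆ S l := fun l hl => by
  have := lall_iff.1 (by decide +kernel : lall (fun l => band (isOct l) (subs 0x800000 l)) L12 = true) l hl
  exact ⟨oct_of (band_iff.1 this).1, S_subset (band_iff.1 this).2⟩

theorem a24 (h : NF ι (S 0)ᶜ (fun s => S 0 ∪ s ∈ octads) B) : ∃ φ : (⊤ : Subgroup M24) ≃* setSystemAut B,
    ∀ (g : (⊤ : Subgroup M24)) a, ι ((φ g : Equiv.Perm β) a) = (g : M24) • ι a := by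
  refine h.aut (fun σ hσ => ⟨⟨σ.viaEmbedding ι, m24_of fun l hl => (via_oct h hσ (L12_oct l hl).1 ?_).1⟩, trivial,
    σ.viaEmbedding_apply ι⟩) (fun g _ hg => ?_) fun g _ => ?_
  · rw [S_zero]; exact empty_subset _
  · exact Subtype.ext (Equiv.ext fun p => hg p (by rw [S_zero]; simp))
  · rw [S_zero]
    exact ⟨stab_compl (smul_finset_empty _), fun s hs => by rw [empty_union] at *; exact (moct g).2 hs⟩

theorem Z1_eq : S 0x800000 = {px 23} := by decide +kernel
theorem Z2_eq : S 0x800001 = {px 23, px 0} := by decide +kernel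

theorem a23 (h : NF ι (S 0x800000)ᶜ (fun s => S 0x800000 ∪ s ∈ octads) B) : ∃ φ : K23 ≃* setSystemAut B,
    ∀ (g : K23) a, ι ((φ g : Equiv.Perm β) a) = (g : M24) • ι a := by
  refine h.aut (fun σ hσ => ⟨⟨σ.viaEmbedding ι, m24_of fun l hl => (via_oct h hσ (L12_oct l hl).1 (L12_oct l hl).2).1⟩,
    via_fz h.rng σ _ (by decide +kernel), σ.viaEmbedding_apply ι⟩) (fun g h1 hg => ?_) fun g hg => ?_
  · refine Subtype.ext (Equiv.ext fun p => ?_)
    by_cases e : p = px 23
    · rw [e]; exact h1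
    · exact hg p (by rw [Z1_eq]; simpa using e)
  · have e : g • S 0x800000 = S 0x800000 := by rw [Z1_eq, smul_finset_singleton, hg]
    exact ⟨stab_compl e, fun s hs => by rw [← e, ← smul_finset_union]; exact (moct g).2 hs⟩

theorem even_U {a b : Finset GolayPt} (ha : a ∈ U) (hb : b ∈ U) : Even (a ∩ b).card := by
  have h1 := card_sd a b
  have h2 := wt ha
  have h3 := wt hb
  have h4 := wt (U_xor ha hb)
  rw [Nat.even_iff]; omega

theorem dual12 {x : Finset GolayPt} (h : ∀ l ∈ L12, Even (S l ∩ x).card) : x ∈ U :=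
  dual fun o ho => span_of (C := fun a => Even (a ∩ x).card) (by norm_num) sp12 (by simp) (fun a b ha hb => by
    have := sd_inter a b x
    rw [Nat.even_iff] at *; omega) h ho.1 (by rw [S_zero]; exact empty_subset _)

theorem L11_oct : ∀ l ∈ L11, S l ∈ octads ∧ S 0x800001 ⊆ S l := fun l hl => by
  have := lall_iff.1 (by decide +kernel : lall (fun l => band (isOct l) (subs 0x800001 l)) L11 = true) l hl
  exact ⟨oct_of (band_iff.1 this).1, S_subset (band_iff.1 this).2⟩

theorem ext22 {g : Equiv.Perm GolayPt} (h0 : Fz (S 0x800001) g)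
    (h1 : ∀ o ∈ octads, S 0x800001 ⊆ o → g • o ∈ octads) (h2 : ∀ o ∈ octads, S 0x800001 ⊆ o → g⁻¹ • o ∈ octads) :
    g ∈ M24 ∨ Equiv.swap (px 23) (px 0) * g ∈ M24 := by
  have ev : ∀ l ∈ L11, Even (S l ∩ g • S 0xb1d400).card := fun l hl => by
    have := even_U (h2 _ (L11_oct l hl).1 (L11_oct l hl).2).1 (U_of (a := 0xb1d400) (by decide +kernel))
    rwa [← card_smul_finset g, smul_finset_inter, smul_inv_smul] at this
  have sw : ∀ s : Finset GolayPt, S 0x800001 ⊆ s → Equiv.swap (px 23) (px 0) • s = s := fun s hs => by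
    ext p
    rw [← inv_smul_mem_iff, Equiv.swap_inv, Equiv.Perm.smul_def, Equiv.swap_apply_def]
    have a1 : px 23 ∈ s := hs (by decide +kernel)
    have a2 : px 0 ∈ s := hs (by decide +kernel)
    split_ifs with c1 c2
    · simp [c1, a1, a2]
    · simp [c2, a1, a2]
    · rfl
  by_cases e : Even (S 0xb1d400 ∩ g • S 0xb1d400).card
  · refine Or.inl (m24_of fun l hl => ?_)
    rcases List.mem_cons.1 hl with rfl | hl
    · exact dual12 (List.forall_mem_cons.2 ⟨e, ev⟩)
    · exact (h1 _ (L11_oct l hl).1 (L11_oct l hl).2).1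
  · refine Or.inr (m24_of fun l hl => ?_)
    rw [mul_smul]
    rcases List.mem_cons.1 hl with rfl | hl
    · refine dual12 (List.forall_mem_cons.2 ⟨?_, fun l hl => ?_⟩)
      · have a1 : px 23 ∈ g • S 0xb1d400 := h0 (px 23) (by decide +kernel) ▸
          smul_mem_smul_finset (a := g) (by decide +kernel)
        have a2 : px 0 ∉ g • S 0xb1d400 := by
          rw [← h0 (px 0) (by decide +kernel), ← Equiv.Perm.smul_def, smul_mem_smul_finset_iff]; decide +kernel
        have a3 : px 23 ∈ S 0xb1d400 := by decide +kernel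
        have a4 : px 0 ∉ S 0xb1d400 := by decide +kernel
        have : S 0xb1d400 ∩ g • S 0xb1d400 =
            insert (px 23) (S 0xb1d400 ∩ Equiv.swap (px 23) (px 0) • g • S 0xb1d400) := by
          ext p
          rw [mem_insert, mem_inter, mem_inter, ← inv_smul_mem_iff (a := Equiv.swap _ _), Equiv.swap_inv,
            Equiv.Perm.smul_def, Equiv.swap_apply_def]
          split_ifs with c1 c2
          · simp [c1, a1, a3]
          · simp [c2, a4]; decide +kernel
          · simp [c1]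
        rw [this, card_insert_of_notMem (by
          rw [mem_inter, ← inv_smul_mem_iff, Equiv.swap_inv, Equiv.Perm.smul_def, Equiv.swap_apply_left]
          exact fun h => a2 h.2), Nat.even_add_one, not_not] at e
        exact e
      · rw [← sw _ (L11_oct l hl).2, ← smul_finset_inter, card_smul_finset]; exact ev l hl
    · rw [sw _ (h0.smul ▸ smul_finset_subset_smul_finset (L11_oct l hl).2)]
      exact (h1 _ (L11_oct l hl).1 (L11_oct l hl).2).1

theorem a22 (h : NF ι (S 0x800001)ᶜ (fun s => S 0x800001 ∪ s ∈ octads) B) : ∃ φ : K2 ≃* setSystemAut B,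
    ∀ (g : K2) a, ι ((φ g : Equiv.Perm β) a) = (g : M24) • ι a := by
  refine h.aut (fun σ hσ => ?_) (fun g _ hg => ?_) fun g hg => ?_
  · have h0 := via_fz h.rng σ
    rw [compl_compl] at h0
    rcases ext22 h0 (fun o => via_oct h hσ) (fun o => via_oct h (Subgroup.inv_mem _ hσ)) with h1 | h1
    · exact ⟨⟨_, h1⟩, h0.smul, σ.viaEmbedding_apply ι⟩
    · refine ⟨⟨_, h1⟩, ?_, fun a => ?_⟩
      · show (Equiv.swap (px 23) (px 0) * σ.viaEmbedding ι) • S 0x800001 = S 0x800001
        rw [mul_smul, h0.smul]; decide +kernel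
      · show Equiv.swap (px 23) (px 0) (σ.viaEmbedding ι (ι a)) = _
        have := mem_of h.rng (σ a)
        rw [Z2_eq, mem_compl, mem_insert, mem_singleton, not_or] at this
        rw [σ.viaEmbedding_apply, Equiv.swap_apply_of_ne_of_ne this.1 this.2]
  · exact fx_one (fx_of (a := 0x7ffffe) fun p hp => hg p ((by decide +kernel : S 0x7ffffe = (S 0x800001)ᶜ) ▸ hp))
      [[0xd4b004]] (by decide +kernel)
  · have e : g • S 0x800001 = S 0x800001 := hg
    exact ⟨stab_compl e, fun s hs => by rw [← e, ← smul_finset_union]; exact (moct g).2 hs⟩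

/-! ### The hexad system -/

theorem hex_ex {d u : Finset GolayPt} (hd : d ∈ dodecads) (h1 : u ⊆ d) (h2 : u.card = 5) :
    ∃ s ∈ hexadsOn d, u ⊆ s := by
  obtain ⟨o, ho, h⟩ := oct_ex h2
  have h3 := card_le_card (subset_inter h h1)
  have h4 := oct_dod ho hd
  exact ⟨_, ⟨by omega, o, ho, rfl⟩, subset_inter h h1⟩

theorem hex_sub {d s : Finset GolayPt} (h : s ∈ hexadsOn d) : s ⊆ d := by
  obtain ⟨_, o, _, rfl⟩ := h; exact inter_subset_right

theorem hex_eq {d s t : Finset GolayPt} (hs : s ∈ hexadsOn d) (ht : t ∈ hexadsOn d) (h : 5 ≤ (s ∩ t).card) :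
    s = t := by
  obtain ⟨_, o, ho, rfl⟩ := hs
  obtain ⟨_, o', ho', rfl⟩ := ht
  rw [oct_eq ho ho' (h.trans (card_le_card (inter_subset_inter inter_subset_left inter_subset_left)))]

theorem hex_compl {d s : Finset GolayPt} (hd : d ∈ dodecads) (h : s ∈ hexadsOn d) : d \ s ∈ hexadsOn d := by
  obtain ⟨h6, o, ho, rfl⟩ := h
  have h1 := card_sd o d
  refine ⟨by rw [card_sdiff_of_subset inter_subset_right, hd.2, h6], symmDiff o d,
    ⟨U_xor ho.1 hd.1, by rw [ho.2, hd.2] at h1; omega⟩, ?_⟩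
  ext x; simp only [mem_inter, mem_symmDiff, mem_sdiff]; tauto

theorem mhex (c : M24) {d s : Finset GolayPt} : c • s ∈ hexadsOn (c • d) ↔ s ∈ hexadsOn d := by
  have key : ∀ (c : M24) (d s : Finset GolayPt), s ∈ hexadsOn d → c • s ∈ hexadsOn (c • d) := by
    rintro c d _ ⟨h, o, ho, rfl⟩
    exact ⟨by rwa [card_smul_finset], c • o, (moct c).2 ho, smul_finset_inter.symm⟩
  exact ⟨fun h => by simpa using key c⁻¹ _ _ h, key c d s⟩

theorem core12 {C : Finset GolayPt → Prop} (hC : Hk C) (h0 : ∀ s, C s → px 0 ∈ s) :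
    ∃ π, Fz (S 0xfacca1) π ∧ ∀ s, C (π • s) ↔ s ∈ hexadsOn (S 0x5335f) ∧ px 0 ∈ s := by
  obtain ⟨π, h1, h2⟩ := nf12 hC
  have key : ∀ s, s ∈ hexadsOn (S 0x5335f) ∧ px 0 ∈ s → C (π • s) := by
    rintro _ ⟨⟨a1, o, ho, rfl⟩, a2⟩
    exact h2 o ho a1 (mem_inter.1 a2).1
  refine ⟨π, h1, fun s => ⟨fun h => ?_, key s⟩⟩
  have hC' := hk_inv C π hC h1
  have a0 : px 0 ∈ s := by
    have := h0 _ h
    rwa [← h1 (px 0) (by decide +kernel), ← Equiv.Perm.smul_def, smul_mem_smul_finset_iff] at this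
  obtain ⟨u, u1, u2, u3⟩ := exists_subsuperset_card_eq (singleton_subset_iff.2 a0) (n := 5) (by simp)
    (by rw [(hC'.sub s h).2]; norm_num)
  obtain ⟨s', a1, a2⟩ := hex_ex dod0 (u2.trans (hC'.sub s h).1) u3
  have a3 := card_le_card (subset_inter u2 a2)
  by_cases e : s = s'
  · exact ⟨e ▸ a1, a0⟩
  · have := hC'.int s s' h (key s' ⟨a1, a2 (u1 (mem_singleton_self _))⟩) e; omega

omit [Fintype β] [DecidableEq β] in
theorem smul_trans (π : Equiv.Perm GolayPt) (b : Finset β) :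
    π • b.map (ι.trans π⁻¹.toEmbedding) = b.map ι := by
  rw [← map_map, map_eq_image, smul_finset_def, image_image]
  exact (image_congr fun x _ => by simp).trans image_id

theorem n12 (hβ : Fintype.card β = 12) (hB : IsSteinerSystem 5 6 B) :
    ∃ ι : β ↪ GolayPt, NF ι (S 0x5335f) (fun s => s ∈ hexadsOn (S 0x5335f)) B := by
  obtain ⟨ι, hι⟩ := Function.Embedding.exists_of_card_eq_finset (α := β) (s := S 0x5335f) (by rw [hβ, dod0.2])
  have hk : Hk fun s => px 0 ∈ s ∧ ∃ b ∈ B, b.map ι = s := by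
    refine ⟨?_, ?_, ?_⟩
    · rintro _ ⟨_, b, hb, rfl⟩
      exact ⟨sub_of hι b, by rw [card_map, hB.1 b hb]⟩
    · rintro _ _ ⟨a1, b, hb, rfl⟩ ⟨a2, c, hc, rfl⟩ h
      have := card_pos.2 ⟨_, mem_inter.2 ⟨a1, a2⟩⟩
      rw [← map_inter, card_map] at this ⊢
      have := i12 hβ hB hb hc fun e => h (by rw [e]); omega
    · intro s a1 a2 a3
      obtain ⟨u, rfl⟩ := pre_of hι a1
      obtain ⟨b, hb, -⟩ := hB.2 u (by rwa [card_map] at a2)
      exact ⟨_, ⟨map_subset_map.2 hb.2 a3, b, hb.1, rfl⟩, map_subset_map.2 hb.2⟩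
  obtain ⟨π, h1, h2⟩ := core12 hk fun _ h => h.1
  · have e0 : univ.map (ι.trans π⁻¹.toEmbedding) = S 0x5335f := by
      apply MulAction.injective π
      simp only [smul_trans, hι, fz_D h1]
    have key : ∀ b : Finset β, px 0 ∈ b.map (ι.trans π⁻¹.toEmbedding) →
        (b ∈ B ↔ b.map (ι.trans π⁻¹.toEmbedding) ∈ hexadsOn (S 0x5335f)) := by
      intro b hb
      have := h2 (b.map (ι.trans π⁻¹.toEmbedding))
      rw [smul_trans, and_iff_left hb] at this
      rw [← this]
      refine ⟨fun h => ⟨?_, b, h, rfl⟩, fun ⟨_, c, hc, e⟩ => map_injective ι e ▸ hc⟩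
      rw [← smul_trans π, ← h1 (px 0) (by decide +kernel)]; exact smul_mem_smul_finset hb
    refine ⟨_, e0, fun b => ?_⟩
    by_cases hb : px 0 ∈ b.map (ι.trans π⁻¹.toEmbedding)
    · exact key b hb
    · have e1 : bᶜ.map (ι.trans π⁻¹.toEmbedding) = S 0x5335f \ b.map (ι.trans π⁻¹.toEmbedding) := by
        rw [← e0, compl_eq_univ_sdiff, Finset.map_sdiff]
      have := key bᶜ (by rw [e1, mem_sdiff]; exact ⟨by decide +kernel, hb⟩)
      rw [e1] at this
      constructor
      · intro h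
        have := hex_compl dod0 (this.1 (compl12 hβ hB h))
        rwa [Finset.sdiff_sdiff_eq_self (sub_of e0 b)] at this
      · intro h
        simpa using compl12 hβ hB (this.2 (hex_compl dod0 h))

theorem D1_eq : S 0x5335e = (S 0x5335f).erase (px 0) := by decide +kernel

theorem n11 (hβ : Fintype.card β = 11) (hB : IsSteinerSystem 4 5 B) :
    ∃ ι : β ↪ GolayPt, NF ι (S 0x5335e) (fun s => insert (px 0) s ∈ hexadsOn (S 0x5335f)) B := by
  obtain ⟨ι, hι⟩ := Function.Embedding.exists_of_card_eq_finset (α := β) (s := S 0x5335e)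
    (by rw [hβ]; decide +kernel)
  have n0 : ∀ b : Finset β, px 0 ∉ b.map ι := fun b h => absurd (sub_of hι b h) (by decide +kernel)
  have hk : Hk fun s => ∃ b ∈ B, insert (px 0) (b.map ι) = s := by
    refine ⟨?_, ?_, ?_⟩
    · rintro _ ⟨b, hb, rfl⟩
      exact ⟨insert_subset (by decide +kernel) ((sub_of hι b).trans (D1_eq ▸ erase_subset _ _)),
        by rw [card_insert_of_notMem (n0 b), card_map, hB.1 b hb]⟩
    · rintro _ _ ⟨b, hb, rfl⟩ ⟨c, hc, rfl⟩ h
      rw [← insert_inter_distrib, ← map_inter, card_insert_of_notMem (n0 _), card_map]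
      have := i11 hβ hB hb hc fun e => h (by rw [e]); omega
    · intro s a1 a2 a3
      obtain ⟨u, e⟩ := pre_of hι (D1_eq ▸ erase_subset_erase (px 0) a1)
      obtain ⟨b, hb, -⟩ := hB.2 u (by rw [← card_map ι, e, card_erase_of_mem a3, a2])
      refine ⟨_, ⟨b, hb.1, rfl⟩, ?_⟩
      rw [← insert_erase a3, ← e]
      exact insert_subset_insert _ (map_subset_map.2 hb.2)
  obtain ⟨π, h1, h2⟩ := core12 hk
    (by rintro _ ⟨b, _, rfl⟩; exact mem_insert_self _ _)
  · have p0 : π • px 0 = px 0 := h1 (px 0) (by decide +kernel)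
    refine ⟨ι.trans π⁻¹.toEmbedding, ?_, fun b => ?_⟩
    · apply MulAction.injective π
      simp only [smul_trans, hι, D1_eq, erase_eq, smul_finset_sdiff, smul_finset_singleton, fz_D h1, p0]
    · have := h2 (insert (px 0) (b.map (ι.trans π⁻¹.toEmbedding)))
      rw [and_iff_left (mem_insert_self _ _), smul_finset_insert, smul_trans, p0] at this
      rw [← this]
      refine ⟨fun h => ⟨b, h, rfl⟩, fun ⟨c, hc, e⟩ => ?_⟩
      have := congrArg (·.erase (px 0)) e
      simp only [erase_insert (n0 _)] at this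
      exact map_injective ι this ▸ hc

/-- Octads meeting the standard dodecad in six points. -/
def OL : List Nat := [0x104157, 0x400a4f, 0xa0031d, 0x803da, 0x149f, 0x22114e, 0x9959, 0x821253, 0x527c, 0x10132b, 0x409316, 0x81745, 0xa205d, 0x293e, 0x80254b, 0xe21b, 0x202656, 0x22387, 0x10a34c, 0x402371, 0xb067, 0x50305a, 0x40710d, 0x283113, 0x8031d4, 0x88320e, 0x103a15, 0x2032c9, 0x23718, 0x7b42, 0x21007b, 0x9810f, 0x41055c, 0x13021e, 0x182d5, 0x10f13, 0x810366, 0x34349, 0x91104d, 0x91856, 0x31135, 0x81511a, 0x4111c3, 0x215207, 0x491219, 0x1964a, 0x11b8c, 0x311350, 0xc12017, 0x160ce, 0x112199, 0x212945, 0x3a152, 0x1262d, 0x192243, 0x812a58, 0x61230a, 0x96314, 0x3380b, 0x21b01c, 0x17451, 0x113506, 0x93168, 0x132b2, 0x433244, 0x81b301, 0x84805e, 0x46011b, 0x401ed, 0xc0237, 0x140659, 0x4470e, 0x248343, 0x60b54, 0xc504b, 0x641055, 0x841907, 0x1c111c, 0x41572, 0x6920d, 0x241a1a, 0x1412c6, 0x45391, 0xc41348, 0x34200f, 0x428d3, 0x4a515, 0x4c2146, 0x246158,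 0x44229c, 0x846245, 0x6226a, 0xc2b09, 0x942312, 0x67016, 0x843039, 0x43c4c, 0x4b18a, 0x163141, 0x443603, 0xcb250, 0x243324, 0x5481d, 0x70447, 0x250196, 0x15094a, 0x8d0151, 0x85028b, 0x2d024c, 0x454252, 0x550305, 0x58338, 0x45102e, 0x159013, 0x710d8, 0x251509, 0x5d144, 0x851614, 0x51a61, 0xf1302, 0xd241a, 0x45a049, 0x152074, 0x56123, 0x87210c, 0x5aa06, 0x272211, 0x527c0, 0xd3085, 0xa53042, 0x453910, 0x157208]

/-- The test for hexads. -/
noncomputable def isHex (a : Nat) : Bool := lany (fun o => Nat.beq (Nat.land o 0x5335f) a) OL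

theorem hex_of {a : Nat} (h : isHex a = true) : S a ∈ hexadsOn (S 0x5335f) := by
  obtain ⟨o, ho, e⟩ := lany_iff.1 h
  have := lall_iff.1 (by decide +kernel :
    lall (fun o => band (isOct o) (Nat.beq (cnt 5 24 (Nat.land o 0x5335f)) 6)) OL = true) o ho
  rw [← Nat.eq_of_beq_eq_true e]
  exact ⟨by rw [card_S, Nat.eq_of_beq_eq_true (band_iff.1 this).2], _, oct_of (band_iff.1 this).1, msk_inter _ _⟩

theorem isHex_of {a : Nat} (ha : a < 2 ^ 24) (h : S a ∈ hexadsOn (S 0x5335f)) : isHex a = true := by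
  have key : nall2 (fun c => force (cwm c) fun a => force (Nat.land a 0x5335f) fun b =>
      bor (Bool.not (band (Nat.beq (cnt 5 24 a) 8) (Nat.beq (cnt 5 24 b) 6))) (isHex b)) 0 64 64 = true := by
    decide +kernel
  obtain ⟨h6, o, ho, e⟩ := h
  obtain ⟨c, hc, rfl⟩ := U_surj ho.1
  have := nall2_spec key c (Nat.zero_le c) hc
  rw [msk_inter] at e
  have e' : Nat.land (cwm c) 0x5335f = a := S_inj (lt_of_le_of_lt Nat.and_le_right (by norm_num)) ha e
  rw [force_eq, force_eq, e', ← card_S, ← card_S, ho.2, h6] at this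
  exact (bor_iff.1 this).resolve_left (by decide)

theorem lor_lt {a b : Nat} (ha : a < 2 ^ 24) (hb : b < 24) : Nat.lor a (sing b) < 2 ^ 24 := by
  refine Nat.or_lt_two_pow ha ?_
  show 1 <<< b < _
  rw [Nat.shiftLeft_eq, one_mul]
  exact Nat.pow_lt_pow_right (by norm_num) hb

/-- Lazy implication. -/
noncomputable def bimp (a b : Bool) : Bool := Bool.rec true b a

theorem bimp_iff {a b : Bool} : bimp a b = true ↔ (a = true → b = true) := by cases a <;> simp [bimp]

theorem rig_chk : nall (fun a => bimp (tb 0x52340 a) (nall (fun b => bimp (tb 0x52340 b)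
    (bimp (isHex (Nat.lor (Nat.lor 0x17 (sing a)) (sing b))) (nall (fun c => bimp (tb 0x52340 c)
    (bimp (isHex (Nat.lor (Nat.lor 0xf (sing a)) (sing c))) (nall (fun d => bimp (tb 0x52340 d)
    (bimp (isHex (Nat.lor (Nat.lor 0x1007 (sing a)) (sing d)))
    (bimp (isHex (Nat.lor (Nat.lor 0x1d (sing a)) (sing d))) (nall (fun e => bimp (tb 0x52340 e)
    (bimp (isHex (Nat.lor (Nat.lor 0x1b (sing a)) (sing e)))
    (bimp (isHex (Nat.lor (Nat.lor 0xf (sing b)) (sing e))) (nall (fun f => bimp (tb 0x52340 f)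
    (bimp (isHex (Nat.lor (Nat.lor 0x100b (sing a)) (sing f))) (band (Nat.beq a 6) (band (Nat.beq b 8)
    (band (Nat.beq c 9) (band (Nat.beq d 13) (band (Nat.beq e 16) (Nat.beq f 18)))))))) 24)))) 24)))) 24))) 24))) 24))
    24 = true := by decide +kernel

theorem rigid12 {τ : Equiv.Perm GolayPt} (hD : τ • S 0x5335f = S 0x5335f)
    (h : ∀ s ∈ hexadsOn (S 0x5335f), τ • s ∈ hexadsOn (S 0x5335f)) (h0 : Fz (S 0x1f) τ) : Fz (S 0x5335f) τ := by
  have e1 : ∀ q x, x < 24 → τ • S (Nat.lor q (sing x)) = τ • S q ∪ S (sing (ix (τ (px x)))) := fun q x hx => by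
    rw [S, S, S, ← msk_union, smul_finset_union, I.msk_sing hx, I.msk_sing (I.lt _), smul_finset_singleton, I.px_ix]
    rfl
  have h1 : Fz (S 0x101f) τ := by
    have := h _ (hex_of (a := Nat.lor 0x1f (sing 12)) (by decide +kernel))
    rw [e1 _ _ (by norm_num), h0.smul, msk_union] at this
    have h2 := (by decide +kernel : ∀ j < 24, isHex (Nat.lor 0x1f (sing j)) = true → j = 12) _ (I.lt _)
      (isHex_of (lor_lt (by norm_num) (I.lt _)) this)
    intro p hp
    rcases (by decide +kernel : ∀ p ∈ S 0x101f, p ∈ S 0x1f ∨ p = px 12) p hp with a | rfl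
    · exact h0 p a
    · rw [← I.px_ix (τ _), h2]
  have key : ∀ q x y, band (band (Nat.blt q 5000) (subs q 0x101f)) (band (band (Nat.blt x 24) (Nat.blt y 24))
      (isHex (Nat.lor (Nat.lor q (sing x)) (sing y)))) = true →
      isHex (Nat.lor (Nat.lor q (sing (ix (τ (px x))))) (sing (ix (τ (px y))))) = true := by
    intro q x y hc
    simp only [band_iff, Nat.blt_eq] at hc
    have := h _ (hex_of hc.2.2)
    rw [e1 _ _ hc.2.1.2, e1 _ _ hc.2.1.1, Fz.smul (fun p hp => h1 p (S_subset hc.1.2 hp)), msk_union,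
      msk_union] at this
    exact isHex_of (lor_lt (lor_lt (by omega) (I.lt _)) (I.lt _)) this
  have hr : ∀ x < 24, tb 0x52340 x = true → tb 0x52340 (ix (τ (px x))) = true := fun x hx hb => by
    rw [← I.px_mem_msk hx] at hb
    rw [← I.px_mem_msk (I.lt _), I.px_ix]
    have e : S 0x52340 = S 0x5335f \ S 0x101f := by decide +kernel
    rw [S] at e
    rw [e] at hb ⊢
    rw [← hD, ← h1.smul, ← smul_finset_sdiff]
    exact smul_mem_smul_finset hb
  have hc := rig_chk
  simp only [nall_iff, bimp_iff, band_iff, Nat.beq_eq] at hc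
  obtain ⟨a1, a2, a3, a4, a5, a6⟩ := hc
    _ (I.lt _) (hr 6 (by norm_num) rfl) _ (I.lt _) (hr 8 (by norm_num) rfl) (key _ _ _ (by decide +kernel))
    _ (I.lt _) (hr 9 (by norm_num) rfl) (key _ _ _ (by decide +kernel))
    _ (I.lt _) (hr 13 (by norm_num) rfl) (key _ _ _ (by decide +kernel)) (key _ _ _ (by decide +kernel))
    _ (I.lt _) (hr 16 (by norm_num) rfl) (key _ _ _ (by decide +kernel)) (key _ _ _ (by decide +kernel))
    _ (I.lt _) (hr 18 (by norm_num) rfl) (key _ _ _ (by decide +kernel))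
  intro p hp
  rcases (by decide +kernel : ∀ p ∈ S 0x5335f, p ∈ S 0x101f ∨ p = px 6 ∨ p = px 8 ∨ p = px 9 ∨ p = px 13 ∨
    p = px 16 ∨ p = px 18) p hp with a | rfl | rfl | rfl | rfl | rfl | rfl
  · exact h1 p a
  all_goals rw [← I.px_ix (τ _)]; simp only [*]

theorem ext12 {g : Equiv.Perm GolayPt} (hD : g • S 0x5335f = S 0x5335f)
    (h : ∀ s ∈ hexadsOn (S 0x5335f), g • s ∈ hexadsOn (S 0x5335f)) :
    ∃ k ∈ K12, ∀ p ∈ S 0x5335f, k • p = g p := by
  obtain ⟨k, hk, e⟩ := td5.exists (stab_inv le_rfl) (([4,3,2,1,0].map px).map g) rfl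
    (List.Nodup.map g.injective (by decide +kernel)) (fun x hx => by
      obtain ⟨p, hp, rfl⟩ := List.mem_map.1 hx
      rw [← hD]
      exact smul_mem_smul_finset ((by decide +kernel : ∀ p ∈ [4,3,2,1,0].map px, p ∈ S 0x5335f) p hp))
  have hk' : k⁻¹ • S 0x5335f = S 0x5335f := K12.inv_mem hk
  have := rigid12 (τ := (k⁻¹ : M24) * g) (by rw [mul_smul, hD]; exact hk') (fun s hs => by
    rw [mul_smul]
    have := (mhex k⁻¹).2 (h s hs)
    rwa [hk'] at this) (fun p hp => by
      have := List.map_inj_left.1 e p ((by decide +kernel : ∀ p ∈ S 0x1f, p ∈ [4,3,2,1,0].map px) p hp)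
      rw [Equiv.Perm.mul_apply, ← this]
      exact inv_smul_smul k p)
  exact ⟨k, hk, fun p hp => by rw [eq_comm, ← inv_smul_eq_iff]; exact this p hp⟩

theorem fix12 {g : M24} (hg : g ∈ K12) (h : ∀ p ∈ S 0x5335f, g • p = p) : g = 1 :=
  base12 g hg fun b hb => h _ ((by decide +kernel : ∀ b ∈ [4,3,2,1,0], px b ∈ S 0x5335f) b hb)

theorem a12 (h : NF ι (S 0x5335f) (fun s => s ∈ hexadsOn (S 0x5335f)) B) : ∃ φ : K12 ≃* setSystemAut B,
    ∀ (g : K12) a, ι ((φ g : Equiv.Perm β) a) = (g : M24) • ι a := by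
  refine h.aut (fun σ hσ => ?_) (fun g => fix12) fun g hg => ⟨hg, fun s hs => ?_⟩
  · obtain ⟨k, hk, e⟩ := ext12 (g := σ.viaEmbedding ι) (by
      rw [← h.rng, ← map_smul (σ.viaEmbedding_apply ι), smul_finset_univ]) fun s hs => by
        obtain ⟨b, rfl⟩ := pre_of h.rng (hex_sub hs)
        rw [← map_smul (σ.viaEmbedding_apply ι), ← h.mem]
        exact mem_aut.1 hσ b ((h.mem b).2 hs)
    exact ⟨k, hk, fun a => by rw [e _ (mem_of h.rng a), σ.viaEmbedding_apply]⟩
  · have := (mhex g).2 hs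
    rwa [show g • S 0x5335f = S 0x5335f from hg] at this

theorem a11 (h : NF ι (S 0x5335e) (fun s => insert (px 0) s ∈ hexadsOn (S 0x5335f)) B) :
    ∃ φ : K11 ≃* setSystemAut B, ∀ (g : K11) a, ι ((φ g : Equiv.Perm β) a) = (g : M24) • ι a := by
  have eD : S 0x5335f = insert (px 0) (S 0x5335e) := by decide +kernel
  refine h.aut (fun σ hσ => ?_) (fun g hg h1 => fix12 hg.1 fun p hp => ?_) fun g hg => ?_
  · have p0 : σ.viaEmbedding ι • px 0 = px 0 := via_fz h.rng σ _ (by decide +kernel)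
    have hD : σ.viaEmbedding ι • S 0x5335f = S 0x5335f := by
      rw [eD, smul_finset_insert, p0, ← h.rng, ← map_smul (σ.viaEmbedding_apply ι), smul_finset_univ]
    have key : ∀ s ∈ hexadsOn (S 0x5335f), px 0 ∈ s → σ.viaEmbedding ι • s ∈ hexadsOn (S 0x5335f) := by
      intro s hs h0
      obtain ⟨b, e⟩ := pre_of h.rng (D1_eq ▸ erase_subset_erase (px 0) (hex_sub hs))
      rw [← insert_erase h0, ← e] at hs ⊢
      rw [smul_finset_insert, p0, ← map_smul (σ.viaEmbedding_apply ι), ← h.mem]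
      exact mem_aut.1 hσ b ((h.mem b).2 hs)
    obtain ⟨k, hk, e⟩ := ext12 hD fun s hs => by
      by_cases h0 : px 0 ∈ s
      · exact key s hs h0
      · have := hex_compl dod0 (key _ (hex_compl dod0 hs) (mem_sdiff.2 ⟨by decide +kernel, h0⟩))
        rwa [smul_finset_sdiff, hD, Finset.sdiff_sdiff_eq_self
          (hD ▸ smul_finset_subset_smul_finset (hex_sub hs))] at this
    exact ⟨k, ⟨hk, (e _ (by decide +kernel)).trans p0⟩, fun a => by
      rw [e _ (eD ▸ mem_insert_of_mem (mem_of h.rng a)), σ.viaEmbedding_apply]⟩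
  · rcases mem_insert.1 (eD ▸ hp) with rfl | hp
    · exact hg.2
    · exact h1 p hp
  · have e1 : g • S 0x5335f = S 0x5335f := hg.1
    have e2 : g • px 0 = px 0 := hg.2
    refine ⟨by rw [D1_eq, erase_eq, smul_finset_sdiff, e1, smul_finset_singleton, e2], fun s hs => ?_⟩
    have := (mhex g).2 hs
    rwa [e1, smul_finset_insert, e2] at this

end Gen

end CfsgH1.Un
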