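import Cfsg.Agent.H1.St3

/-! Self-dual codes of length 24 and distance 8; hyperovals; transitivity helpers. -/

set_option autoImplicit false
set_option maxRecDepth 100000

namespace CfsgH1.Un

open CfsgH7 CfsgH7.Gol CfsgH1.St Cfsg Finset MulAction
open scoped Pointwise

variable {α : Type*} [Fintype α] [DecidableEq α]

theorem dot_eq (v w : α → ZMod 2) : ∑ i, v i * w i = ((support₂ v ∩ support₂ w).card : ZMod 2) := by
  rw [card_eq_sum_ones, Nat.cast_sum, ← sum_subset (subset_univ (support₂ v ∩ support₂ w))]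
  · refine sum_congr rfl fun i hi => ?_
    rw [mem_inter, mem_supp, mem_supp, z2, z2] at hi
    simp [hi.1, hi.2]
  · intro i _ hi
    rw [mem_inter, mem_supp, mem_supp] at hi
    by_contra h
    exact hi ⟨left_ne_zero_of_mul h, right_ne_zero_of_mul h⟩

theorem card_supports (C : Submodule (ZMod 2) (α → ZMod 2)) :
    (bl (supports (C : Set (α → ZMod 2)))).card = 2 ^ Module.finrank (ZMod 2) C := by
  rw [bl, ← Set.ncard_eq_toFinset_card, supports, Set.ncard_image_of_injective _ supp_inj,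
    ← Nat.card_coe_set_eq]
  have := Module.natCard_eq_pow_finrank (K := ZMod 2) (V := C)
  rw [Nat.card_zmod] at this
  exact this

theorem sup_xor {C : Submodule (ZMod 2) (α → ZMod 2)} {a b : Finset α} (ha : a ∈ supports (C : Set (α → ZMod 2)))
    (hb : b ∈ supports (C : Set (α → ZMod 2))) : symmDiff a b ∈ supports (C : Set (α → ZMod 2)) := by
  rw [mem_supports] at *
  rw [ind_symmDiff]; exact C.add_mem ha hb

theorem sup_wt {C : Submodule (ZMod 2) (α → ZMod 2)} (hmin : ∀ w ∈ C, w ≠ 0 → 8 ≤ hammingNorm w) {a : Finset α}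
    (ha : a ∈ supports (C : Set (α → ZMod 2))) (h0 : a ≠ ∅) : 8 ≤ a.card := by
  obtain ⟨w, hw, rfl⟩ := ha
  rw [← norm_eq]
  exact hmin w hw fun e => h0 (by rw [e, ← ind_empty, supp_ind])

theorem code_gk (hα : Fintype.card α = 24) {C : Submodule (ZMod 2) (α → ZMod 2)}
    (hdim : Module.finrank (ZMod 2) C = 12) (horth : ∀ v ∈ C, ∀ w ∈ C, ∑ i, v i * w i = 0)
    (hmin : ∀ w ∈ C, w ≠ 0 → 8 ≤ hammingNorm w) : Gk ∅ (· ∈ supports (C : Set (α → ZMod 2))) := by
  have h0 : ∅ ∈ supports (C : Set (α → ZMod 2)) := by rw [mem_supports, ind_empty]; exact C.zero_mem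
  refine ⟨h0, fun _ _ => sup_xor, fun _ => sup_wt hmin, ?_, fun s hs _ => ?_⟩
  · rintro _ _ ⟨v, hv, rfl⟩ ⟨w, hw, rfl⟩
    have := horth v hv w hw
    rwa [dot_eq, ZMod.natCast_eq_zero_iff_even] at this
  · simpa using code_ex hα (C := bl (supports (C : Set (α → ZMod 2)))) (by rw [card_supports, hdim]; rfl)
      (by simpa using h0) (by simpa using fun _ ha _ hb => sup_xor ha hb)
      (by simpa using fun _ => sup_wt hmin) hs

theorem code_nf (hα : Fintype.card α = 24) {C : Submodule (ZMod 2) (α → ZMod 2)}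
    (hdim : Module.finrank (ZMod 2) C = 12) (horth : ∀ v ∈ C, ∀ w ∈ C, ∑ i, v i * w i = 0)
    (hmin : ∀ w ∈ C, w ≠ 0 → 8 ≤ hammingNorm w) :
    ∃ e : GolayPt ≃ α, ∀ s : Finset GolayPt, s.map e.toEmbedding ∈ supports (C : Set (α → ZMod 2)) ↔ s ∈ U := by
  have hG := code_gk hα hdim horth hmin
  let e : GolayPt ≃ α := Fintype.equivOfCardEq (by rw [hα, cardP])
  have sd : ∀ a b : Finset GolayPt, (symmDiff a b).map e.toEmbedding =
      symmDiff (a.map e.toEmbedding) (b.map e.toEmbedding) := fun a b => by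
    ext x; simp only [mem_map_equiv, mem_symmDiff]
  obtain ⟨π, -, h⟩ := nf0 (fun s => s.map e.toEmbedding ∈ supports (C : Set (α → ZMod 2)))
    ⟨by simpa using hG.emp, fun a b ha hb => by rw [sd]; exact hG.xor _ _ ha hb,
      fun a ha h0 => by simpa using hG.wt _ ha (by simpa using h0),
      fun a b ha hb => by simpa only [← map_inter, card_map] using hG.ev _ _ ha hb, fun s hs _ => by
        obtain ⟨b, b1, b2, b3⟩ := hG.ex (s.map e.toEmbedding) (by rwa [card_map]) (empty_subset _)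
        exact ⟨b.map e.symm.toEmbedding, by simpa [map_map] using b1, by rwa [card_map], fun x hx => by
          simpa using b3 (mem_map_of_mem _ hx)⟩⟩
  have e1 : ∀ s : Finset GolayPt, s.map (π.trans e).toEmbedding = (π • s).map e.toEmbedding := fun s => by
    ext x
    rw [mem_map_equiv, mem_map_equiv, ← inv_smul_mem_iff]; rfl
  have e2 : (fun s : Finset GolayPt => s.map (π.trans e).toEmbedding) '' U = supports (C : Set (α → ZMod 2)) := by
    refine Set.eq_of_subset_of_ncard_le ?_ ?_ (Set.toFinite _)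
    · rintro _ ⟨s, hs, rfl⟩
      simp only [e1]
      exact h s hs (by rw [S_zero]; exact empty_subset _)
    · rw [Set.ncard_image_of_injective _ (map_injective _), FC.ncard_univ, Set.ncard_eq_toFinset_card]
      exact (card_supports C).le.trans (by rw [hdim]; rfl)
  refine ⟨π.trans e, fun s => ?_⟩
  rw [← e2]
  exact (map_injective _).mem_set_image

theorem code_coset (hα : Fintype.card α = 24) {C : Submodule (ZMod 2) (α → ZMod 2)}
    (hdim : (bl (supports (C : Set (α → ZMod 2)))).card = 4096) (hmin : ∀ w ∈ C, w ≠ 0 → 8 ≤ hammingNorm w)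
    (w : α → ZMod 2) :
    (∃ u, {u | u - w ∈ C ∧ hammingNorm u ≤ 4} = {u} ∧ hammingNorm u ≤ 3) ∨
      ({u | u - w ∈ C ∧ hammingNorm u ≤ 4}.ncard = 6 ∧ ∀ u ∈ {u | u - w ∈ C ∧ hammingNorm u ≤ 4},
        hammingNorm u = 4 ∧ ∀ u' ∈ {u | u - w ∈ C ∧ hammingNorm u ≤ 4}, u ≠ u' →
          Disjoint (support₂ u) (support₂ u')) := by
  have key : ∀ u : α → ZMod 2, u ∈ {u | u - w ∈ C ∧ hammingNorm u ≤ 4} ↔ support₂ u ∈
      univ.filter fun u => symmDiff u (support₂ w) ∈ bl (supports (C : Set (α → ZMod 2))) ∧ u.card ≤ 4 := by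
    intro u
    rw [mem_filter, mem_bl, ← supp_add, supp_mem, ← norm_eq, Set.mem_setOf_eq, sub_eq_add_neg,
      show -w = w from funext fun i => ZMod.neg_eq_self_mod_two _]
    simp
  rcases coset hα hdim (by simpa using fun _ ha _ hb => sup_xor ha hb) (by simpa using fun _ => sup_wt hmin)
    (support₂ w) with ⟨u, h1, h2⟩ | ⟨h1, h2⟩
  · refine Or.inl ⟨ind u, Set.ext fun v => ?_, by rwa [norm_eq, supp_ind]⟩
    rw [key, h1, mem_singleton, Set.mem_singleton_iff]
    exact ⟨fun e => by rw [← e, ind_supp], fun e => by rw [e, supp_ind]⟩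
  · refine Or.inr ⟨?_, fun u hu => ⟨by rw [norm_eq]; exact (h2 _ ((key u).1 hu)).1, fun u' hu' h =>
      (h2 _ ((key u).1 hu)).2 _ ((key u').1 hu') (supp_inj.ne h)⟩⟩
    rw [← h1, ← Set.ncard_coe_finset, ← Set.ncard_image_of_injective _ supp_inj]
    congr 1
    ext s
    exact ⟨by rintro ⟨u, hu, rfl⟩; exact (key u).1 hu, fun h => ⟨ind s, (key _).2 (by rwa [supp_ind]), supp_ind s⟩⟩

theorem golay_min : ∀ w ∈ golayCode, w ≠ 0 → 8 ≤ hammingNorm w := fun w hw h0 => by
  have h1 := wt (supp_mem.2 hw : support₂ w ∈ U)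
  have h2 := hammingNorm_ne_zero_iff.2 h0
  rw [norm_eq] at h2 ⊢; omega

theorem golay_card : (bl U).card = 4096 := by rw [bl, ← Set.ncard_eq_toFinset_card, FC.ncard_univ]

/-- Transitivity on tuples extended by a fixed initial point. -/
theorem cons_tr {K : Subgroup M24} {A : Set GolayPt} {k : ℕ} (p : GolayPt) (hp : p ∈ A)
    (h : ∀ x y : Fin (k + 1) → GolayPt, Function.Injective x → Function.Injective y → (∀ i, x i ∈ A) →
      (∀ i, y i ∈ A) → ∃ z ∈ K, ∀ i, z • x i = y i) :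
    ∀ x y : Fin k → GolayPt, Function.Injective x → Function.Injective y → (∀ i, x i ∈ A \ {p}) →
      (∀ i, y i ∈ A \ {p}) → ∃ z ∈ K ⊓ stabilizer M24 p, ∀ i, z • x i = y i := by
  intro x y hx hy ax ay
  obtain ⟨z, hz, e⟩ := h (Fin.cons p x) (Fin.cons p y)
    (Fin.cons_injective_iff.2 ⟨by rintro ⟨i, e⟩; exact (ax i).2 e, hx⟩)
    (Fin.cons_injective_iff.2 ⟨by rintro ⟨i, e⟩; exact (ay i).2 e, hy⟩)
    (Fin.forall_fin_succ.2 ⟨hp, fun i => (ax i).1⟩) (Fin.forall_fin_succ.2 ⟨hp, fun i => (ay i).1⟩)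
  exact ⟨z, ⟨hz, e 0⟩, fun i => e i.succ⟩

theorem tr24 : ∀ x y : Fin 5 → GolayPt, Function.Injective x → Function.Injective y → (∀ i, x i ∈ Set.univ) →
    (∀ i, y i ∈ Set.univ) → ∃ z ∈ (⊤ : Subgroup M24), ∀ i, z • x i = y i :=
  tt5.emb (fun _ _ _ _ => Set.mem_univ _) rfl

theorem tr12 : ∀ x y : Fin 5 → GolayPt, Function.Injective x → Function.Injective y →
    (∀ i, x i ∈ (S 0x5335f : Set GolayPt)) → (∀ i, y i ∈ (S 0x5335f : Set GolayPt)) →
    ∃ z ∈ K12, ∀ i, z • x i = y i := td5.emb (stab_inv le_rfl) rfl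

theorem sharp12 {g : M24} (hg : g ∈ K12) {x : Fin 5 → GolayPt} (hx : Function.Injective x)
    (h1 : ∀ i, x i ∈ S 0x5335f) (h2 : ∀ i, g • x i = x i) : g = 1 := by
  obtain ⟨z, hz, e⟩ := tr12 (fun i => px i) x (by decide +kernel) hx (by decide +kernel) h1
  have := base12 (z⁻¹ * g * z) (K12.mul_mem (K12.mul_mem (K12.inv_mem hz) hg) hz) fun b hb => by
    have hb' : b < 5 := (by decide : ∀ b ∈ [4,3,2,1,0], b < 5) b hb
    have := e ⟨b, hb'⟩
    rw [mul_smul, mul_smul, this, h2, ← this, inv_smul_smul]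
  simpa [mul_assoc, inv_mul_eq_one, eq_comm] using this

/-- A line meets a hyperoval in zero or two points. -/
theorem oval_line (hα : Fintype.card α = 21) {L : Set (Finset α)} (hL : IsSteinerSystem 2 5 L) {H : Finset α}
    (h6 : H.card = 6) (h2 : ∀ l ∈ L, (l ∩ H).card ≤ 2) {l : Finset α} (hl : l ∈ L) {p : α} (hp : p ∈ H)
    (hpl : p ∈ l) : ∃ q ∈ H, q ≠ p ∧ q ∈ l := by
  have key : ∀ q, ∃ m, q ≠ p → m ∈ L ∧ p ∈ m ∧ q ∈ m := fun q => by
    by_cases h : q = p
    · exact ⟨∅, fun e => absurd h e⟩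
    · obtain ⟨m, hm, -⟩ := hL.2 {p, q} (card_pair (Ne.symm h))
      exact ⟨m, fun _ => ⟨hm.1, hm.2 (by simp), hm.2 (by simp)⟩⟩
  choose f hf using key
  have c5 : ((bl L).filter fun m => p ∈ m).card = 5 := by
    have := lam_small hL (by norm_num) hα (s := {p}) (by simp)
    rw [card_singleton, show A 21 2 5 1 = 5 by decide +kernel] at this
    simpa [lam] using this
  have e : (H.erase p).image f = (bl L).filter fun m => p ∈ m := by
    refine eq_of_subset_of_card_le (fun m hm => ?_) ?_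
    · obtain ⟨q, hq, rfl⟩ := mem_image.1 hm
      have := hf q (ne_of_mem_erase hq)
      simp [this.1, this.2.1]
    · rw [c5, card_image_of_injOn, card_erase_of_mem hp, h6]
      intro q hq q' hq' e
      by_contra hn
      rw [mem_coe, mem_erase] at hq hq'
      have a1 := hf q hq.1
      have a2 := hf q' hq'.1
      have := (card_le_card (show ({p, q, q'} : Finset α) ⊆ f q ∩ H by
        simp [insert_subset_iff, a1.2, e ▸ a2.2.2, hp, hq.2, hq'.2])).trans (h2 _ a1.1)
      rw [card_eq_three.2 ⟨_, _, _, hq.1.symm, hq'.1.symm, hn, rfl⟩] at this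
      omega
  obtain ⟨q, hq, rfl⟩ := mem_image.1 (e ▸ (by simp [hl, hpl] : l ∈ (bl L).filter fun m => p ∈ m))
  exact ⟨q, mem_of_mem_erase hq, ne_of_mem_erase hq, (hf q (ne_of_mem_erase hq)).2.2⟩

theorem oval_rigid (hα : Fintype.card α = 21) {L : Set (Finset α)} (hL : IsSteinerSystem 2 5 L) {H : Finset α}
    (h6 : H.card = 6) (h2 : ∀ l ∈ L, (l ∩ H).card ≤ 2) {g : Equiv.Perm α} (hg : g ∈ setSystemAut L)
    (hf : ∀ p ∈ H, g p = p) : g = 1 := by
  ext p
  by_cases hp : p ∈ H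
  · exact hf p hp
  have key : ∀ a ∈ H, ∃ l ∈ L, p ∈ l ∧ a ∈ l ∧ g p ∈ l := fun a ha => by
    obtain ⟨l, hl, -⟩ := hL.2 {p, a} (card_pair fun e => hp (e ▸ ha))
    have a1 : a ∈ l := hl.2 (by simp)
    obtain ⟨q, q1, q2, q3⟩ := oval_line hα hL h6 h2 hl.1 ha a1
    have : g • l = l := eq_of hL (mem_aut.1 hg l hl.1) hl.1 (s := {q, a}) (by
      rw [← hf q q1, ← hf a ha]
      exact insert_subset (smul_mem_smul_finset (a := g) q3) (singleton_subset_iff.2 (smul_mem_smul_finset (a := g) a1)))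
      (by simp [insert_subset_iff, q3, a1]) (card_pair q2).ge
    exact ⟨l, hl.1, hl.2 (by simp), a1, this ▸ smul_mem_smul_finset (a := g) (hl.2 (by simp))⟩
  obtain ⟨a, ha⟩ : H.Nonempty := card_pos.1 (by omega)
  obtain ⟨l, hl, l1, l2, l3⟩ := key a ha
  obtain ⟨b, hb, hbl⟩ := exists_mem_notMem_of_card_lt_card (show (l ∩ H).card < H.card by have := h2 l hl; omega)
  obtain ⟨m, hm, m1, m2, m3⟩ := key b hb
  by_contra hn
  have := eq_of hL hl hm (s := {g p, p}) (by simp [insert_subset_iff, l1, l3]) (by simp [insert_subset_iff, m1, m3])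
    (card_pair hn).ge
  exact hbl (mem_inter.2 ⟨this ▸ m2, hb⟩)

end CfsgH1.Un
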