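import Cfsg.Agent.H7.Msk
import Cfsg.Agent.H1.St2

/-! Normalising set systems step by step: enumeration of candidate blocks, each excluded or carried
to a chosen block by a permutation respecting the blocks already placed. -/

set_option autoImplicit false

namespace CfsgH1.Un

open CfsgH7 Finset
open scoped Pointwise

/-- Exchange two bits. -/
noncomputable def swp (x y a : Nat) : Nat :=
  Bool.rec (Bool.rec a (Nat.xor a (Nat.lor (sing x) (sing y))) (tb a y))
    (Bool.rec (Nat.xor a (Nat.lor (sing x) (sing y))) a (tb a y)) (tb a x)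

theorem swp_testBit (x y a i : Nat) : (swp x y a).testBit i = a.testBit (Equiv.swap x y i) := by
  unfold swp
  rw [tb_eq, tb_eq, Equiv.swap_apply_def]
  by_cases c1 : i = x
  · subst c1
    cases h1 : a.testBit i <;> cases h2 : a.testBit y <;> simp [xor_testBit, lor_testBit, sing_testBit, h1, h2]
  by_cases c2 : i = y
  · subst c2
    cases h1 : a.testBit x <;> cases h2 : a.testBit i <;>
      simp [xor_testBit, lor_testBit, sing_testBit, h1, h2, c1]
  · cases h1 : a.testBit x <;> cases h2 : a.testBit y <;>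
      simp [xor_testBit, lor_testBit, sing_testBit, c1, c2, Ne.symm c1, Ne.symm c2]

/-- Apply a list of exchanges (last one first). -/
noncomputable def app (w : List (Nat × Nat)) (a : Nat) : Nat :=
  List.rec (motive := fun _ => Nat) a (fun e _ ih => force ih (swp e.1 e.2)) w

/-- The exchanges avoid the mask `z`. -/
noncomputable def wok (m z : Nat) (w : List (Nat × Nat)) : Bool :=
  lall (fun e => band (Nat.blt e.1 m) (band (Nat.blt e.2 m) (band (Bool.not (tb z e.1)) (Bool.not (tb z e.2))))) w

/-- Exchanges inside cells, moving `a` towards `b`. -/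
noncomputable def gr (L : List Nat) (m b n : Nat) : Nat → List (Nat × Nat) → List (Nat × Nat) :=
  Nat.rec (motive := fun _ => Nat → List (Nat × Nat) → List (Nat × Nat)) (fun _ acc => acc)
    (fun _ ih a acc => Bool.rec (force (Nat.log2 (andn a b)) fun x =>
      force (Nat.log2 (Nat.land (andn b a) (cell L m x))) fun y =>
        force (swp x y a) fun a' => ih a' ((x, y) :: acc)) acc (Nat.beq a b)) n

/-- Some member of a list passes a test. -/
noncomputable def lany {β : Type} (f : β → Bool) (l : List β) : Bool :=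
  List.rec (motive := fun _ => Bool) false (fun a _ ih => Bool.rec ih true (f a)) l

theorem lany_iff {β : Type} {f : β → Bool} {l : List β} : lany f l = true ↔ ∃ a ∈ l, f a = true := by
  induction l with
  | nil => simp [lany]
  | cons a l ih =>
    have e : lany f (a :: l) = Bool.rec (lany f l) true (f a) := rfl
    rw [e]
    cases h : f a
    · simp [h, ih]
    · simp [h]

/-- Lazy disjunction. -/
noncomputable def bor (a b : Bool) : Bool := Bool.rec b true a

theorem bor_iff {a b : Bool} : bor a b = true ↔ a = true ∨ b = true := by cases a <;> simp [bor]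

/-- All extensions of `acc` by `r` new points below `n` pass the test. -/
noncomputable def allK (f : Nat → Bool) (n : Nat) : Nat → Nat → Bool :=
  Nat.rec (motive := fun _ => Nat → Nat → Bool)
    (fun r acc => Nat.rec (motive := fun _ => Bool) (f acc) (fun _ _ => true) r)
    (fun n ih r acc => Nat.rec (motive := fun _ => Bool) (f acc)
      (fun r _ => band (ih (Nat.succ r) acc) (bor (tb acc n) (force (Nat.lor acc (sing n)) (ih r)))) r) n

/-- The number of extensions of `acc` by `r` new points below `n` passing the test. -/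
noncomputable def cntK (f : Nat → Bool) (n : Nat) : Nat → Nat → Nat :=
  Nat.rec (motive := fun _ => Nat → Nat → Nat)
    (fun r acc => Nat.rec (motive := fun _ => Nat) (Bool.rec 0 1 (f acc)) (fun _ _ => 0) r)
    (fun n ih r acc => Nat.rec (motive := fun _ => Nat) (Bool.rec 0 1 (f acc))
      (fun r _ => force (ih (Nat.succ r) acc) fun u =>
        Bool.rec (Nat.add u (force (Nat.lor acc (sing n)) (ih r))) u (tb acc n)) r) n

/-- The word respects the placed blocks and carries `m0` to `a`. -/
noncomputable def okW (m z : Nat) (L : List Nat) (sp : Nat → Bool) (m0 a : Nat) (w : List (Nat × Nat)) : Bool :=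
  band (Nat.beq (app w m0) a) (band (wok m z w) (lall (fun l => force (app w l) sp) L))

/-- A candidate is excluded or equivalent to the chosen block. -/
noncomputable def chk (m z : Nat) (L : List Nat) (kill sp : Nat → Bool) (m0 : Nat)
    (Ws : List (List (Nat × Nat))) (a : Nat) : Bool :=
  bor (kill a) (lany (fun ws => okW m z L sp m0 a (gr L m a 8 (app ws m0) ws)) Ws)

/-- Reduction along pivots. -/
noncomputable def red (E : List (Nat × Nat)) : Nat → Nat :=
  List.rec (motive := fun _ => Nat → Nat) (fun a => a)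
    (fun e _ ih a => Bool.rec (ih a) (force (Nat.xor a e.2) ih) (tb a e.1)) E

theorem red_ind {φ : Nat → Prop} (hx : ∀ a b, φ a → φ b → φ (a ^^^ b)) {E : List (Nat × Nat)}
    (hE : ∀ e ∈ E, φ e.2) {a : Nat} (h : φ (red E a)) : φ a := by
  induction E generalizing a with
  | nil => exact h
  | cons e E ih =>
    have e1 : red (e :: E) a = Bool.rec (red E a) (force (Nat.xor a e.2) (red E)) (tb a e.1) := rfl
    rw [e1, force_eq] at h
    cases h1 : tb a e.1
    · rw [h1] at h; exact ih (fun e he => hE e (by simp [he])) h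
    · rw [h1] at h
      have := hx _ _ (ih (fun e he => hE e (by simp [he])) h) (hE e (by simp))
      have e2 : Nat.xor a e.2 ^^^ e.2 = a := by
        show a ^^^ e.2 ^^^ e.2 = a
        rw [Nat.xor_assoc, Nat.xor_self, Nat.xor_zero]
      rwa [e2] at this

variable {α : Type*} [Fintype α] [DecidableEq α] {ix : α → Nat} {px : Nat → α} {m : Nat}

/-- The permutation of a list of exchanges. -/
def prm (px : Nat → α) : List (Nat × Nat) → Equiv.Perm α
  | [] => 1
  | e :: w => Equiv.swap (px e.1) (px e.2) * prm px w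

theorem msk_swp (I : Ix ix px m) {x y : Nat} (hx : x < m) (hy : y < m) (a : Nat) :
    msk ix (swp x y a) = Equiv.swap (px x) (px y) • msk ix a := by
  ext p
  rw [← Finset.inv_smul_mem_iff, mem_msk, mem_msk, swp_testBit, Equiv.swap_inv, Equiv.Perm.smul_def]
  congr 2
  by_cases h1 : p = px x
  · rw [h1, Equiv.swap_apply_left, I.ix_px x hx, I.ix_px y hy, Equiv.swap_apply_left]
  by_cases h2 : p = px y
  · rw [h2, Equiv.swap_apply_right, I.ix_px x hx, I.ix_px y hy, Equiv.swap_apply_right]
  rw [Equiv.swap_apply_of_ne_of_ne h1 h2, Equiv.swap_apply_of_ne_of_ne]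
  · rintro rfl; exact h1 (I.px_ix p).symm
  · rintro rfl; exact h2 (I.px_ix p).symm

/-- The permutation fixes the points of `Z`. -/
def Fz (Z : Finset α) (π : Equiv.Perm α) : Prop := ∀ p ∈ Z, π p = p

omit [Fintype α] [DecidableEq α] in
theorem Fz.mul {Z : Finset α} {π σ : Equiv.Perm α} (h1 : Fz Z π) (h2 : Fz Z σ) : Fz Z (π * σ) :=
  fun p hp => by rw [Equiv.Perm.mul_apply, h2 p hp, h1 p hp]

omit [Fintype α] [DecidableEq α] in
theorem Fz.inv {Z : Finset α} {π : Equiv.Perm α} (h1 : Fz Z π) : Fz Z π⁻¹ :=
  fun p hp => by rw [Equiv.Perm.inv_eq_iff_eq, h1 p hp]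

omit [Fintype α] in
theorem Fz.smul {Z : Finset α} {π : Equiv.Perm α} (h1 : Fz Z π) : π • Z = Z := by
  refine eq_of_subset_of_card_le (fun p hp => ?_) (by rw [card_smul_finset])
  obtain ⟨q, hq, rfl⟩ := mem_smul_finset.1 hp
  rwa [Equiv.Perm.smul_def, h1 q hq]

theorem app_spec (I : Ix ix px m) {z : Nat} {w : List (Nat × Nat)} (h : wok m z w = true) :
    Fz (msk ix z) (prm px w) ∧ ∀ a, msk ix (app w a) = prm px w • msk ix a := by
  induction w with
  | nil => exact ⟨fun _ _ => rfl, fun a => (one_smul _ _).symm⟩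
  | cons e w ih =>
    obtain ⟨h1, h2⟩ := band_iff.1 h
    obtain ⟨a1, a2⟩ := band_iff.1 h1
    obtain ⟨a2, a3⟩ := band_iff.1 a2
    obtain ⟨a3, a4⟩ := band_iff.1 a3
    have b1 : e.1 < m := by simpa [Nat.blt_eq] using a1
    have b2 : e.2 < m := by simpa [Nat.blt_eq] using a2
    obtain ⟨i1, i2⟩ := ih h2
    refine ⟨Fz.mul (fun p hp => Equiv.swap_apply_of_ne_of_ne ?_ ?_) i1, fun a => ?_⟩
    · rintro rfl; rw [I.px_mem_msk b1] at hp; simp [hp] at a3
    · rintro rfl; rw [I.px_mem_msk b2] at hp; simp [hp] at a4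
    · have e1 : app (e :: w) a = force (app w a) (swp e.1 e.2) := rfl
      rw [e1, force_eq, msk_swp I b1 b2, i2, prm, mul_smul]

theorem allK_spec (I : Ix ix px m) {f : Nat → Bool} {n : Nat} (hn : n ≤ m) {r acc : Nat}
    (h : allK f n r acc = true) {t : Finset α} (h1 : ∀ p ∈ t, ix p < n) (h2 : Disjoint t (msk ix acc))
    (h3 : t.card = r) : ∃ a, msk ix a = msk ix acc ∪ t ∧ f a = true := by
  induction n generalizing r acc t with
  | zero =>
    obtain rfl : t = ∅ := eq_empty_of_forall_notMem fun p hp => by simpa using h1 p hp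
    obtain rfl : r = 0 := h3.symm
    exact ⟨acc, by simp, h⟩
  | succ n ih =>
    cases r with
    | zero => rw [card_eq_zero.1 h3]; exact ⟨acc, by simp, h⟩
    | succ r =>
      obtain ⟨a1, a2⟩ := band_iff.1 h
      by_cases hp : px n ∈ t
      · rcases bor_iff.1 a2 with a2 | a2
        · exact absurd ((I.px_mem_msk (by omega)).2 a2) (disjoint_left.1 h2 hp)
        · rw [force_eq] at a2
          obtain ⟨a, e, ha⟩ := ih (by omega) a2 (t := t.erase (px n)) (fun p hp => by
              have := h1 p (mem_of_mem_erase hp)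
              have : ix p ≠ n := fun e => (ne_of_mem_erase hp) (by rw [← e, I.px_ix])
              omega)
            (by rw [← msk_union, I.msk_sing (by omega), disjoint_union_right]
                exact ⟨h2.mono_left (erase_subset _ _), by simp⟩)
            (by rw [card_erase_of_mem hp, h3]; rfl)
          refine ⟨a, ?_, ha⟩
          rw [e, ← msk_union, I.msk_sing (by omega), union_assoc, ← insert_eq, insert_erase hp]
      · exact ih (by omega) a1 (fun p hpt => by
          have := h1 p hpt
          have : ix p ≠ n := fun e => hp (by rwa [← e, I.px_ix])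
          omega) h2 h3

open Classical in
theorem cntK_spec (I : Ix ix px m) {f : Nat → Bool} {P : Finset α → Prop} (hf : ∀ a, f a = true ↔ P (msk ix a))
    {n : Nat} (hn : n ≤ m) (r acc : Nat) :
    cntK f n r acc = (univ.filter fun t : Finset α => (∀ p ∈ t, ix p < n) ∧ Disjoint t (msk ix acc) ∧
      t.card = r ∧ P (msk ix acc ∪ t)).card := by
  have z : ∀ n acc, (Bool.rec 0 1 (f acc) : Nat) = (univ.filter fun t : Finset α => (∀ p ∈ t, ix p < n) ∧
      Disjoint t (msk ix acc) ∧ t.card = 0 ∧ P (msk ix acc ∪ t)).card := by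
    intro n acc
    cases h : f acc
    · symm
      rw [card_eq_zero, filter_eq_empty_iff]
      rintro t _ ⟨_, _, h3, h4⟩
      rw [card_eq_zero.1 h3, union_empty, ← hf, h] at h4
      exact absurd h4 (by simp)
    · symm
      rw [card_eq_one]
      refine ⟨∅, eq_singleton_iff_unique_mem.2 ⟨by simp [← hf, h], fun t ht => ?_⟩⟩
      exact card_eq_zero.1 (mem_filter.1 ht).2.2.2.1
  induction n generalizing r acc with
  | zero =>
    cases r with
    | zero => exact z 0 acc
    | succ r =>
      symm
      rw [show cntK f 0 (r + 1) acc = 0 from rfl, card_eq_zero, filter_eq_empty_iff]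
      rintro t _ ⟨h1, _, h3, _⟩
      obtain ⟨p, hp⟩ := card_pos.1 (show 0 < t.card by omega)
      simpa using h1 p hp
  | succ n ih =>
    cases r with
    | zero => exact z _ acc
    | succ r =>
      have e : cntK f (n + 1) (r + 1) acc = force (cntK f n (r + 1) acc) fun u =>
        Bool.rec (Nat.add u (force (Nat.lor acc (sing n)) (cntK f n r))) u (tb acc n) := rfl
      have hn' : n < m := by omega
      rw [← card_filter_add_card_filter_not (fun t => px n ∉ t), filter_filter, filter_filter,
        e, force_eq, force_eq, ih (by omega), ih (by omega)]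
      have e1 : (univ.filter fun t : Finset α => ((∀ p ∈ t, ix p < n + 1) ∧ Disjoint t (msk ix acc) ∧
          t.card = r + 1 ∧ P (msk ix acc ∪ t)) ∧ px n ∉ t) = univ.filter fun t : Finset α =>
          (∀ p ∈ t, ix p < n) ∧ Disjoint t (msk ix acc) ∧ t.card = r + 1 ∧ P (msk ix acc ∪ t) := by
        refine filter_congr fun t _ => ⟨fun ⟨⟨h1, h2⟩, h3⟩ => ⟨fun p hp => ?_, h2⟩,
          fun ⟨h1, h2⟩ => ⟨⟨fun p hp => (h1 p hp).trans (by omega), h2⟩, fun h => ?_⟩⟩
        · have := h1 p hp
          have : ix p ≠ n := fun e => h3 (by rwa [← e, I.px_ix])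
          omega
        · have := h1 _ h
          rw [I.ix_px n hn'] at this; omega
      rw [e1]
      cases h : tb acc n
      · show (_ : Nat) + (_ : Nat) = _
        congr 1
        have hna : px n ∉ msk ix acc := by rw [I.px_mem_msk hn', h]; simp
        rw [← msk_union, I.msk_sing hn']
        refine card_bij (fun t _ => insert (px n) t) (fun t ht => ?_) (fun t ht u hu e => ?_) fun t ht => ?_
        · simp only [mem_filter, mem_univ, true_and, disjoint_union_right, disjoint_singleton_right] at ht ⊢
          refine ⟨⟨fun p hp => ?_, disjoint_insert_left.2 ⟨hna, ht.2.1.1⟩,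
            by rw [card_insert_of_notMem ht.2.1.2, ht.2.2.1], ?_⟩, by simp⟩
          · rcases mem_insert.1 hp with rfl | hp
            · rw [I.ix_px n hn']; omega
            · exact (ht.1 p hp).trans (by omega)
          · rw [insert_eq, ← union_assoc]; exact ht.2.2.2
        · simp only [mem_filter, mem_univ, true_and, disjoint_union_right, disjoint_singleton_right] at ht hu
          rw [← erase_insert ht.2.1.2, e, erase_insert hu.2.1.2]
        · simp only [mem_filter, mem_univ, true_and, not_not] at ht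
          refine ⟨t.erase (px n), ?_, insert_erase ht.2⟩
          simp only [mem_filter, mem_univ, true_and, disjoint_union_right, disjoint_singleton_right]
          refine ⟨fun p hp => ?_, ⟨ht.1.2.1.mono_left (erase_subset _ _), by simp⟩,
            by rw [card_erase_of_mem ht.2, ht.1.2.2.1]; rfl, ?_⟩
          · have := ht.1.1 p (mem_of_mem_erase hp)
            have : ix p ≠ n := fun e => (ne_of_mem_erase hp) (by rw [← e, I.px_ix])
            omega
          · rw [union_assoc, ← insert_eq, insert_erase ht.2]; exact ht.1.2.2.2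
      · show (_ : Nat) = (_ : Nat) + (_ : Nat)
        rw [left_eq_add, card_eq_zero, filter_eq_empty_iff]
        rintro t _ ⟨⟨_, h2, _⟩, h3⟩
        exact disjoint_left.1 h2 (not_not.1 h3) ((I.px_mem_msk hn').2 h)

theorem ncard_K (I : Ix ix px m) {f : Nat → Bool} {P : Finset α → Prop} (hf : ∀ a, f a = true ↔ P (msk ix a))
    (r acc : Nat) : {t : Finset α | Disjoint t (msk ix acc) ∧ t.card = r ∧ P (msk ix acc ∪ t)}.ncard =
      cntK f m r acc := by
  rw [cntK_spec I hf le_rfl, ← Set.ncard_coe_finset]
  congr 1; ext t; simp [I.lt]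

/-- After a permutation fixing `Z`, the placed blocks `L` can be enlarged to `L'`. -/
def Rch (ix : α → Nat) (Φ : (Finset α → Prop) → Prop) (Z : Finset α) (L L' : List Nat) : Prop :=
  ∀ C, Φ C → (∀ l ∈ L, C (msk ix l)) → ∃ π, Fz Z π ∧ ∀ l ∈ L', C (π • msk ix l)

theorem Rch.trans {Φ : (Finset α → Prop) → Prop} {Z : Finset α}
    (hΦ : ∀ C π, Φ C → Fz Z π → Φ fun a => C (π • a)) {L L' L'' : List Nat}
    (h1 : Rch ix Φ Z L L') (h2 : Rch ix Φ Z L' L'') : Rch ix Φ Z L L'' := by
  intro C hC hL
  obtain ⟨π, a1, a2⟩ := h1 C hC hL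
  obtain ⟨σ, b1, b2⟩ := h2 _ (hΦ C π hC a1) a2
  exact ⟨π * σ, a1.mul b1, fun l hl => by rw [mul_smul]; exact b2 l hl⟩

theorem Rch.mono {Φ Ψ : (Finset α → Prop) → Prop} {Z Y : Finset α} (h : ∀ C, Ψ C → Φ C) (hY : Y ⊆ Z)
    {L L' : List Nat} (h1 : Rch ix Φ Z L L') : Rch ix Ψ Y L L' := fun C hC hL => by
  obtain ⟨π, a1, a2⟩ := h1 C (h C hC) hL
  exact ⟨π, fun p hp => a1 p (hY hp), a2⟩

theorem step (I : Ix ix px m) {Φ : (Finset α → Prop) → Prop} {z : Nat} {L : List Nat} {kill sp : Nat → Bool}
    {s r m0 : Nat} {Ws : List (List (Nat × Nat))}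
    (hex : ∀ C, Φ C → ∃ b, C b ∧ msk ix s ⊆ b ∧ b.card = (msk ix s).card + r)
    (hk : ∀ C, Φ C → (∀ l ∈ L, C (msk ix l)) → ∀ a, C (msk ix a) → kill a = true → False)
    (hsp : ∀ C, Φ C → (∀ l ∈ L, C (msk ix l)) → ∀ a, sp a = true → C (msk ix a))
    (h : allK (chk m z L kill sp m0 Ws) m r s = true) : Rch ix Φ (msk ix z) L (m0 :: L) := by
  intro C hC hL
  obtain ⟨b, b1, b2, b3⟩ := hex C hC
  obtain ⟨a, e, ha⟩ := allK_spec I le_rfl h (t := b \ msk ix s) (fun p _ => I.lt p) sdiff_disjoint
    (by rw [card_sdiff_of_subset b2]; omega)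
  rw [union_sdiff_of_subset b2] at e
  subst e
  rcases bor_iff.1 ha with ha | ha
  · exact (hk C hC hL a b1 ha).elim
  obtain ⟨ws, _, h1⟩ := lany_iff.1 ha
  obtain ⟨h1, h2⟩ := band_iff.1 h1
  obtain ⟨h2, h3⟩ := band_iff.1 h2
  obtain ⟨i1, i2⟩ := app_spec I h2
  refine ⟨_, i1, fun l hl => ?_⟩
  rw [← i2]
  rcases List.mem_cons.1 hl with rfl | hl
  · rwa [Nat.eq_of_beq_eq_true h1]
  · have := lall_iff.1 h3 l hl
    rw [force_eq] at this
    exact hsp C hC hL _ this

end CfsgH1.Un
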