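import Cfsg.Agent.H7.Gol.Tr2
import Cfsg.Agent.H1.Un

/-! Uniqueness of the length-24 code and of the hexad system, relative to fixed points. -/

set_option autoImplicit false
set_option maxRecDepth 100000

namespace CfsgH1.Un

open CfsgH7 CfsgH7.Gol CfsgH1.St Cfsg Finset
open scoped Pointwise

theorem gk_inv {α : Type*} [DecidableEq α] {Z : Finset α} (C : Finset α → Prop) (π : Equiv.Perm α)
    (h : Gk Z C) (hπ : Fz Z π) : Gk Z fun a => C (π • a) := by
  refine ⟨by simpa using h.emp, fun a b ha hb => ?_, fun a ha h0 => ?_, fun a b ha hb => ?_, fun s hs h1 => ?_⟩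
  · rw [smul_finset_symmDiff]; exact h.xor _ _ ha hb
  · have := h.wt _ ha (by simpa using h0)
    rwa [card_smul_finset] at this
  · have := h.ev _ _ ha hb
    rwa [← smul_finset_inter, card_smul_finset] at this
  · obtain ⟨b, b1, b2, b3⟩ := h.ex (π • s) (by rwa [card_smul_finset])
      (hπ.smul ▸ smul_finset_subset_smul_finset h1)
    exact ⟨π⁻¹ • b, by simpa using b1, by rwa [card_smul_finset], subset_smul_finset_iff.2 (by simpa using b3)⟩

/-- Exclusion by parity or by a short sum. -/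
noncomputable def kill24 (L Ks : List Nat) (a : Nat) : Bool :=
  bor (lany (fun l => tb (cnt 5 24 (Nat.land a l)) 0) L)
    (lany (fun c => force (cnt 5 24 (Nat.xor a (comb L c))) fun k => band (Nat.blt 0 k) (Nat.blt k 8)) Ks)

/-- Membership in the span. -/
noncomputable def sp24 (L : List Nat) (E : List (Nat × Nat)) (a : Nat) : Bool :=
  Nat.beq (red (E.map fun e => (e.1, comb L e.2)) a) 0

theorem gk_comb {C : Finset GolayPt → Prop} (h0 : C ∅)
    (hx : ∀ a b, C a → C b → C (symmDiff a b)) {L : List Nat} (hL : ∀ l ∈ L, C (S l)) (c : Nat) :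
    C (S (comb L c)) :=
  comb_induction (φ := fun a => C (S a)) (by rwa [S_zero])
    (fun a b ha hb => by have := hx _ _ ha hb; rwa [msk_symmDiff] at this) hL c

theorem sp24_spec {C : Finset GolayPt → Prop} (h0 : C ∅)
    (hx : ∀ a b, C a → C b → C (symmDiff a b)) {L : List Nat} (hL : ∀ l ∈ L, C (S l)) {E : List (Nat × Nat)}
    {a : Nat} (h : sp24 L E a = true) : C (S a) := by
  have h1 : red (E.map fun e => (e.1, comb L e.2)) a = 0 := Nat.eq_of_beq_eq_true h
  refine red_ind (φ := fun a => C (S a)) (E := E.map fun e => (e.1, comb L e.2)) (fun a b ha hb => ?_)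
    (fun e he => ?_) ?_
  · have := hx _ _ ha hb; rwa [msk_symmDiff] at this
  · obtain ⟨e, _, rfl⟩ := List.mem_map.1 he; exact gk_comb h0 hx hL _
  · rw [h1, S_zero]; exact h0

theorem step24 {z m0 : Nat} {L : List Nat} (s : Nat) (Ks : List Nat) (E : List (Nat × Nat))
    (Ws : List (List (Nat × Nat))) (h : band (band (Nat.beq (cnt 5 24 s) 5) (subs z s))
      (allK (chk 24 z L (kill24 L Ks) (sp24 L E) m0 Ws) 24 3 s) = true) :
    Rch ix (Gk (S z)) (S z) L (m0 :: L) := by
  obtain ⟨h1, h2⟩ := band_iff.1 h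
  obtain ⟨h0, h1⟩ := band_iff.1 h1
  have h5 : (S s).card = 5 := by rw [card_S, Nat.eq_of_beq_eq_true h0]
  refine step I (fun C hC => ?_) (fun C hC hL a ha hk => ?_) (fun C hC hL a ha => sp24_spec hC.emp hC.xor hL ha) h2
  · obtain ⟨b, b1, b2, b3⟩ := hC.ex _ h5 (S_subset h1)
    exact ⟨b, b1, b3, by rw [h5, b2]⟩
  · rcases bor_iff.1 hk with hk | hk
    · obtain ⟨l, hl, h3⟩ := lany_iff.1 hk
      have := hC.ev _ _ ha (hL l hl)
      rw [msk_inter, card_S, Nat.even_iff] at this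
      rw [tb_eq, Nat.testBit_zero, this] at h3
      simp at h3
    · obtain ⟨c, _, h3⟩ := lany_iff.1 hk
      rw [force_eq, ← card_S] at h3
      have := hC.xor _ _ ha (gk_comb hC.emp hC.xor hL c)
      rw [msk_symmDiff] at this
      obtain ⟨a1, a2⟩ := band_iff.1 h3
      have a1' := Nat.blt_eq ▸ a1
      have a2' := Nat.blt_eq ▸ a2
      have := hC.wt _ this (fun e => by rw [S, e] at a1'; simp at a1')
      exact absurd a2' (not_lt.2 this)

theorem c0 : Rch ix (Gk (S 0x800003)) (S 0x800003) [] (0xd40063 :: []) :=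
  step24 0x800063 [] []
    [[]] (by decide +kernel)

theorem c1 : Rch ix (Gk (S 0x800003)) (S 0x800003) [0xd40063] (0xa44413 :: [0xd40063]) :=
  step24 0xa00403 [1] [(23,1)]
    [[]] (by decide +kernel)

theorem c2 : Rch ix (Gk (S 0x800003)) (S 0x800003) [0xa44413, 0xd40063] (0x85028b :: [0xa44413, 0xd40063]) :=
  step24 0x84000b [1, 2] [(23,1), (22,3)]
    [[]] (by decide +kernel)

theorem c3 : Rch ix (Gk (S 0x800003)) (S 0x800003) [0x85028b, 0xa44413, 0xd40063] (0x841907 :: [0x85028b, 0xa44413, 0xd40063]) :=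
  step24 0x840007 [1, 2, 4] [(23,1), (21,3), (22,5)]
    [[]] (by decide +kernel)

theorem c4 : Rch ix (Gk (S 0x800003)) (S 0x800003) [0x841907, 0x85028b, 0xa44413, 0xd40063] (0x8ea003 :: [0x841907, 0x85028b, 0xa44413, 0xd40063]) :=
  step24 0x888003 [1, 2, 4, 8] [(23,1), (16,3), (21,5), (22,9)]
    [[]] (by decide +kernel)

theorem c5 : Rch ix (Gk (S 0x800003)) (S 0x800003) [0x8ea003, 0x841907, 0x85028b, 0xa44413, 0xd40063] (0x82402f :: [0x8ea003, 0x841907, 0x85028b, 0xa44413, 0xd40063]) :=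
  step24 0x800027 [16] [(23,1), (19,3), (16,6), (21,10), (22,18)]
    [[]] (by decide +kernel)

theorem c6 : Rch ix (Gk (S 0x800003)) (S 0x800003) [0x82402f, 0x8ea003, 0x841907, 0x85028b, 0xa44413, 0xd40063] (0x891423 :: [0x82402f, 0x8ea003, 0x841907, 0x85028b, 0xa44413, 0xd40063]) :=
  step24 0x800423 [1, 16] [(23,1), (19,3), (18,5), (16,12), (21,20), (22,36)]
    [[]] (by decide +kernel)

theorem c7 : Rch ix (Gk (S 0x800003)) (S 0x800003) [0x891423, 0x82402f, 0x8ea003, 0x841907, 0x85028b, 0xa44413, 0xd40063] (0xa02a23 :: [0x891423, 0x82402f, 0x8ea003, 0x841907, 0x85028b, 0xa44413, 0xd40063]) :=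
  step24 0x802023 [2, 1, 64] [(23,1), (19,3), (18,5), (16,15), (15,23), (21,40), (22,72)]
    [[]] (by decide +kernel)

theorem c8 : Rch ix (Gk (S 0x800003)) (S 0x800003) [0xa02a23, 0x891423, 0x82402f, 0x8ea003, 0x841907, 0x85028b, 0xa44413, 0xd40063] (0xe0900b :: [0xa02a23, 0x891423, 0x82402f, 0x8ea003, 0x841907, 0x85028b, 0xa44413, 0xd40063]) :=
  step24 0xa0000b [1, 32] [(23,1), (21,3), (19,6), (18,10), (16,30), (15,46), (17,85), (22,144)]
    [[], [(4,10), (6,20), (7,16), (8,12), (15,19), (20,22)]] (by decide +kernel)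

theorem c9 : Rch ix (Gk (S 0x800003)) (S 0x800003) [0xe0900b, 0xa02a23, 0x891423, 0x82402f, 0x8ea003, 0x841907, 0x85028b, 0xa44413, 0xd40063] (0x98081b :: [0xe0900b, 0xa02a23, 0x891423, 0x82402f, 0x8ea003, 0x841907, 0x85028b, 0xa44413, 0xd40063]) :=
  step24 0x880013 [205, 196, 16] [(23,1), (22,3), (21,6), (19,12), (18,20), (16,60), (15,92), (17,170), (20,383)]
    [[]] (by decide +kernel)

theorem c10 : Rch ix (Gk (S 0x800001)) (S 0x800001) [0x98081b, 0xe0900b, 0xa02a23, 0x891423, 0x82402f, 0x8ea003, 0x841907, 0x85028b, 0xa44413, 0xd40063] (0x914231 :: [0x98081b, 0xe0900b, 0xa02a23, 0x891423, 0x82402f, 0x8ea003, 0x841907, 0x85028b, 0xa44413, 0xd40063]) :=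
  step24 0x810221 [] [(23,1), (22,3), (21,5), (20,9), (19,24), (18,40), (16,120), (15,184), (17,340), (14,567)]
    [[], [(2,22), (3,18), (4,22), (6,15), (7,18), (8,17), (10,19), (12,19), (14,15), (17,20)], [(2,3), (3,18), (4,5), (5,9), (6,8), (7,13), (8,11), (9,15), (10,12), (11,20), (12,15), (13,18), (14,16), (15,21), (16,17), (17,18), (18,19), (19,20), (20,22)]] (by decide +kernel)

theorem c11 : Rch ix (Gk (S 0x800000)) (S 0x800000) [0x914231, 0x98081b, 0xe0900b, 0xa02a23, 0x891423, 0x82402f, 0x8ea003, 0x841907, 0x85028b, 0xa44413, 0xd40063] (0xb1d400 :: [0x914231, 0x98081b, 0xe0900b, 0xa02a23, 0x891423, 0x82402f, 0x8ea003, 0x841907, 0x85028b, 0xa44413, 0xd40063]) :=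
  step24 0x905400 [] [(23,1), (19,3), (22,5), (21,9), (20,18), (17,51), (18,99), (16,240), (15,368), (13,667), (14,1134)]
    [[], [(2,15), (3,11), (5,16), (6,17), (7,13), (8,22), (18,21)]] (by decide +kernel)

def L10 : List Nat := [0x98081b, 0xe0900b, 0xa02a23, 0x891423, 0x82402f, 0x8ea003, 0x841907, 0x85028b, 0xa44413, 0xd40063]

def E10 : List (Nat × Nat) := [(23,1), (22,3), (21,5), (20,9), (19,24), (18,40), (16,120), (15,184), (17,340), (14,567)]

def L11 : List Nat := [0x914231, 0x98081b, 0xe0900b, 0xa02a23, 0x891423, 0x82402f, 0x8ea003, 0x841907, 0x85028b, 0xa44413, 0xd40063]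

def E11 : List (Nat × Nat) := [(23,1), (19,3), (22,5), (21,9), (20,18), (17,51), (18,99), (16,240), (15,368), (13,667), (14,1134)]

def L12 : List Nat := [0xb1d400, 0x914231, 0x98081b, 0xe0900b, 0xa02a23, 0x891423, 0x82402f, 0x8ea003, 0x841907, 0x85028b, 0xa44413, 0xd40063]

def E12 : List (Nat × Nat) := [(23,1), (21,3), (19,6), (22,9), (20,17), (15,53), (17,102), (18,243), (16,469), (12,725), (13,1334), (14,2569)]

def St12 : List (Nat × Nat × List (List (Nat × Nat))) := [(0x1f, 0x101f, [[]]),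
  (0x4f, 0x24f, [[]]),
  (0x10f, 0x1010f, [[]]),
  (0x200f, 0x4200f, [[]]),
  (0x1251, 0x1253, [[]]),
  (0x52101, 0x52103, [[]]),
  (0x57, 0x157, [[], [(8,13), (16,18)]]),
  (0x2107, 0x2307, [[], [(4,6), (9,12)]]),
  (0x2017, 0x12017, [[]]),
  (0x217, 0x40217, [[]]),
  (0x2047, 0x3047, [[]]),
  (0x10047, 0x50047, [[]]),
  (0x1107, 0x41107, [[]]),
  (0x1207, 0x11207, [[]]),
  (0x10053, 0x1005b, [[]]),
  (0x4001b, 0x4011b, [[]]),
  (0x21b, 0x221b, [[]]),
  (0x204b, 0x214b, [[]]),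
  (0x104b, 0x4104b, [[]]),
  (0x30b, 0x130b, [[]]),
  (0x1020b, 0x5020b, [[]]),
  (0x300b, 0x1300b, [[]]),
  (0x2053, 0x42053, [[]]),
  (0x313, 0x10313, [[]]),
  (0x1113, 0x3113, [[]]),
  (0x11013, 0x51013, [[]]),
  (0x343, 0x40343, [[]]),
  (0x1143, 0x11143, [[]]),
  (0x2243, 0x12243, [[]]),
  (0x3203, 0x43203, [[]]),
  (0x5d, 0x205d, [[], [(4,6), (9,12), (13,18)]]),
  (0x11d, 0x31d, [[]]),
  (0x1001d, 0x5001d, [[]]),
  (0x1004d, 0x1104d, [[]]),
  (0x14d, 0x4014d, [[]]),
  (0x110d, 0x310d, [[]]),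
  (0x120d, 0x4120d, [[]]),
  (0x220d, 0x1220d, [[]]),
  (0x255, 0x10255, [[]]),
  (0x1055, 0x41055, [[]]),
  (0x1115, 0x11115, [[]]),
  (0x2115, 0x42115, [[]]),
  (0x1215, 0x3215, [[]]),
  (0x345, 0x1345, [[]]),
  (0x2145, 0x12145, [[]]),
  (0x2245, 0x42245, [[]]),
  (0x10305, 0x50305, [[]]),
  (0x13005, 0x53005, [[]]),
  (0x159, 0x1159, [[]]),
  (0x259, 0x40259, [[]]),
  (0x2119, 0x12119, [[]]),
  (0x1219, 0x11219, [[]]),
  (0x3019, 0x43019, [[]]),
  (0x349, 0x10349, [[]]),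
  (0x1249, 0x3249, [[]]),
  (0x12049, 0x52049, [[]]),
  (0x2309, 0x42309, [[]]),
  (0x11109, 0x51109, [[]]),
  (0x351, 0x2351, [[]]),
  (0x10151, 0x50151, [[]]),
  (0x3051, 0x13051, [[]]),
  (0x1311, 0x41311, [[]]),
  (0x12211, 0x52211, [[]]),
  (0x3141, 0x43141, [[]]),
  (0x11241, 0x51241, [[]]),
  (0x3301, 0x13301, [[]])]

theorem r10 : Rch ix (Gk (S 0x800003)) (S 0x800003) [] L10 :=
  (((((((((c0.trans gk_inv c1).trans gk_inv c2).trans gk_inv c3).trans gk_inv c4).trans gk_inv c5).trans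
    gk_inv c6).trans gk_inv c7).trans gk_inv c8).trans gk_inv c9)

theorem r11 : Rch ix (Gk (S 0x800001)) (S 0x800001) [] L11 :=
  (r10.mono (fun _ h => h.mono (S_subset (by decide +kernel))) (S_subset (by decide +kernel))).trans gk_inv c10

theorem r12 : Rch ix (Gk (S 0x800000)) (S 0x800000) [] L12 :=
  (r11.mono (fun _ h => h.mono (S_subset (by decide +kernel))) (S_subset (by decide +kernel))).trans gk_inv c11

theorem r0 : Rch ix (Gk (S 0)) (S 0) [] L12 :=
  r12.mono (fun _ h => h.mono (S_subset (by decide +kernel))) (S_subset (by decide +kernel))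

/-- The code words containing or missing `z` lie in the span. -/
noncomputable def spAll (z : Nat) (L : List Nat) (E : List (Nat × Nat)) : Bool :=
  nall2 (fun c => force (cwm c) fun a => bor (Bool.not (subs z a)) (sp24 L E a)) 0 64 64

theorem span_of {z : Nat} (hz : z < 2 ^ 24) {L : List Nat} {E : List (Nat × Nat)} (h : spAll z L E = true)
    {C : Finset GolayPt → Prop} (h0 : C ∅) (hx : ∀ a b, C a → C b → C (symmDiff a b))
    (hL : ∀ l ∈ L, C (S l)) {o : Finset GolayPt} (ho : o ∈ U) (hz' : S z ⊆ o) : C o := by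
  obtain ⟨c, hc, rfl⟩ := U_surj ho
  have := nall2_spec h c (Nat.zero_le c) hc
  rw [force_eq] at this
  rcases bor_iff.1 this with h1 | h1
  · have e : S (Nat.land z (cwm c)) = S z := by rw [S, ← msk_inter]; exact inter_eq_left.2 hz'
    have : Nat.land z (cwm c) = z := S_inj (lt_of_le_of_lt Nat.and_le_left hz) hz e
    rw [subs, this, Nat.beq_refl] at h1
    simp at h1
  · exact sp24_spec h0 hx hL h1

theorem sp10 : spAll 0x800003 L10 E10 = true := by decide +kernel
theorem sp11 : spAll 0x800001 L11 E11 = true := by decide +kernel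
theorem sp12 : spAll 0 L12 E12 = true := by decide +kernel

/-- Every structure relative to `Z` is a relabelling of the code. -/
def Nf (Z : Finset GolayPt) : Prop :=
  ∀ C, Gk Z C → ∃ π, Fz Z π ∧ ∀ o ∈ U, Z ⊆ o → C (π • o)

theorem nf_of {z y : Nat} (hy : y < 2 ^ 24) (hyz : S y ⊆ S z) {L : List Nat} {E : List (Nat × Nat)}
    (h : spAll y L E = true) (r : Rch ix (Gk (S z)) (S z) [] L) : Nf (S z) := fun C hC => by
  obtain ⟨π, h1, h2⟩ := r C hC (by simp)
  have := gk_inv C π hC h1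
  exact ⟨π, h1, fun o ho h3 => span_of (C := fun a => C (π • a)) hy h this.emp this.xor h2 ho (hyz.trans h3)⟩

theorem nf3 : Nf (S 0x800003) := nf_of (by norm_num) Subset.rfl sp10 r10
theorem nf2 : Nf (S 0x800001) := nf_of (by norm_num) Subset.rfl sp11 r11
theorem nf1 : Nf (S 0x800000) := nf_of (by norm_num) (S_subset (by decide +kernel)) sp12 r12
theorem nf0 : Nf (S 0) := nf_of (by norm_num) Subset.rfl sp12 r0

/-! ### Hexads -/

/-- The blocks through the point `0` of a hexad system on the standard dodecad. -/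
structure Hk (C : Finset GolayPt → Prop) : Prop where
  sub : ∀ b, C b → b ⊆ S 0x5335f ∧ b.card = 6
  int : ∀ a b, C a → C b → a ≠ b → (a ∩ b).card = 2 ∨ (a ∩ b).card = 3 ∨ (a ∩ b).card = 4
  ex : ∀ s, s ⊆ S 0x5335f → s.card = 5 → px 0 ∈ s → ∃ b, C b ∧ s ⊆ b

theorem fz_D {π : Equiv.Perm GolayPt} (h : Fz (S 0xfacca1) π) : π • S 0x5335f = S 0x5335f := by
  have h1 : Fz (S 0x5335f)ᶜ π := fun p hp => h p (S_subset (a := 0xfacca0) (by decide +kernel) (cD0 ▸ hp))
  have := h1.smul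
  ext p
  rw [← inv_smul_mem_iff, ← not_iff_not, ← mem_compl, ← mem_compl, inv_smul_mem_iff, this]

theorem hk_inv (C : Finset GolayPt → Prop) (π : Equiv.Perm GolayPt) (h : Hk C) (hπ : Fz (S 0xfacca1) π) :
    Hk fun a => C (π • a) := by
  refine ⟨fun b hb => ?_, fun a b ha hb hn => ?_, fun s h1 h2 h3 => ?_⟩
  · have := h.sub _ hb
    rwa [← fz_D hπ, smul_finset_subset_smul_finset_iff, card_smul_finset] at this
  · have := h.int _ _ ha hb (by simpa using hn)
    rwa [← smul_finset_inter, card_smul_finset] at this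
  · obtain ⟨b, b1, b2⟩ := h.ex (π • s) (fz_D hπ ▸ smul_finset_subset_smul_finset h1) (by rwa [card_smul_finset])
      (hπ (px 0) (by decide +kernel) ▸ smul_mem_smul_finset (a := π) h3)
    exact ⟨π⁻¹ • b, by simpa using b1, subset_smul_finset_iff.2 (by simpa using b2)⟩

/-- Exclusion of a candidate hexad. -/
noncomputable def kill12 (L : List Nat) (a : Nat) : Bool :=
  bor (Nat.blt 0 (cnt 5 24 (andn a 0x5335f)))
    (lany (fun l => force (cnt 5 24 (Nat.land a l)) fun k => bor (Nat.blt k 2) (Nat.beq k 5)) L)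

/-- A chain of steps. -/
noncomputable def chain12 (St : List (Nat × Nat × List (List (Nat × Nat)))) : List Nat → Bool :=
  List.rec (motive := fun _ => List Nat → Bool) (fun _ => true)
    (fun e _ ih L => band (band (band (Nat.beq (cnt 5 24 e.1) 5) (band (subs e.1 0x5335f) (tb e.1 0)))
      (allK (chk 24 0xfacca1 L (kill12 L) (fun a => lany (Nat.beq a) L) e.2.1 e.2.2) 24 1 e.1))
      (ih (e.2.1 :: L))) St

theorem chain12_spec {St : List (Nat × Nat × List (List (Nat × Nat)))} {L : List Nat}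
    (h : chain12 St L = true) : Rch ix Hk (S 0xfacca1) L ((St.map fun e => e.2.1).reverse ++ L) := by
  induction St generalizing L with
  | nil => exact fun C _ hL => ⟨1, fun _ _ => rfl, by simpa using hL⟩
  | cons e St ih =>
    obtain ⟨h1, h2⟩ := band_iff.1 h
    obtain ⟨h1, h3⟩ := band_iff.1 h1
    obtain ⟨h0, h1⟩ := band_iff.1 h1
    obtain ⟨h1, h4⟩ := band_iff.1 h1
    have h5 : (S e.1).card = 5 := by rw [card_S, Nat.eq_of_beq_eq_true h0]
    rw [List.map_cons, List.reverse_cons, List.append_assoc]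
    refine Rch.trans hk_inv (step I (fun C hC => ?_) (fun C hC hL a ha hk => ?_) (fun C hC hL a ha => ?_) h3) (ih h2)
    · obtain ⟨b, b1, b2⟩ := hC.ex _ (S_subset h1) h5 ((I.px_mem_msk (by norm_num)).2 h4)
      exact ⟨b, b1, b2, by rw [h5, (hC.sub b b1).2]⟩
    · rcases bor_iff.1 hk with hk | hk
      · rw [← card_S, S, ← msk_sdiff, sdiff_eq_empty_iff_subset.2 (hC.sub _ ha).1] at hk
        simp at hk
      · obtain ⟨l, hl, h6⟩ := lany_iff.1 hk
        rw [force_eq, ← card_S, S, ← msk_inter, bor_iff, Nat.blt_eq, Nat.beq_eq] at h6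
        by_cases e : msk ix a = msk ix l
        · rw [← e, inter_self, (hC.sub _ ha).2] at h6; omega
        · have := hC.int _ _ ha (hL l hl) e; omega
    · obtain ⟨l, hl, h6⟩ := lany_iff.1 ha
      rw [Nat.eq_of_beq_eq_true h6]; exact hL l hl

theorem ch12 : chain12 St12 [] = true := by decide +kernel

theorem hex_list : ∀ o ∈ octads, (o ∩ S 0x5335f).card = 6 → px 0 ∈ o →
    ∃ e ∈ St12, S e.2.1 = o ∩ S 0x5335f := by
  have key : nall2 (fun c => force (cwm c) fun a => force (Nat.land a 0x5335f) fun b =>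
      bor (Bool.not (band (Nat.beq (cnt 5 24 a) 8) (band (Nat.beq (cnt 5 24 b) 6) (tb a 0))))
        (lany (fun e => Nat.beq e.2.1 b) St12)) 0 64 64 = true := by decide +kernel
  intro o ho h6 h0
  obtain ⟨c, hc, rfl⟩ := U_surj ho.1
  have := nall2_spec key c (Nat.zero_le c) hc
  rw [force_eq, force_eq, ← card_S, ← card_S, ho.2, S, ← msk_inter, h6,
    (I.px_mem_msk (by norm_num)).1 h0] at this
  obtain ⟨e, he, h⟩ := lany_iff.1 ((bor_iff.1 this).resolve_left (by decide))
  exact ⟨e, he, by rw [Nat.eq_of_beq_eq_true h, msk_inter]⟩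

theorem nf12 {C : Finset GolayPt → Prop} (hC : Hk C) : ∃ π, Fz (S 0xfacca1) π ∧
    ∀ o ∈ octads, (o ∩ S 0x5335f).card = 6 → px 0 ∈ o → C (π • (o ∩ S 0x5335f)) := by
  obtain ⟨π, h1, h2⟩ := chain12_spec ch12 C hC (by simp)
  refine ⟨π, h1, fun o ho h6 h0 => ?_⟩
  obtain ⟨e, he, h⟩ := hex_list o ho h6 h0
  rw [← h]
  exact h2 _ (by simp only [List.append_nil, List.mem_reverse, List.mem_map]; exact ⟨e, he, rfl⟩)

end CfsgH1.Un
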