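import Mathlib

/-! Wielandt's theorem on automorphisms of odd order of doubly transitive groups. -/

set_option autoImplicit false

namespace CfsgH1.Wie

open MulAction Matrix

variable {G Ω : Type*} [Group G] [MulAction G Ω] [Fintype Ω]

theorem sum_smul (g : G) (f : Ω → ℤ) : ∑ x, f (g • x) = ∑ x, f x := Equiv.sum_comp (MulAction.toPerm g) f

theorem two [Nontrivial Ω] (h2 : IsMultiplyPretransitive G Ω 2) {N : Matrix Ω Ω ℤ} (h : ∀ (g : G) x y, N (g • x) (g • y) = N x y) :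
    ∃ a b : ℤ, (∀ x, N x x = a + b) ∧ ∀ w x, (N *ᵥ w) x = a * w x + b * ∑ y, w y := by
  classical
  have := isPretransitive_of_is_two_pretransitive (G := G) (α := Ω)
  obtain ⟨u, v, e⟩ := exists_pair_ne Ω
  have h1 : ∀ x y, N x y = (if x = y then N u u - N u v else 0) + N u v := fun x y => by
    split_ifs with a
    · obtain ⟨g, rfl⟩ := exists_smul_eq G u x
      rw [← a, h, sub_add_cancel]
    · obtain ⟨g, rfl, rfl⟩ := is_two_pretransitive_iff.1 h2 e a
      rw [h, zero_add]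
  refine ⟨N u u - N u v, N u v, fun x => by rw [h1 x x, if_pos rfl], fun w x => ?_⟩
  rw [mulVec, dotProduct, Finset.sum_congr rfl fun y _ => by rw [h1 x y, add_mul]]
  simp [Finset.sum_add_distrib, Finset.mul_sum]

theorem arith {n k m : ℕ} {a b c d : ℤ} (hm : Odd m) (hk : k.Coprime n) (h1 : 2 ≤ n) (h2 : 1 ≤ k) (h3 : k ≤ n)
    (e1 : (k : ℤ) = c + d) (e2 : (k : ℤ) ^ 2 = c + d * n) (e3 : (k : ℤ) ^ m = a + b * n) (e4 : a ^ 2 = c ^ m) :
    k = 1 ∨ k = n - 1 := by
  obtain ⟨j, rfl⟩ := hm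
  have h4 : k ≠ n := by rintro rfl; simp at hk; omega
  have h5 : IsCoprime (n : ℤ) (k ^ (2 * j)) := (Nat.isCoprime_iff_coprime.2 hk.symm).pow_right
  have h6 : (n : ℤ) ∣ k ^ (2 * j) - c ^ j := by
    rw [pow_mul]; exact (Dvd.intro_left d (by omega)).trans (sub_dvd_pow_sub_pow _ _ j)
  obtain ⟨s, rfl⟩ : c ^ j ∣ a := (Int.pow_dvd_pow_iff two_ne_zero).1 ⟨c, by rw [e4]; ring⟩
  have h7 : 0 ≤ d := by
    by_contra! e
    nlinarith
  have h8 : c ≠ 0 := by
    rintro rfl
    have : (k : ℤ) * k = k * n := by nlinarith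
    exact h4 (by simpa [show k ≠ 0 by omega] using this)
  have h9 : s ^ 2 = c := mul_left_cancel₀ (pow_ne_zero 2 (pow_ne_zero j h8)) (by rw [← mul_pow, e4]; ring)
  obtain ⟨t, ht⟩ : (n : ℤ) ∣ k - s := h5.dvd_of_dvd_mul_left (by
    have : (k : ℤ) ^ (2 * j) * (k - s) = b * n - (k ^ (2 * j) - c ^ j) * s := by linear_combination e3
    rw [this]
    exact dvd_sub (Dvd.intro_left _ rfl) (h6.mul_right _))
  have a0 : s ≤ c ∧ -s ≤ c := h9 ▸ ⟨Int.le_self_sq s, (Int.le_self_sq _).trans (neg_sq s).le⟩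
  have a1 : 0 ≤ t := (mul_nonneg_iff_of_pos_left (show (0 : ℤ) < n by omega)).1 (by omega)
  have a2 : t < 2 := lt_of_mul_lt_mul_left (show n * t < n * 2 by omega) (by omega)
  obtain rfl | rfl : t = 0 ∨ t = 1 := by omega
  · left; nlinarith
  · have a3 : k + s = d := mul_left_cancel₀ (show (n : ℤ) ≠ 0 by omega) (by linear_combination e2 - h9 - (k + s) * ht)
    have a4 : s * (s + 1) = 0 := by linear_combination a3 + h9 - e1
    rcases mul_eq_zero.1 a4 with e | e <;> omega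

theorem card_eq [Nontrivial Ω] (h2 : IsMultiplyPretransitive G Ω 2) (o : Ω) (α : MulAut G) (hα : Odd (orderOf α)) (ω : Ω)
    (hk : (Nat.card (orbit ((stabilizer G o).map α.toMonoidHom) ω)).Coprime (Fintype.card Ω)) :
    Nat.card (orbit ((stabilizer G o).map α.toMonoidHom) ω) = 1 ∨
      Nat.card (orbit ((stabilizer G o).map α.toMonoidHom) ω) = Fintype.card Ω - 1 := by
  classical
  have := isPretransitive_of_is_two_pretransitive (G := G) (α := Ω)
  set O := orbit ((stabilizer G o).map α.toMonoidHom) ω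
  let M : Matrix Ω Ω ℤ := fun x y => if ∃ g : G, g • o = y ∧ α g • ω = x then 1 else 0
  have h1 : ∀ (g : G) x y, M (α g • x) (g • y) = M x y := fun g x y => if_congr
    ⟨fun ⟨h, a, b⟩ => ⟨g⁻¹ * h, by rw [mul_smul, a, inv_smul_smul], by rw [map_mul, mul_smul, b, map_inv, inv_smul_smul]⟩,
      fun ⟨h, a, b⟩ => ⟨g * h, by rw [mul_smul, a], by rw [map_mul, mul_smul, b]⟩⟩ rfl rfl
  have h3 : ∀ y, ∑ x, M x y = Nat.card O := fun y => by
    obtain ⟨g, rfl⟩ := exists_smul_eq G o y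
    rw [← sum_smul (α g), Finset.sum_congr rfl fun x _ => h1 g x o, Finset.sum_boole, Nat.card_eq_fintype_card, Fintype.card_subtype]
    congr 2
    refine Finset.filter_congr fun x _ => ?_
    exact ⟨fun ⟨g, a, b⟩ => ⟨⟨_, g, a, rfl⟩, b⟩, fun ⟨⟨_, g, a, rfl⟩, b⟩ => ⟨g, a, b⟩⟩
  have h4 : ∀ x, ∑ y, M x y = Nat.card O := fun x => by
    have a : ∀ z, ∑ y, M z y = ∑ y, M x y := fun z => by
      obtain ⟨g, rfl⟩ := exists_smul_eq G x z
      obtain ⟨g, rfl⟩ := α.surjective g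
      rw [← sum_smul g, Finset.sum_congr rfl fun y _ => h1 g x y]
    have b : ∑ z, ∑ y, M z y = ∑ y, ∑ z, M z y := Finset.sum_comm
    simpa [a, h3] using b
  have h5 : ∀ (i : ℕ) (g : G) x y, (M ^ i) ((α ^ i) g • x) (g • y) = (M ^ i) x y := fun i => by
    induction i with
    | zero => simp [one_apply]
    | succ i ih =>
      intro g x y
      rw [pow_succ', pow_succ', mul_apply, mul_apply, ← sum_smul ((α ^ i) g), MulAut.mul_apply]
      simp only [h1, ih]
  obtain ⟨a, b, -, a1⟩ := two h2 (N := M ^ orderOf α) fun g x y => by simpa [pow_orderOf_eq_one] using h5 (orderOf α) g x y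
  obtain ⟨c, d, a2, a3⟩ := two h2 (N := Mᵀ * M) fun g x y => by
    rw [mul_apply, mul_apply, ← sum_smul (α g)]
    simp only [transpose_apply, h1]
  have b1 : ∀ i : ℕ, (M ^ i) *ᵥ (fun _ => 1) = fun _ => (Nat.card O : ℤ) ^ i := fun i => by
    induction i with
    | zero => simp
    | succ i ih => ext x; rw [pow_succ', ← mulVec_mulVec, ih, mulVec, dotProduct, ← Finset.sum_mul, h4, pow_succ']
  have b2 : ∀ (i : ℕ) (w : Ω → ℤ), ∑ x, w x = 0 → (M ^ i *ᵥ w) ⬝ᵥ (M ^ i *ᵥ w) = c ^ i * w ⬝ᵥ w := fun i => by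
    induction i with
    | zero => simp
    | succ i ih =>
      intro w hw
      rw [pow_succ, ← mulVec_mulVec, ih, dotProduct_mulVec, vecMul_mulVec, ← mulVec_transpose, transpose_mul, transpose_transpose,
        funext (a3 w), hw, pow_succ, mul_assoc]
      · simp [dotProduct, Finset.mul_sum, mul_assoc]
      · simp only [mulVec, dotProduct]
        rw [Finset.sum_comm]
        simp [← Finset.sum_mul, h3, ← Finset.mul_sum, hw]
  obtain ⟨u, v, e⟩ := exists_pair_ne Ω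
  have b3 : ∑ x, (Pi.single u 1 - Pi.single v 1 : Ω → ℤ) x = 0 := by simp
  have b4 := b2 (orderOf α) _ b3
  rw [funext (a1 _), b3] at b4
  refine arith (a := a) (b := b) (c := c) (d := d) hα hk Fintype.one_lt_card (Nat.card_pos_iff.2 ⟨⟨_, mem_orbit_self ω⟩, inferInstance⟩)
    (by simpa using Nat.card_le_card_of_injective _ (Subtype.val_injective (p := (· ∈ O)))) ?_ ?_
    (by simpa [b1] using a1 (fun _ => 1) o) ?_
  · rw [← a2 o, ← h3 o, mul_apply]
    exact Finset.sum_congr rfl fun x _ => by rw [transpose_apply]; simp [M]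
  · have := a3 (fun _ => 1) o
    rw [← mulVec_mulVec, ← pow_one M, b1, pow_one, pow_one, mulVec, dotProduct, ← Finset.sum_mul] at this
    simpa [h3, sq] using this
  · simp [dotProduct, mul_sub, sub_mul, Pi.single_apply, e, e.symm] at b4
    linarith

theorem induced [IsPretransitive G Ω] (o : Ω) (α : MulAut G) {x : Ω} (h : ∀ g ∈ stabilizer G o, α g • x = x) :
    ∃ σ : Equiv.Perm Ω, ∀ (g : G) y, α g • σ y = σ (g • y) := by
  choose t ht using exists_smul_eq G o
  have h1 : ∀ (g : G) y, α g • α (t y) • x = α (t (g • y)) • x := fun g y => by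
    rw [smul_smul, ← map_mul, ← inv_smul_eq_iff, smul_smul, ← map_inv, ← map_mul]
    exact h _ (by rw [mem_stabilizer_iff, mul_smul, mul_smul, ht, inv_smul_eq_iff, ht])
  refine ⟨.ofBijective (fun y => α (t y) • x) (Finite.surjective_iff_bijective.1 fun y => ?_), h1⟩
  obtain ⟨g, rfl⟩ := exists_smul_eq G (α (t o) • x) y
  obtain ⟨g, rfl⟩ := α.surjective g
  exact ⟨_, (h1 g o).symm⟩

theorem wie (h2 : IsMultiplyPretransitive G Ω 2) (o : Ω) (α : MulAut G) (hα : Odd (orderOf α)) (ω : Ω)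
    (hk : (Nat.card (orbit ((stabilizer G o).map α.toMonoidHom) ω)).Coprime (Fintype.card Ω)) :
    (∃ σ : Equiv.Perm Ω, ∀ (g : G) y, α g • σ y = σ (g • y)) ∧ (Nat.card (orbit ((stabilizer G o).map α.toMonoidHom) ω) = 1 ∨
      Nat.card (orbit ((stabilizer G o).map α.toMonoidHom) ω) = Fintype.card Ω - 1) := by
  have := isPretransitive_of_is_two_pretransitive (G := G) (α := Ω)
  rcases subsingleton_or_nontrivial Ω with h | h
  · exact ⟨⟨1, fun _ _ => Subsingleton.elim _ _⟩, Or.inl (Nat.card_eq_one_iff_unique.2 ⟨inferInstance, _, mem_orbit_self ω⟩)⟩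
  refine ⟨(card_eq h2 o α hα ω hk).elim (fun e => induced o α (x := ω) fun g hg => ?_) fun e => ?_, card_eq h2 o α hα ω hk⟩
  · exact congrArg Subtype.val ((Nat.card_eq_one_iff_unique.1 e).1.elim ⟨_, ⟨_, g, hg, rfl⟩, rfl⟩ ⟨_, mem_orbit_self _⟩)
  · obtain ⟨x, hx⟩ := Set.ncard_eq_one.1 (show (orbit ((stabilizer G o).map α.toMonoidHom) ω)ᶜ.ncard = 1 by
      have := Set.ncard_add_ncard_compl (orbit ((stabilizer G o).map α.toMonoidHom) ω)
      have := Fintype.card_pos (α := Ω)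
      rw [Nat.card_coe_set_eq, ← Nat.card_eq_fintype_card] at *
      omega)
    refine induced o α (x := x) fun g hg => Set.mem_singleton_iff.1 (hx ▸ fun a => ?_)
    exact (hx.ge rfl : x ∈ _) ((orbit_eq_iff.2 a) ▸ mem_orbit_symm.1 ⟨⟨_, g, hg, rfl⟩, rfl⟩)

theorem wie_hall [Finite G] (h2 : IsMultiplyPretransitive G Ω 2) (o : Ω)
    (h : (Nat.card (stabilizer G o)).Coprime (stabilizer G o).index) (α : MulAut G) (hα : Odd (orderOf α)) :
    ∃ σ : Equiv.Perm Ω, ∀ (g : G) y, α g • σ y = σ (g • y) := by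
  have := isPretransitive_of_is_two_pretransitive (G := G) (α := Ω)
  rw [index_stabilizer_of_transitive, Nat.card_eq_fintype_card (α := Ω)] at h
  refine (wie h2 o α hα o (h.coprime_dvd_left ?_)).1
  rw [Nat.card_coe_set_eq, ← index_stabilizer, ← Subgroup.card_map_of_injective (f := α.toMonoidHom) α.injective]
  exact Subgroup.index_dvd_card _

theorem norm {G : Subgroup (Equiv.Perm Ω)} {α : MulAut G} (h : ∃ σ : Equiv.Perm Ω, ∀ (g : G) y, α g • σ y = σ (g • y)) :
    ∃ σ : Equiv.Perm Ω, σ ∈ Subgroup.normalizer (G : Set (Equiv.Perm Ω)) ∧ ∀ g : G, (α g).1 = σ * g * σ⁻¹ := by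
  obtain ⟨σ, h⟩ := h
  have h1 : ∀ g : G, (α g).1 = σ * g * σ⁻¹ := fun g => eq_mul_inv_of_mul_eq (Equiv.ext (h g))
  exact ⟨σ, Subgroup.mem_normalizer_fintype fun g hg => h1 ⟨g, hg⟩ ▸ (α _).2, h1⟩

end CfsgH1.Wie
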